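import Cfsg.Agent.H949.SubInv
import Cfsg.Agent.Characters.GaloisIrr
import Cfsg.Agent.Characters.GaloisBasic
import Cfsg.Agent.Classification.TypeZIV.Parity
import Cfsg.Agent.Tits.Gate
import Cfsg.Agent.ChevalleyStructure.CoxeterGeom
import Cfsg.Agent.H116.HeckeE
import Cfsg.Agent.H116.RatB0.RowRgd
import Cfsg.Agent.H940.RatB.Count
import Cfsg.Agent.H443.XC.Defs
import Cfsg.Agent.FastGrp
import Cfsg.Agent.Prune
set_option linter.all false
prune_inst 0x7ffcfffaebedbfffdfff7fbffffbfff9b1c82fffe6fffd43ffe1eb9fdbbf03a7cfefffbf8df092fedff7639450b8f843fbffffffea6ffe7ffffdffb45ffbee4ff5f7bd0951de9cb406ae0fff63f0570e6f3ffff7ffffffffffffffffffffffffffffebfeffff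
open scoped Cfsg.Agent.FastGrp

-- part: H498/RP/Abs
section
/-!
# Rationality of the constituents of a permutation character: the abstract part (helper498)

* `Lc C χ` : the convolution `(Lc χ f) c = ∑ g, χ g * f (g⁻¹ • c)` on the functions on a `G`-set `C`;
* `Lc_Lc` : `Lc χ (Lc χ f) = (|G| / χ 1) Lc χ f`;
* `Kop k` : the operator with kernel `k`; it commutes with `Lc χ` if `k` is invariant;
* `eig_mul` : eigenvectors of a matrix with distinct rational eigenvalues;
* `rat_of_sum` : if all the sums `∑ h ∈ H, χ (x h)` are rational and the one for `x = 1` is not zero then `χ` is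
  integer valued.
-/

set_option autoImplicit false

open Cfsg
open scoped ComplexConjugate

namespace Cfsg.Agent.H498.RP

open Cfsg.Agent.Characters.Core Cfsg.Agent.Characters

universe u v

section Conv

variable {G : Type u} [Group G] [Fintype G] (C : Type v) [MulAction G C]

/-- the convolution with `χ` -/
noncomputable def Lc (χ : G → ℂ) : (C → ℂ) →ₗ[ℂ] (C → ℂ) where
  toFun f c := ∑ g : G, χ g * f (g⁻¹ • c)
  map_add' f f' := by
    funext c
    simp only [Pi.add_apply, mul_add, Finset.sum_add_distrib]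
  map_smul' a f := by
    funext c
    simp only [Pi.smul_apply, smul_eq_mul, RingHom.id_apply, Finset.mul_sum]
    exact Finset.sum_congr rfl fun g _ => by ring

variable {C}

theorem Lc_apply (χ : G → ℂ) (f : C → ℂ) (c : C) : Lc C χ f c = ∑ g : G, χ g * f (g⁻¹ • c) := rfl

theorem Lc_Lc {χ : G → ℂ} (hχ : IsIrrCharacter G χ) (f : C → ℂ) :
    Lc C χ (Lc C χ f) = ((Nat.card G : ℂ) / χ 1) • Lc C χ f := by
  funext c
  rw [Lc_apply, Pi.smul_apply, smul_eq_mul, Lc_apply, Finset.mul_sum]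
  have h1 : ∀ g : G, χ g * Lc C χ f (g⁻¹ • c) = ∑ k : G, χ g * χ (g⁻¹ * k) * f (k⁻¹ • c) := by
    intro g
    rw [Lc_apply, Finset.mul_sum]
    refine Fintype.sum_equiv (Equiv.mulLeft g) _ _ fun h => ?_
    rw [Equiv.coe_mulLeft, inv_mul_cancel_left, mul_inv_rev, mul_smul, mul_assoc]
  rw [Finset.sum_congr rfl fun g _ => h1 g, Finset.sum_comm]
  refine Finset.sum_congr rfl fun k _ => ?_
  rw [← Finset.sum_mul, ← mul_assoc]
  congr 1
  have h2 := Classification.TypeZIV.Parity.sum_conv (isIrr_isClassFunction hχ) hχ k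
  have h3 : ∑ y, χ y * conj (χ y) = (Nat.card G : ℂ) := by
    have h4 := classInner_irr_self hχ
    rw [classInner_def] at h4
    have h5 : (Nat.card G : ℂ) ≠ 0 := by exact_mod_cast Nat.card_pos.ne'
    have h6 := congrArg (fun z => (Nat.card G : ℂ) * z) h4
    rw [mul_one, ← mul_assoc, mul_inv_cancel₀ h5, one_mul] at h6
    exact h6
  rw [h3] at h2
  rw [← h2]
  refine Fintype.sum_equiv (Equiv.inv G) _ _ fun g => ?_
  rw [Equiv.inv_apply, ← isCharacter_apply_inv (isIrr_isCharacter hχ), inv_inv, mul_comm]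
  congr 1
  have h7 := isIrr_isClassFunction hχ (k * g⁻¹) (g⁻¹)
  rw [← h7]
  congr 1
  group

/-- the operator with kernel `k` -/
noncomputable def Kop [Fintype C] (k : C → C → ℂ) : (C → ℂ) →ₗ[ℂ] (C → ℂ) where
  toFun f c := ∑ d : C, k c d * f d
  map_add' f f' := by
    funext c
    simp only [Pi.add_apply, mul_add, Finset.sum_add_distrib]
  map_smul' a f := by
    funext c
    simp only [Pi.smul_apply, smul_eq_mul, RingHom.id_apply, Finset.mul_sum]
    exact Finset.sum_congr rfl fun g _ => by ring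

theorem Kop_apply [Fintype C] (k : C → C → ℂ) (f : C → ℂ) (c : C) : Kop k f c = ∑ d : C, k c d * f d := rfl

theorem Lc_Kop [Fintype C] {k : C → C → ℂ} (hk : ∀ (g : G) (c d : C), k (g • c) (g • d) = k c d) (χ : G → ℂ)
    (f : C → ℂ) : Lc C χ (Kop k f) = Kop k (Lc C χ f) := by
  funext c
  rw [Lc_apply, Kop_apply]
  have h1 : ∀ g : G, χ g * Kop k f (g⁻¹ • c) = ∑ d : C, k c d * (χ g * f (g⁻¹ • d)) := by
    intro g
    rw [Kop_apply, Finset.mul_sum]
    refine Fintype.sum_equiv (MulAction.toPerm g) _ _ fun d => ?_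
    rw [MulAction.toPerm_apply, inv_smul_smul]
    have h2 := hk g (g⁻¹ • c) d
    rw [smul_inv_smul] at h2
    rw [h2]
    ring
  rw [Finset.sum_congr rfl fun g _ => h1 g, Finset.sum_comm]
  refine Finset.sum_congr rfl fun d _ => ?_
  rw [Lc_apply, Finset.mul_sum]

/-- the convolution of an invariant function is invariant -/
theorem Lc_smul {χ : G → ℂ} (hχ : IsClassFunction G χ) {f : C → ℂ} {h : G} (hf : ∀ c, f (h • c) = f c) (c : C) :
    Lc C χ f (h • c) = Lc C χ f c := by
  rw [Lc_apply, Lc_apply]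
  refine Fintype.sum_equiv (MulAut.conj h⁻¹).toEquiv _ _ fun g => ?_
  show χ g * f (g⁻¹ • h • c) = χ (h⁻¹ * g * h⁻¹⁻¹) * f ((h⁻¹ * g * h⁻¹⁻¹)⁻¹ • c)
  rw [hχ g h⁻¹]
  congr 1
  have h1 := hf ((h⁻¹ * g * h⁻¹⁻¹)⁻¹ • c)
  rw [← h1, ← mul_smul, ← mul_smul]
  congr 2
  group

end Conv

/-! ### eigenvectors -/

section Eig

open Module

variable {r : ℕ}

/-- the rational eigenvectors of a matrix with `r` distinct rational eigenvalues form a basis -/
theorem exists_coeff {B : (Fin r → ℚ) →ₗ[ℚ] (Fin r → ℚ)} {U : Fin r → Fin r → ℚ} {θ : Fin r → ℚ}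
    (hθ : Function.Injective θ) (hU : ∀ i, B (U i) = θ i • U i) (hU0 : ∀ i, U i ≠ 0) (ψ : Fin r → ℚ) :
    ∃ d : Fin r → ℚ, ψ = ∑ i, d i • U i := by
  have h1 : LinearIndependent ℚ U := Module.End.eigenvectors_linearIndependent' B θ hθ U
    fun i => ⟨Module.End.mem_eigenspace_iff.2 (hU i), hU0 i⟩
  have h2 : Submodule.span ℚ (Set.range U) = ⊤ := by
    apply h1.span_eq_top_of_card_eq_finrank'
    rw [Fintype.card_fin, Module.finrank_fin_fun]
  have h3 : ψ ∈ Submodule.span ℚ (Set.range U) := by rw [h2]; exact Submodule.mem_top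
  obtain ⟨d, hd⟩ := (Submodule.mem_span_range_iff_exists_fun ℚ).1 h3
  exact ⟨d, hd.symm⟩

/-- over the complex numbers the eigenspaces are lines -/
theorem eig_mul {B : (Fin r → ℂ) →ₗ[ℂ] (Fin r → ℂ)} {U : Fin r → Fin r → ℂ} {θ : Fin r → ℂ}
    (hθ : Function.Injective θ) (hU : ∀ i, B (U i) = θ i • U i) (hU0 : ∀ i, U i ≠ 0) {ψ : Fin r → ℂ} {i : Fin r}
    (hψ : B ψ = θ i • ψ) : ∃ c : ℂ, ψ = c • U i := by
  have h1 : LinearIndependent ℂ U := Module.End.eigenvectors_linearIndependent' B θ hθ U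
    fun i => ⟨Module.End.mem_eigenspace_iff.2 (hU i), hU0 i⟩
  have h2 : Submodule.span ℂ (Set.range U) = ⊤ := by
    apply h1.span_eq_top_of_card_eq_finrank'
    rw [Fintype.card_fin, Module.finrank_fin_fun]
  have h3 : ψ ∈ Submodule.span ℂ (Set.range U) := by rw [h2]; exact Submodule.mem_top
  obtain ⟨d, hd⟩ := (Submodule.mem_span_range_iff_exists_fun ℂ).1 h3
  have h4 : ∑ j, (d j * (θ j - θ i)) • U j = 0 := by
    have h5 : B ψ - θ i • ψ = 0 := sub_eq_zero.2 hψ
    rw [← hd, map_sum, Finset.smul_sum, ← Finset.sum_sub_distrib] at h5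
    rw [← h5]
    refine Finset.sum_congr rfl fun j _ => ?_
    rw [map_smul, hU, smul_smul, smul_smul, ← sub_smul]
    congr 1
    ring
  have h5 := (Fintype.linearIndependent_iff.1 h1) _ h4
  refine ⟨d i, ?_⟩
  rw [← hd]
  refine Finset.sum_eq_single i (fun j _ hj => ?_) (fun h => absurd (Finset.mem_univ _) h)
  have h6 := (mul_eq_zero.1 (h5 j)).resolve_right (sub_ne_zero.2 fun h => hj (hθ h))
  rw [h6, zero_smul]

end Eig

/-! ### from the sums over the cosets to the values -/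

section Sum

variable {G : Type u} [Group G]

/-- **A constituent of a permutation character with rational sums over the cosets is integer valued.** -/
theorem rat_of_sum [Finite G] (H : Subgroup G) [Fintype H] {χ : G → ℂ} (hχ : IsIrrCharacter G χ)
    (h0 : ∑ h : H, χ h ≠ 0) (hF : ∀ x : G, ∃ a : ℚ, ∑ h : H, χ (x * h) = a) (g : G) : ∃ k : ℤ, χ g = k := by
  classical
  have : Fintype G := Fintype.ofFinite G
  refine GaloisBasic.exists_int_of_rat (isIrr_isCharacter hχ) g ?_
  refine GaloisBasic.exists_rat_of_forall_ringEquiv (GaloisBasic.isIntegral_apply (isIrr_isCharacter hχ) g).tower_top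
    fun σ => ?_
  have hG : (Nat.card G : ℂ) ≠ 0 := by exact_mod_cast Nat.card_pos.ne'
  set ψ : G → ℂ := fun g => σ (χ g) with hψdef
  have hψ : IsIrrCharacter G ψ := GaloisIrr.isIrr_map σ hχ
  have hF' : ∀ x : G, ∑ h : H, ψ (x * h) = ∑ h : H, χ (x * h) := by
    intro x
    obtain ⟨a, ha⟩ := hF x
    rw [ha]
    have h1 : ∑ h : H, ψ (x * h) = σ (∑ h : H, χ (x * h)) := by
      rw [map_sum]
    rw [h1, ha, map_ratCast]
  by_contra hne
  have hne' : ψ ≠ χ := fun h => hne (congrFun h g)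
  have key : ∀ {ζ : G → ℂ} (_ : IsIrrCharacter G ζ), ∑ g : G, conj (χ g) * ∑ h : H, ζ (g * h) =
      (Nat.card G : ℂ) * classInner ζ χ / ζ 1 * ∑ h : H, ζ h := by
    intro ζ hζ
    have hcl := isIrr_isClassFunction hζ
    have h6 : ∀ g : G, conj (χ g) * ∑ h : H, ζ (g * h) = ∑ h : H, conj (χ g) * ζ (h * g) := by
      intro g
      rw [Finset.mul_sum]
      refine Finset.sum_congr rfl fun h _ => ?_
      congr 1
      have h7 := hcl (g * h) h
      rw [← h7]
      congr 1
      group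
    rw [Finset.sum_congr rfl fun g _ => h6 g, Finset.sum_comm, Finset.mul_sum]
    refine Finset.sum_congr rfl fun h _ => ?_
    rw [H949.SubInv.sum_conj_mul hχ hζ (h : G)]
    ring
  have h1 := key hψ
  have h2 := key hχ
  rw [Finset.sum_congr rfl fun g _ => by rw [hF' g], h2, classInner_irr_self hχ, classInner_irr_ne hψ hχ hne',
    mul_zero, zero_div, zero_mul, mul_one] at h1
  rcases mul_eq_zero.1 h1 with h9 | h9
  · exact div_ne_zero hG (isIrr_apply_one_ne_zero hχ) h9
  · exact h0 h9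

end Sum

end Cfsg.Agent.H498.RP
end

-- part: H498/RP/Orb
section
/-!
# Orbits of dominant vectors, numbered (helper498)

`Orb A i0 m r` : a table for the orbit of a dominant vector fixed by all simple reflections but `i0`; `m` vectors, `r`
orbits of `W_J`, `J = {j | j ≠ i0}` ("levels").
`lab O cs h w` : the number of the vector `w⁻¹ v`.
-/

set_option autoImplicit false

namespace Cfsg.Agent.H498.RP

open CoxeterSystem Cfsg.Agent.Tits.Core Cfsg.Agent.Tits.Exchange Cfsg.Agent.ChevalleyStructure.CoxeterGeom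

/-- a table for the orbit of a dominant vector fixed by the simple reflections `j ≠ i0` -/
structure Orb {I : Type*} [Fintype I] [DecidableEq I] (A : I → I → ℤ) (i0 : I) (m r : ℕ) where
  vec : Fin m → I → ℤ
  act : I → Fin m → Fin m
  lv : Fin m → Fin r
  base : Fin r → Fin m
  dp : Fin m → ℕ
  dd : I → ℤ
  b0 : Fin m
  wd : Fin r → List I
  dd_pos : ∀ i, 0 < dd i
  symm : ∀ i j, dd i * A i j = dd j * A j i
  dom : ∀ i, 0 ≤ pairing A i (vec b0)
  dom0 : 0 < pairing A i0 (vec b0)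
  domJ : ∀ j, j ≠ i0 → pairing A j (vec b0) = 0
  inj : ∀ a b, vec a = vec b → a = b
  vec_act : ∀ i b, refl A i (vec b) = vec (act i b)
  lv_act' : ∀ j, j ≠ i0 → ∀ b, lv (act j b) = lv b
  lv_base : ∀ k, lv (base k) = k
  down : ∀ b, b = base (lv b) ∨ ∃ j, j ≠ i0 ∧ pairing A j (vec b) < 0 ∧ dp (act j b) < dp b
  word : ∀ k, (wd k).foldl (fun b i => act i b) b0 = base k

section Form

variable {I : Type*} [Fintype I] [DecidableEq I] {A : I → I → ℤ}

/-- the invariant form -/
def Bf (A : I → I → ℤ) (dd : I → ℤ) (x y : I → ℤ) : ℤ := ∑ i, dd i * x i * pairing A i y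

theorem Bf_single {dd : I → ℤ} (k : I) (y : I → ℤ) : Bf A dd (Pi.single k 1) y = dd k * pairing A k y := by
  unfold Bf
  rw [Finset.sum_eq_single k]
  · rw [Pi.single_eq_same, mul_one]
  · intro i _ hi
    rw [Pi.single_eq_of_ne hi, mul_zero, zero_mul]
  · intro h
    exact absurd (Finset.mem_univ _) h

theorem Bf_symm {dd : I → ℤ} (hs : ∀ i j, dd i * A i j = dd j * A j i) (x y : I → ℤ) :
    Bf A dd x y = Bf A dd y x := by
  unfold Bf pairing
  simp only [Finset.mul_sum]
  rw [Finset.sum_comm]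
  refine Finset.sum_congr rfl fun j _ => Finset.sum_congr rfl fun i _ => ?_
  linear_combination (x i * y j) * hs i j

theorem Bf_add_left {dd : I → ℤ} (x x' y : I → ℤ) : Bf A dd (x + x') y = Bf A dd x y + Bf A dd x' y := by
  unfold Bf
  rw [← Finset.sum_add_distrib]
  exact Finset.sum_congr rfl fun i _ => by rw [Pi.add_apply]; ring

theorem Bf_smul_left {dd : I → ℤ} (a : ℤ) (x y : I → ℤ) : Bf A dd (a • x) y = a * Bf A dd x y := by
  unfold Bf
  rw [Finset.mul_sum]
  exact Finset.sum_congr rfl fun i _ => by rw [Pi.smul_apply, smul_eq_mul]; ring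

theorem single_eq (k : I) (a : ℤ) : (Pi.single k a : I → ℤ) = a • Pi.single k 1 := by
  rw [← Pi.single_smul, smul_eq_mul, mul_one]

theorem Bf_refl {dd : I → ℤ} (hs : ∀ i j, dd i * A i j = dd j * A j i) (h2 : ∀ i, A i i = 2) (k : I) (x y : I → ℤ) :
    Bf A dd (refl A k x) (refl A k y) = Bf A dd x y := by
  have e : ∀ z : I → ℤ, refl A k z = z + (-(pairing A k z)) • Pi.single k 1 := by
    intro z
    rw [refl_apply, single_eq, neg_smul, sub_eq_add_neg]
  have h3 : ∀ z w : I → ℤ, Bf A dd (refl A k z) w = Bf A dd z w - pairing A k z * (dd k * pairing A k w) := by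
    intro z w
    rw [e z, Bf_add_left, Bf_smul_left, Bf_single]
    ring
  have h4 : pairing A k (refl A k y) = - pairing A k y := by
    rw [refl_apply, sub_eq_add_neg, pairing_add, ← Pi.single_neg, pairing_single, h2]
    ring
  rw [h3, h4, Bf_symm hs x, h3, Bf_symm hs y x]
  ring

end Form

section Lab

variable {I : Type*} [Fintype I] [DecidableEq I] {A : I → I → ℤ} {i0 : I} {m r : ℕ} (O : Orb A i0 m r)
  {M : CoxeterMatrix I} {W : Type*} [Group W] (cs : CoxeterSystem M W) (h : IsCartan M A)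

theorem exists_lab (w : W) : ∃ b, O.vec b = rep cs h w (O.vec O.b0) := by
  induction w using cs.simple_induction_left with
  | one => exact ⟨O.b0, by rw [map_one, Module.End.one_apply]⟩
  | mul_simple_left w i ih =>
    obtain ⟨b, hb⟩ := ih
    exact ⟨O.act i b, by rw [rep_mul_apply, ← hb, rep_simple, O.vec_act]⟩

/-- the number of `w⁻¹ v` -/
noncomputable def lab (w : W) : Fin m := (exists_lab O cs h w⁻¹).choose

theorem vec_lab (w : W) : O.vec (lab O cs h w) = rep cs h w⁻¹ (O.vec O.b0) := (exists_lab O cs h w⁻¹).choose_spec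

theorem lab_mul_simple (w : W) (i : I) : lab O cs h (w * cs.simple i) = O.act i (lab O cs h w) := by
  apply O.inj
  rw [vec_lab, ← O.vec_act, vec_lab, mul_inv_rev, cs.inv_simple, rep_mul_apply, rep_simple]

theorem lab_one : lab O cs h 1 = O.b0 := by
  apply O.inj
  rw [vec_lab, inv_one, map_one, Module.End.one_apply]

theorem refl_b0 {j : I} (hj : j ≠ i0) : refl A j (O.vec O.b0) = O.vec O.b0 := by
  rw [refl_apply, O.domJ j hj, Pi.single_zero, sub_zero]

theorem rep_WJ {u : W} (hu : u ∈ WJ cs {j | j ≠ i0}) : rep cs h u (O.vec O.b0) = O.vec O.b0 := by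
  obtain ⟨ω, hω, rfl⟩ := exists_word_of_mem_WJ cs hu
  clear hu
  induction ω with
  | nil => rw [cs.wordProd_nil, map_one, Module.End.one_apply]
  | cons i ω ih =>
    rw [cs.wordProd_cons, rep_mul_apply, ih fun j hj => hω j (by simp [hj]), rep_simple]
    exact refl_b0 O (hω i (by simp))

theorem lab_WJ_mul {u : W} (hu : u ∈ WJ cs {j | j ≠ i0}) (w : W) : lab O cs h (u * w) = lab O cs h w := by
  apply O.inj
  rw [vec_lab, vec_lab, mul_inv_rev, rep_mul_apply, rep_WJ O cs h (inv_mem hu)]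

theorem lv_act {j : I} (hj : j ≠ i0) (b : Fin m) : O.lv (O.act j b) = O.lv b := O.lv_act' j hj b

theorem lv_mul_WJ {u : W} (hu : u ∈ WJ cs {j | j ≠ i0}) (w : W) :
    O.lv (lab O cs h (w * u)) = O.lv (lab O cs h w) := by
  obtain ⟨ω, hω, rfl⟩ := exists_word_of_mem_WJ cs hu
  clear hu
  induction ω generalizing w with
  | nil => rw [cs.wordProd_nil, mul_one]
  | cons i ω ih =>
    rw [cs.wordProd_cons, ← mul_assoc, ih _ (fun j hj => hω j (by simp [hj])), lab_mul_simple]
    exact lv_act O (hω i (by simp)) _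

theorem Bf_rep (w : W) (x y : I → ℤ) : Bf A O.dd (rep cs h w x) (rep cs h w y) = Bf A O.dd x y := by
  induction w using cs.simple_induction_left with
  | one => rw [map_one, Module.End.one_apply, Module.End.one_apply]
  | mul_simple_left w i ih =>
    rw [rep_mul_apply, rep_mul_apply, rep_simple, Bf_refl O.symm h.diag, ih]

theorem Bf_nonneg {x : I → ℤ} (hx : 0 ≤ x) : 0 ≤ Bf A O.dd x (O.vec O.b0) := by
  unfold Bf
  refine Finset.sum_nonneg fun i _ => ?_
  exact mul_nonneg (mul_nonneg (O.dd_pos i).le (hx i)) (O.dom i)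

theorem Bf_nonpos {x : I → ℤ} (hx : x ≤ 0) : Bf A O.dd x (O.vec O.b0) ≤ 0 := by
  unfold Bf
  refine Finset.sum_nonpos fun i _ => ?_
  exact mul_nonpos_of_nonpos_of_nonneg (mul_nonpos_of_nonneg_of_nonpos (O.dd_pos i).le (hx i)) (O.dom i)

theorem dd_pairing (w : W) (i : I) : O.dd i * pairing A i (O.vec (lab O cs h w)) =
    Bf A O.dd (rep cs h w (Pi.single i 1)) (O.vec O.b0) := by
  rw [← Bf_single, vec_lab, ← Bf_rep O cs h w, ← rep_mul_apply, mul_inv_cancel, map_one, Module.End.one_apply]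

theorem pairing_nonneg {w : W} {i : I} (hl : cs.length w < cs.length (w * cs.simple i)) :
    0 ≤ pairing A i (O.vec (lab O cs h w)) := by
  have h1 := Bf_nonneg O (nonneg_of_lt cs h w i hl)
  rw [← dd_pairing] at h1
  exact nonneg_of_mul_nonneg_right h1 (O.dd_pos i)

theorem pairing_nonpos {w : W} {i : I} (hl : cs.length (w * cs.simple i) < cs.length w) :
    pairing A i (O.vec (lab O cs h w)) ≤ 0 := by
  have h1 := Bf_nonpos O (nonpos_of_lt cs h w i hl)
  rw [← dd_pairing] at h1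
  by_contra hcon
  push Not at hcon
  exact absurd (mul_pos (O.dd_pos i) hcon) (not_lt.2 h1)

theorem act_of_zero {i : I} {b : Fin m} (hb : pairing A i (O.vec b) = 0) : O.act i b = b := by
  apply O.inj
  rw [← O.vec_act, refl_apply, hb, Pi.single_zero, sub_zero]

include h in
theorem pairing_act (i : I) (b : Fin m) : pairing A i (O.vec (O.act i b)) = - pairing A i (O.vec b) := by
  rw [← O.vec_act, refl_apply, sub_eq_add_neg, pairing_add, ← Pi.single_neg, pairing_single, h.diag]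
  ring

include h in
theorem act_act (i : I) (b : Fin m) : O.act i (O.act i b) = b := by
  apply O.inj
  rw [← O.vec_act, ← O.vec_act, ← Module.End.mul_apply, refl_mul_self A i (h.diag i), Module.End.one_apply]

/-- **The stabilizer.** -/
theorem mem_WJ_of_fix (w : W) (hw : rep cs h w (O.vec O.b0) = O.vec O.b0) : w ∈ WJ cs {j | j ≠ i0} := by
  induction hn : cs.length w using Nat.strong_induction_on generalizing w with
  | _ n ih =>
    by_cases hw1 : w = 1
    · subst hw1; exact one_mem _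
    obtain ⟨i, hi⟩ := cs.exists_rightDescent_of_ne_one hw1
    have hi' : cs.length (w * cs.simple i) < cs.length w := hi
    have h1 : O.dd i * pairing A i (O.vec O.b0) ≤ 0 := by
      have h2 := Bf_nonpos O (nonpos_of_lt cs h w i hi')
      nth_rw 1 [← hw] at h2
      rw [Bf_rep, Bf_single] at h2
      exact h2
    have h2 : pairing A i (O.vec O.b0) = 0 := by
      refine le_antisymm ?_ (O.dom i)
      by_contra hcon
      push Not at hcon
      exact absurd (mul_pos (O.dd_pos i) hcon) (not_lt.2 h1)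
    have hi0 : i ≠ i0 := by
      rintro rfl
      exact absurd O.dom0 (by rw [h2]; exact lt_irrefl 0)
    have h3 : rep cs h (w * cs.simple i) (O.vec O.b0) = O.vec O.b0 := by
      rw [rep_mul_apply, rep_simple, refl_b0 O hi0, hw]
    have h4 := ih _ (by omega) (w * cs.simple i) h3 rfl
    have h5 := mul_mem h4 (simple_mem_WJ cs (J := {j | j ≠ i0}) hi0)
    rwa [simple_mul_simple_cancel_right] at h5

theorem exists_base (w : W) : ∃ u ∈ WJ cs {j | j ≠ i0}, lab O cs h (w * u) = O.base (O.lv (lab O cs h w)) := by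
  induction hn : O.dp (lab O cs h w) using Nat.strong_induction_on generalizing w with
  | _ n ih =>
    rcases O.down (lab O cs h w) with h1 | ⟨j, hj, -, h2⟩
    · exact ⟨1, one_mem _, by rw [mul_one]; exact h1⟩
    · obtain ⟨u, hu, e⟩ := ih (O.dp (O.act j (lab O cs h w))) (by rw [← hn]; exact h2) (w * cs.simple j)
        (by rw [lab_mul_simple])
      refine ⟨cs.simple j * u, mul_mem (simple_mem_WJ cs (J := {j | j ≠ i0}) hj) hu, ?_⟩
      rw [← mul_assoc, e, lab_mul_simple, lv_act O hj]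

/-- **Double cosets are levels.** -/
theorem exists_dc {w w' : W} (hw : O.lv (lab O cs h w) = O.lv (lab O cs h w')) :
    ∃ u ∈ WJ cs {j | j ≠ i0}, ∃ v ∈ WJ cs {j | j ≠ i0}, w' = u * w * v := by
  obtain ⟨v, hv, e⟩ := exists_base O cs h w
  obtain ⟨v', hv', e'⟩ := exists_base O cs h w'
  have h1 : lab O cs h (w * v) = lab O cs h (w' * v') := by rw [e, e', hw]
  have h2 := congrArg O.vec h1
  rw [vec_lab, vec_lab] at h2
  have h3 := mem_WJ_of_fix O cs h (w' * v' * (w * v)⁻¹) (by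
    rw [rep_mul_apply, h2, ← rep_mul_apply, mul_inv_cancel, map_one, Module.End.one_apply])
  exact ⟨_, h3, v * v'⁻¹, mul_mem hv (inv_mem hv'), by group⟩

theorem exists_lv (k : Fin r) : ∃ w : W, O.lv (lab O cs h w) = k := by
  have key : ∀ (l : List I) (w : W), ∃ w' : W, lab O cs h w' = l.foldl (fun b i => O.act i b) (lab O cs h w) := by
    intro l
    induction l with
    | nil => exact fun w => ⟨w, rfl⟩
    | cons i l ih =>
      intro w
      obtain ⟨w', hw'⟩ := ih (w * cs.simple i)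
      exact ⟨w', by rw [hw', lab_mul_simple]; rfl⟩
  obtain ⟨w, hw⟩ := key (O.wd k) 1
  exact ⟨w, by rw [hw, lab_one, O.word, O.lv_base]⟩

end Lab

end Cfsg.Agent.H498.RP
end

-- part: H498/RP/Bld
section
/-!
# Permutation characters on the vertices of a finite building: rationality (helper498)

`int_of_table` : `G` acts strongly transitively on the finite building `Δ` with parameters `q i`, `P_J` is the stabilizer
of the `J`-residue of `o`, `J = {j | j ≠ i0}`. A table `O : Orb A i0 m r`, weights `wt` and `r` eigenvectors with distinct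
rational eigenvalues of the operator `Bop` imply that all constituents of the permutation character on `G / P_J` are
integer valued.
-/

set_option autoImplicit false
set_option linter.unusedSectionVars false

open Cfsg
open scoped ComplexConjugate

namespace Cfsg.Agent.H498.RP

open CoxeterSystem Cfsg.Agent.Tits.Core Cfsg.Agent.Tits.Exchange Cfsg.Agent.ChevalleyStructure.CoxeterGeom
open Cfsg.Agent.Characters.Core Cfsg.Agent.Characters

universe u v

/-! ### the operator on the levels -/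

section Op

variable {I : Type*} [Fintype I] [DecidableEq I] {A : I → I → ℤ} {i0 : I} {m r : ℕ} (O : Orb A i0 m r)

/-- the action of `T_i` on the functions on the orbit -/
def Tf {F : Type*} [Field F] (q : I → F) (i : I) (Φ : Fin m → F) (b : Fin m) : F :=
  if 0 < pairing A i (O.vec b) then q i * Φ (O.act i b)
  else if pairing A i (O.vec b) < 0 then (q i - 1) * Φ b + Φ (O.act i b)
  else q i * Φ b

/-- the weighted sum over a level -/
def lsum {F : Type*} [Field F] (wt : Fin m → F) (Φ : Fin m → F) (k : Fin r) : F :=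
  ∑ b, if O.lv b = k then wt b * Φ b else 0

/-- the operator on the levels -/
def Bop {F : Type*} [Field F] (q : I → F) (wt : Fin m → F) : (Fin r → F) →ₗ[F] (Fin r → F) where
  toFun φ k := lsum O wt (Tf O q i0 (fun b => φ (O.lv b))) k / lsum O wt (fun _ => 1) k
  map_add' φ ψ := by
    funext k
    rw [Pi.add_apply, ← add_div]
    congr 1
    unfold lsum
    rw [← Finset.sum_add_distrib]
    refine Finset.sum_congr rfl fun b _ => ?_
    unfold Tf
    simp only [Pi.add_apply]
    split_ifs <;> ring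
  map_smul' a φ := by
    funext k
    rw [Pi.smul_apply, RingHom.id_apply, smul_eq_mul, ← mul_div_assoc]
    congr 1
    unfold lsum
    rw [Finset.mul_sum]
    refine Finset.sum_congr rfl fun b _ => ?_
    unfold Tf
    simp only [Pi.smul_apply, smul_eq_mul]
    split_ifs <;> ring

theorem Bop_apply {F : Type*} [Field F] (q : I → F) (wt : Fin m → F) (φ : Fin r → F) (k : Fin r) :
    Bop O q wt φ k = lsum O wt (Tf O q i0 (fun b => φ (O.lv b))) k / lsum O wt (fun _ => 1) k := rfl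

theorem Bop_cast (q : I → ℚ) (wt : Fin m → ℚ) (φ : Fin r → ℚ) (k : Fin r) :
    Bop O (fun i => (q i : ℂ)) (fun b => (wt b : ℂ)) (fun k => (φ k : ℂ)) k = ((Bop O q wt φ k : ℚ) : ℂ) := by
  rw [Bop_apply, Bop_apply, Rat.cast_div]
  unfold lsum Tf
  rw [Rat.cast_sum, Rat.cast_sum]
  congr 1
  · refine Finset.sum_congr rfl fun b _ => ?_
    split_ifs <;> push_cast <;> ring
  · refine Finset.sum_congr rfl fun b _ => ?_
    split_ifs <;> push_cast <;> ring

end Op

/-! ### the building -/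

section Bld

variable {I : Type*} [Fintype I] [DecidableEq I] {A : I → I → ℤ} {i0 : I} {m r : ℕ} (O : Orb A i0 m r)
  {M : CoxeterMatrix I} {W : Type*} [Group W] {cs : CoxeterSystem M W} (h : IsCartan M A)
  {C : Type v} [Fintype C] (Δ : Bldg cs C) {q : I → ℕ}
  (hq : ∀ x i, Nat.card {y // Δ.δ x y = cs.simple i} = q i)

open Classical in
/-- the chambers at distance `s_i` -/
theorem card_filter (hq : ∀ x i, Nat.card {y // Δ.δ x y = cs.simple i} = q i) (x : C) (i : I) :
    (Finset.univ.filter fun y => Δ.δ x y = cs.simple i).card = q i := by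
  rw [← hq x i, Nat.card_eq_fintype_card, Fintype.card_subtype]

open Classical in
include hq in
/-- summation over the neighbours -/
theorem sum_step (v : W → ℂ) (o c : C) (i : I) :
    ∑ d ∈ Finset.univ.filter (fun d => Δ.δ c d = cs.simple i), v (Δ.δ o d) =
      if cs.length (Δ.δ o c * cs.simple i) < cs.length (Δ.δ o c) then
        ((q i : ℂ) - 1) * v (Δ.δ o c) + v (Δ.δ o c * cs.simple i)
      else (q i : ℂ) * v (Δ.δ o c * cs.simple i) := by
  rcases cs.length_mul_simple (Δ.δ o c) i with hl | hl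
  · rw [if_neg (by omega)]
    have h1 : ∀ d ∈ Finset.univ.filter (fun d => Δ.δ c d = cs.simple i), v (Δ.δ o d) = v (Δ.δ o c * cs.simple i) := by
      intro d hd
      rw [Δ.step_lt o c d i (Finset.mem_filter.1 hd).2 (by omega)]
    rw [Finset.sum_congr rfl h1, Finset.sum_const, card_filter Δ hq, nsmul_eq_mul]
  · rw [if_pos (by omega)]
    obtain ⟨y₀, hy₀, hy₀'⟩ := Δ.exists_step o c i
    have hmem : y₀ ∈ Finset.univ.filter (fun y => Δ.δ c y = cs.simple i) :=
      Finset.mem_filter.2 ⟨Finset.mem_univ _, hy₀⟩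
    have h1 : ∀ y ∈ (Finset.univ.filter (fun y => Δ.δ c y = cs.simple i)).erase y₀, v (Δ.δ o y) = v (Δ.δ o c) := by
      intro y hy
      obtain ⟨hne, hy⟩ := Finset.mem_erase.1 hy
      have hy1 := (Finset.mem_filter.1 hy).2
      have h2 : y ∈ Δ.Pan i y₀ :=
        Δ.mem_Pan_trans (Δ.mem_Pan_symm (Δ.mem_Pan_of_δ hy₀)) (Δ.mem_Pan_of_δ hy1)
      have h3 : Δ.δ y₀ y = cs.simple i := h2.resolve_left hne
      have h4 := Δ.step_lt o y₀ y i h3 (by
        rw [hy₀', mul_assoc, cs.simple_mul_simple_self, mul_one]; omega)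
      rw [h4, hy₀', mul_assoc, cs.simple_mul_simple_self, mul_one]
    have hpos : 0 < q i := by
      rw [← card_filter Δ hq c i, Finset.card_pos]
      exact ⟨y₀, hmem⟩
    rw [← Finset.add_sum_erase _ _ hmem, Finset.sum_congr rfl h1, Finset.sum_const,
      Finset.card_erase_of_mem hmem, card_filter Δ hq, hy₀', nsmul_eq_mul, Nat.cast_sub (by omega)]
    push_cast
    ring

open Classical in
include hq in
/-- **The action of `T_i` on labels.** -/
theorem sum_lab (Φ : Fin m → ℂ) (o c : C) (i : I) :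
    ∑ d ∈ Finset.univ.filter (fun d => Δ.δ c d = cs.simple i), Φ (lab O cs h (Δ.δ o d)) =
      Tf O (fun i => (q i : ℂ)) i Φ (lab O cs h (Δ.δ o c)) := by
  rw [sum_step Δ hq (fun w => Φ (lab O cs h w)) o c i]
  rw [lab_mul_simple]
  unfold Tf
  rcases cs.length_mul_simple (Δ.δ o c) i with hl | hl
  · rw [if_neg (by omega)]
    have h1 := pairing_nonneg O cs h (w := Δ.δ o c) (i := i) (by omega)
    rcases h1.eq_or_lt with h2 | h2
    · rw [if_neg (by omega), if_neg (by omega), act_of_zero O h2.symm]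
    · rw [if_pos h2]
  · rw [if_pos (by omega)]
    have h1 := pairing_nonpos O cs h (w := Δ.δ o c) (i := i) (by omega)
    rcases h1.eq_or_lt with h2 | h2
    · rw [if_neg (by omega), if_neg (by omega), act_of_zero O h2]
      ring
    · rw [if_neg (by omega), if_pos h2]

open Classical in
/-- the sum over the residue -/
noncomputable def Rs (o c : C) (Φ : Fin m → ℂ) : ℂ :=
  ∑ d ∈ Finset.univ.filter (fun d => Δ.δ c d ∈ WJ cs {j | j ≠ i0}), Φ (lab O cs h (Δ.δ o d))

open Classical in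
include hq in
theorem Rs_Tf (o c : C) (Φ : Fin m → ℂ) {j : I} (hj : j ≠ i0) :
    Rs O h Δ o c (Tf O (fun i => (q i : ℂ)) j Φ) = (q j : ℂ) * Rs O h Δ o c Φ := by
  unfold Rs
  have h1 : ∀ d ∈ Finset.univ.filter (fun d => Δ.δ c d ∈ WJ cs {j | j ≠ i0}),
      Tf O (fun i => (q i : ℂ)) j Φ (lab O cs h (Δ.δ o d)) =
      ∑ e : C, if Δ.δ d e = cs.simple j then Φ (lab O cs h (Δ.δ o e)) else 0 := by
    intro d _
    rw [← sum_lab O h Δ hq, Finset.sum_filter]
  rw [Finset.sum_congr rfl h1, Finset.sum_comm, Finset.mul_sum]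
  have h2 : ∀ e : C, ∑ d ∈ Finset.univ.filter (fun d => Δ.δ c d ∈ WJ cs {j | j ≠ i0}),
      (if Δ.δ d e = cs.simple j then Φ (lab O cs h (Δ.δ o e)) else 0) =
      if Δ.δ c e ∈ WJ cs {j | j ≠ i0} then (q j : ℂ) * Φ (lab O cs h (Δ.δ o e)) else 0 := by
    intro e
    have h3 : ∀ d : C, Δ.δ d e = cs.simple j → (Δ.δ c d ∈ WJ cs {j | j ≠ i0} ↔ Δ.δ c e ∈ WJ cs {j | j ≠ i0}) := by
      intro d hd
      have h4 : e ∈ Δ.Res {j | j ≠ i0} d := by
        rw [Δ.mem_Res, hd]
        exact simple_mem_WJ cs hj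
      exact ⟨fun h5 => Δ.mem_Res_trans h5 h4, fun h5 => Δ.mem_Res_trans h5 (Δ.mem_Res_symm h4)⟩
    rw [← Finset.sum_filter, Finset.filter_filter, Finset.sum_const]
    by_cases h5 : Δ.δ c e ∈ WJ cs {j | j ≠ i0}
    · rw [if_pos h5, nsmul_eq_mul]
      congr 2
      rw [← card_filter Δ hq e j]
      congr 1
      ext d
      simp only [Finset.mem_filter, Finset.mem_univ, true_and]
      exact ⟨fun h6 => Δ.δ_symm_simple h6.2, fun h6 => ⟨(h3 d (Δ.δ_symm_simple h6)).2 h5, Δ.δ_symm_simple h6⟩⟩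
    · rw [if_neg h5]
      have h6 : (Finset.univ.filter fun d => Δ.δ c d ∈ WJ cs {j | j ≠ i0} ∧ Δ.δ d e = cs.simple j) = ∅ := by
        rw [Finset.filter_eq_empty_iff]
        rintro d - ⟨h7, h8⟩
        exact h5 ((h3 d h8).1 h7)
      rw [h6, Finset.card_empty, zero_smul]
  rw [Finset.sum_congr rfl fun e _ => h2 e, ← Finset.sum_filter]

/-- the number of chambers of the residue with a given label -/
noncomputable def Nc (o c : C) (b : Fin m) : ℂ := Rs O h Δ o c (Pi.single b 1)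

theorem Rs_eq (o c : C) (Φ : Fin m → ℂ) : Rs O h Δ o c Φ = ∑ b, Nc O h Δ o c b * Φ b := by
  classical
  unfold Nc Rs
  simp only [Finset.sum_mul]
  rw [Finset.sum_comm]
  refine Finset.sum_congr rfl fun d _ => ?_
  rw [Finset.sum_eq_single (lab O cs h (Δ.δ o d))]
  · rw [Pi.single_eq_same, one_mul]
  · intro b _ hb
    rw [Pi.single_eq_of_ne hb.symm, zero_mul]
  · intro h1
    exact absurd (Finset.mem_univ _) h1

include h in
theorem Tf_single {F : Type*} [Field F] (q : I → F) {j : I} {b : Fin m} (hb : 0 < pairing A j (O.vec b)) :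
    Tf O q j (Pi.single b 1) = Pi.single (O.act j b) 1 := by
  have hp := pairing_act O h j b
  funext x
  unfold Tf
  have hne : b ≠ O.act j b := by
    intro h1
    rw [← h1] at hp
    omega
  by_cases hx : x = O.act j b
  · subst hx
    rw [if_neg (by omega), if_pos (by omega), Pi.single_eq_same, act_act O h, Pi.single_eq_same,
      Pi.single_eq_of_ne hne.symm, mul_zero, zero_add]
  · rw [Pi.single_eq_of_ne hx]
    have h2 : O.act j x ≠ b := by
      rintro rfl
      exact hx (act_act O h j x).symm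
    rw [Pi.single_eq_of_ne h2]
    by_cases h3 : x = b
    · subst h3
      rw [if_pos hb, mul_zero]
    · rw [Pi.single_eq_of_ne h3]
      split_ifs <;> simp

include hq in
theorem Nc_act (o c : C) {j : I} (hj : j ≠ i0) {b : Fin m} (hb : 0 < pairing A j (O.vec b)) :
    Nc O h Δ o c (O.act j b) = (q j : ℂ) * Nc O h Δ o c b := by
  unfold Nc
  rw [← Rs_Tf O h Δ hq o c _ hj, Tf_single O h _ hb]

include hq in
/-- **The distribution of the labels in a residue.** -/
theorem Nc_eq {wt : Fin m → ℂ} (hw1 : ∀ k, wt (O.base k) = 1)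
    (hw2 : ∀ j, j ≠ i0 → ∀ b, 0 < pairing A j (O.vec b) → wt (O.act j b) = (q j : ℂ) * wt b) (o c : C) (b : Fin m) :
    Nc O h Δ o c b = wt b * Nc O h Δ o c (O.base (O.lv b)) := by
  induction hn : O.dp b using Nat.strong_induction_on generalizing b with
  | _ n ih =>
    rcases O.down b with h1 | ⟨j, hj, h2, h3⟩
    · have h4 := hw1 (O.lv b)
      rw [← h1] at h4
      rw [h4, one_mul, ← h1]
    · have hp : 0 < pairing A j (O.vec (O.act j b)) := by
        rw [pairing_act O h]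
        omega
      have h4 := Nc_act O h Δ hq o c hj hp
      have h5 := hw2 j hj _ hp
      rw [act_act O h] at h4 h5
      rw [h4, h5, ih (O.dp (O.act j b)) (by omega) _ rfl, lv_act O hj, mul_assoc]

theorem Nc_zero (o c : C) {b : Fin m} (hb : O.lv b ≠ O.lv (lab O cs h (Δ.δ o c))) : Nc O h Δ o c b = 0 := by
  classical
  unfold Nc Rs
  refine Finset.sum_eq_zero fun d hd => ?_
  have h1 := (Finset.mem_filter.1 hd).2
  obtain ⟨t, ht, h2⟩ := Δ.exists_mul_of_mem o h1
  refine Pi.single_eq_of_ne ?_ _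
  rintro h3
  apply hb
  rw [← h3, h2]
  exact lv_mul_WJ O cs h ht _

include hq in
/-- **The sum over a residue is the weighted sum over the level.** -/
theorem Rs_lsum {wt : Fin m → ℂ} (hw1 : ∀ k, wt (O.base k) = 1)
    (hw2 : ∀ j, j ≠ i0 → ∀ b, 0 < pairing A j (O.vec b) → wt (O.act j b) = (q j : ℂ) * wt b) (o c : C)
    (Φ : Fin m → ℂ) : Rs O h Δ o c Φ =
      Nc O h Δ o c (O.base (O.lv (lab O cs h (Δ.δ o c)))) * lsum O wt Φ (O.lv (lab O cs h (Δ.δ o c))) := by
  rw [Rs_eq]
  unfold lsum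
  rw [Finset.mul_sum]
  refine Finset.sum_congr rfl fun b _ => ?_
  by_cases hb : O.lv b = O.lv (lab O cs h (Δ.δ o c))
  · rw [if_pos hb, Nc_eq O h Δ hq hw1 hw2, hb]
    ring
  · rw [if_neg hb, Nc_zero O h Δ o c hb, zero_mul, mul_zero]

open Classical in
theorem Rs_one (o c : C) : Rs O h Δ o c (fun _ => 1) =
    ((Finset.univ.filter fun d => Δ.δ c d ∈ WJ cs {j | j ≠ i0}).card : ℂ) := by
  unfold Rs
  rw [Finset.sum_const, nsmul_eq_mul, mul_one]

theorem Rs_one_ne (o c : C) : Rs O h Δ o c (fun _ => 1) ≠ 0 := by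
  classical
  rw [Rs_one]
  have h1 : 0 < (Finset.univ.filter fun d => Δ.δ c d ∈ WJ cs {j | j ≠ i0}).card := by
    rw [Finset.card_pos]
    exact ⟨c, Finset.mem_filter.2 ⟨Finset.mem_univ _, Δ.self_mem_Res _ c⟩⟩
  exact_mod_cast h1.ne'

include hq in
/-- the mean over a residue -/
theorem Rs_div {wt : Fin m → ℂ} (hw1 : ∀ k, wt (O.base k) = 1)
    (hw2 : ∀ j, j ≠ i0 → ∀ b, 0 < pairing A j (O.vec b) → wt (O.act j b) = (q j : ℂ) * wt b) (o c : C)
    (Φ : Fin m → ℂ) : Rs O h Δ o c Φ = Rs O h Δ o c (fun _ => 1) *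
      (lsum O wt Φ (O.lv (lab O cs h (Δ.δ o c))) / lsum O wt (fun _ => 1) (O.lv (lab O cs h (Δ.δ o c)))) := by
  have h0 := Rs_one_ne O h Δ o c
  rw [Rs_lsum O h Δ hq hw1 hw2 o c Φ]
  rw [Rs_lsum O h Δ hq hw1 hw2 o c (fun _ => 1)] at h0 ⊢
  have h1 := right_ne_zero_of_mul h0
  field_simp

end Bld

/-! ### the main theorem -/

section Main

variable {I : Type*} [Fintype I] [DecidableEq I] {A : I → I → ℤ} {i0 : I} {m r : ℕ} (O : Orb A i0 m r)
  {M : CoxeterMatrix I} {W : Type*} [Group W] {cs : CoxeterSystem M W} (h : IsCartan M A)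
  {C : Type v} [Fintype C] (Δ : Bldg cs C) {q : I → ℕ}
  (hq : ∀ x i, Nat.card {y // Δ.δ x y = cs.simple i} = q i)
  {G : Type u} [Group G] [Fintype G] [MulAction G C]
  (hiso : ∀ (g : G) (x y : C), Δ.δ (g • x) (g • y) = Δ.δ x y)
  (htr : ∀ x y x' y' : C, Δ.δ x y = Δ.δ x' y' → ∃ g : G, g • x = x' ∧ g • y = y')

/-- the level of a chamber -/
noncomputable def lvl (o c : C) : Fin r := O.lv (lab O cs h (Δ.δ o c))

include hiso htr in
/-- a function on the chambers which is constant on the residues and invariant under `P_J` is a function of the level -/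
theorem eq_of_lvl (o : C) {f : C → ℂ} (hf1 : ∀ c d, Δ.δ c d ∈ WJ cs {j | j ≠ i0} → f c = f d)
    (hf2 : ∀ g : G, Δ.δ o (g • o) ∈ WJ cs {j | j ≠ i0} → ∀ c, f (g • c) = f c) {c d : C}
    (hcd : lvl O h Δ o c = lvl O h Δ o d) : f c = f d := by
  obtain ⟨u, hu, v, hv, e⟩ := exists_dc O cs h hcd
  -- move `c` in its residue
  obtain ⟨c', hc', e1⟩ := Δ.exists_δ_mul_mem_Res (J := {j | j ≠ i0}) (x := c) o (Δ.self_mem_Res _ c) hv
  -- and `o`
  obtain ⟨o', ho', e2⟩ := Δ.exists_δ_mul_mem_Res (J := {j | j ≠ i0}) (x := o) c' (Δ.self_mem_Res _ o)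
    (inv_mem hu)
  have h1 : Δ.δ o' c' = Δ.δ o d := by
    rw [Δ.symm c' o', e2, e, Δ.symm o c', e1]
    group
  obtain ⟨g, hg1, hg2⟩ := htr o' c' o d h1
  have h2 : Δ.δ o (g • o) ∈ WJ cs {j | j ≠ i0} := by
    nth_rw 1 [← hg1]
    rw [hiso]
    exact Δ.mem_Res_symm ho'
  rw [← hg2, hf2 g h2, hf1 c c' hc']

include hiso in
theorem lvl_smul (o : C) {g : G} (hg : Δ.δ o (g • o) ∈ WJ cs {j | j ≠ i0}) (c : C) :
    lvl O h Δ o (g • c) = lvl O h Δ o c := by
  have h1 : Δ.δ (g⁻¹ • o) o ∈ WJ cs {j | j ≠ i0} := by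
    rw [← hiso g, smul_inv_smul]
    exact hg
  obtain ⟨t, ht, e⟩ := Δ.exists_mul_of_mem_left c h1
  unfold lvl
  rw [← hiso g⁻¹ o (g • c), inv_smul_smul, e, lab_WJ_mul O cs h ht]

theorem lvl_res (o : C) {c d : C} (hcd : Δ.δ c d ∈ WJ cs {j | j ≠ i0}) : lvl O h Δ o c = lvl O h Δ o d := by
  obtain ⟨t, ht, e⟩ := Δ.exists_mul_of_mem o hcd
  unfold lvl
  rw [e, lv_mul_WJ O cs h ht]

theorem exists_lvl (o : C) (k : Fin r) : ∃ c, lvl O h Δ o c = k := by
  obtain ⟨w, hw⟩ := exists_lv O cs h k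
  obtain ⟨c, hc⟩ := Δ.exists_δ o w
  exact ⟨c, by unfold lvl; rw [hc, hw]⟩

include hiso htr in
theorem exists_factor (o : C) {f : C → ℂ} (hf1 : ∀ c d, Δ.δ c d ∈ WJ cs {j | j ≠ i0} → f c = f d)
    (hf2 : ∀ g : G, Δ.δ o (g • o) ∈ WJ cs {j | j ≠ i0} → ∀ c, f (g • c) = f c) :
    ∃ ψ : Fin r → ℂ, f = fun c => ψ (lvl O h Δ o c) := by
  choose s hs using exists_lvl O h Δ o
  exact ⟨fun k => f (s k), funext fun c => eq_of_lvl O h Δ hiso htr o hf1 hf2 (hs _).symm⟩

open Classical in
include h hq hiso htr in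
/-- **All constituents of the permutation character on the vertices of a type are integer valued.** -/
theorem int_of_table {wt : Fin m → ℚ} (hw1 : ∀ k, wt (O.base k) = 1)
    (hw2 : ∀ j, j ≠ i0 → ∀ b, 0 < pairing A j (O.vec b) → wt (O.act j b) = (q j : ℚ) * wt b)
    {U : Fin r → Fin r → ℚ} {θ : Fin r → ℚ} (hθ : Function.Injective θ) (hU0 : ∀ i, U i ≠ 0)
    (hU : ∀ i, Bop O (fun i => (q i : ℚ)) wt (U i) = θ i • U i)
    (o : C) (P : Subgroup G) (hP : ∀ g, g ∈ P ↔ Δ.δ o (g • o) ∈ WJ cs {j | j ≠ i0}) {χ : G → ℂ}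
    (hχ : IsIrrCharacter G χ) (h0 : ∑ g : P, χ g ≠ 0) (g : G) : ∃ k : ℤ, χ g = k := by
  have hcl := isIrr_isClassFunction hχ
  set J : Set I := {j | j ≠ i0} with hJ
  -- the operators
  let K1 : C → C → ℂ := fun c d => if Δ.δ c d ∈ WJ cs J then 1 else 0
  let K2 : C → C → ℂ := fun c d => if Δ.δ c d = cs.simple i0 then 1 else 0
  have hK1 : ∀ (g : G) (c d : C), K1 (g • c) (g • d) = K1 c d := by
    intro g c d
    show (if Δ.δ (g • c) (g • d) ∈ WJ cs J then (1 : ℂ) else 0) = _
    rw [hiso]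
  have hK2 : ∀ (g : G) (c d : C), K2 (g • c) (g • d) = K2 c d := by
    intro g c d
    show (if Δ.δ (g • c) (g • d) = cs.simple i0 then (1 : ℂ) else 0) = _
    rw [hiso]
  let L := Lc C χ
  set qc : I → ℂ := fun i => (q i : ℂ) with hqc
  set wc : Fin m → ℂ := fun b => (wt b : ℂ) with hwc
  have hw1' : ∀ k, wc (O.base k) = 1 := by
    intro k
    simp only [hwc, hw1, Rat.cast_one]
  have hw2' : ∀ j, j ≠ i0 → ∀ b, 0 < pairing A j (O.vec b) → wc (O.act j b) = (q j : ℂ) * wc b := by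
    intro j hj b hb
    simp only [hwc, hw2 j hj b hb, Rat.cast_mul, Rat.cast_natCast]
  -- the order of the residues is constant
  have hρ : ∀ c, Rs O h Δ o c (fun _ => 1) = Rs O h Δ o o (fun _ => 1) := by
    intro c
    rw [Rs_one, Rs_one]
    obtain ⟨g, hg, -⟩ := htr o o c c (by rw [Δ.δ_self, Δ.δ_self])
    norm_cast
    symm
    refine Finset.card_bij (fun d _ => g • d) ?_ ?_ ?_
    · intro d hd
      refine Finset.mem_filter.2 ⟨Finset.mem_univ _, ?_⟩
      rw [← hg, hiso]
      exact (Finset.mem_filter.1 hd).2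
    · intro d _ d' _ hdd
      exact smul_left_cancel g hdd
    · intro d hd
      refine ⟨g⁻¹ • d, Finset.mem_filter.2 ⟨Finset.mem_univ _, ?_⟩, smul_inv_smul g d⟩
      rw [← hiso g, hg, smul_inv_smul]
      exact (Finset.mem_filter.1 hd).2
  set ρ : ℂ := Rs O h Δ o o (fun _ => 1) with hρdef
  have hρ0 : ρ ≠ 0 := Rs_one_ne O h Δ o o
  -- the operator on functions of the level
  have hop : ∀ φ : Fin r → ℂ, Kop K1 (Kop K2 (fun c => φ (lvl O h Δ o c))) =
      ρ • fun c => Bop O qc wc φ (lvl O h Δ o c) := by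
    intro φ
    funext c
    have h1 : ∀ d, Kop K2 (fun c => φ (lvl O h Δ o c)) d =
        Tf O qc i0 (fun b => φ (O.lv b)) (lab O cs h (Δ.δ o d)) := by
      intro d
      rw [← sum_lab O h Δ hq (fun b => φ (O.lv b)) o d i0, Kop_apply, Finset.sum_filter]
      refine Finset.sum_congr rfl fun e _ => ?_
      show (if Δ.δ d e = cs.simple i0 then (1 : ℂ) else 0) * _ = _
      rw [ite_mul, one_mul, zero_mul]
      rfl
    have h2 : Kop K1 (Kop K2 (fun c => φ (lvl O h Δ o c))) c = Rs O h Δ o c (Tf O qc i0 (fun b => φ (O.lv b))) := by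
      rw [Kop_apply]
      unfold Rs
      rw [Finset.sum_filter]
      refine Finset.sum_congr rfl fun d _ => ?_
      show (if Δ.δ c d ∈ WJ cs J then (1 : ℂ) else 0) * _ = _
      rw [ite_mul, one_mul, zero_mul, h1]
    rw [h2, Rs_div O h Δ hq hw1' hw2', hρ c, Pi.smul_apply, smul_eq_mul, Bop_apply]
    rfl
  -- `L` preserves the functions of the level
  have hL : ∀ φ : Fin r → ℂ, ∃ ψ : Fin r → ℂ, L (fun c => φ (lvl O h Δ o c)) = fun c => ψ (lvl O h Δ o c) := by
    intro φ
    refine exists_factor O h Δ hiso htr o ?_ ?_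
    · intro c d hcd
      show Lc C χ _ c = Lc C χ _ d
      rw [Lc_apply, Lc_apply]
      refine Finset.sum_congr rfl fun g _ => ?_
      rw [lvl_res O h Δ o (c := g⁻¹ • c) (d := g⁻¹ • d) (by rw [hiso]; exact hcd)]
    · intro g hg c
      exact Lc_smul hcl (fun c => by rw [lvl_smul O h Δ hiso o hg]) c
  -- the eigenfunctions
  let Uc : Fin r → Fin r → ℂ := fun i k => (U i k : ℂ)
  have hUc : ∀ i, Bop O qc wc (Uc i) = (θ i : ℂ) • Uc i := by
    intro i
    funext k
    have h1 := Bop_cast O (fun i => (q i : ℚ)) wt (U i) k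
    rw [hU i] at h1
    simp only [Rat.cast_natCast] at h1
    rw [Pi.smul_apply, smul_eq_mul] at h1 ⊢
    rw [← Rat.cast_mul, ← h1]
  have hUc0 : ∀ i, Uc i ≠ 0 := by
    intro i h1
    apply hU0 i
    funext k
    have h2 := congrFun h1 k
    have h3 : ((U i k : ℚ) : ℂ) = 0 := h2
    exact_mod_cast h3
  have hθc : Function.Injective fun i => (θ i : ℂ) := by
    intro i j hij
    have h1 : ((θ i : ℚ) : ℂ) = ((θ j : ℚ) : ℂ) := hij
    exact hθ (by exact_mod_cast h1)
  have hLU : ∀ i, ∃ c : ℂ, L (fun x => Uc i (lvl O h Δ o x)) = c • fun x => Uc i (lvl O h Δ o x) := by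
    intro i
    obtain ⟨ψ, hψ⟩ := hL (Uc i)
    have h1 : Kop K1 (Kop K2 (L (fun x => Uc i (lvl O h Δ o x)))) =
        (ρ * θ i) • L (fun x => Uc i (lvl O h Δ o x)) := by
      rw [← Lc_Kop hK2, ← Lc_Kop hK1, hop, hUc]
      have h2 : (ρ • fun c => ((θ i : ℂ) • Uc i) (lvl O h Δ o c)) =
          (ρ * θ i) • fun x => Uc i (lvl O h Δ o x) := by
        funext x
        simp only [Pi.smul_apply, smul_eq_mul]
        ring
      rw [h2, map_smul]
    rw [hψ, hop] at h1
    have h2 : Bop O qc wc ψ = (θ i : ℂ) • ψ := by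
      funext k
      obtain ⟨c, hc⟩ := exists_lvl O h Δ o k
      have h3 := congrFun h1 c
      simp only [Pi.smul_apply, smul_eq_mul, hc] at h3
      rw [Pi.smul_apply, smul_eq_mul]
      rw [mul_assoc] at h3
      exact mul_left_cancel₀ hρ0 h3
    obtain ⟨c, hc⟩ := eig_mul hθc hUc hUc0 h2
    refine ⟨c, ?_⟩
    rw [hψ, hc]
    rfl
  -- the eigenvalues are rational
  obtain ⟨n, hn, hn1⟩ := isIrr_apply_one hχ
  have hLU' : ∀ i, ∃ a : ℚ, L (fun x => Uc i (lvl O h Δ o x)) = (a : ℂ) • fun x => Uc i (lvl O h Δ o x) := by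
    intro i
    obtain ⟨c, hc⟩ := hLU i
    have h1 := Lc_Lc hχ (fun x => Uc i (lvl O h Δ o x))
    have h1' : L (L (fun x => Uc i (lvl O h Δ o x))) = ((Nat.card G : ℂ) / χ 1) • L (fun x => Uc i (lvl O h Δ o x)) := h1
    rw [hc, map_smul, hc] at h1'
    obtain ⟨k, hk⟩ : ∃ k, Uc i k ≠ 0 := by
      by_contra hcon
      push Not at hcon
      exact hUc0 i (funext hcon)
    obtain ⟨x, hx⟩ := exists_lvl O h Δ o k
    have h2 := congrFun h1' x
    simp only [Pi.smul_apply, smul_eq_mul, hx] at h2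
    have h3 : c * (c - (Nat.card G : ℂ) / χ 1) = 0 := by
      have h4 : (c * (c - (Nat.card G : ℂ) / χ 1)) * Uc i k = 0 := by linear_combination h2
      exact (mul_eq_zero.1 h4).resolve_right hk
    rcases mul_eq_zero.1 h3 with h4 | h4
    · exact ⟨0, by rw [hc, h4, Rat.cast_zero]⟩
    · refine ⟨(Nat.card G : ℚ) / n, ?_⟩
      rw [hc, sub_eq_zero.1 h4, hn1]
      push_cast
      rfl
  -- the function of the base residue
  refine rat_of_sum P hχ h0 (fun x => ?_) g
  have hB : ∃ φ : Fin r → ℚ, (fun c => K1 o c) = fun c => ((φ (lvl O h Δ o c) : ℚ) : ℂ) := by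
    obtain ⟨ψ, hψ⟩ := exists_factor O h Δ hiso htr o (f := fun c => K1 o c) (by
      intro c d hcd
      show (if Δ.δ o c ∈ WJ cs J then (1 : ℂ) else 0) = if Δ.δ o d ∈ WJ cs J then (1 : ℂ) else 0
      have h1 : Δ.δ o c ∈ WJ cs J ↔ Δ.δ o d ∈ WJ cs J :=
        ⟨fun h2 => Δ.mem_Res_trans h2 hcd, fun h2 => Δ.mem_Res_trans h2 (Δ.mem_Res_symm hcd)⟩
      simp only [h1]) (by
      intro g hg c
      show (if Δ.δ o (g • c) ∈ WJ cs J then (1 : ℂ) else 0) = if Δ.δ o c ∈ WJ cs J then (1 : ℂ) else 0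
      have h1 : Δ.δ o (g • c) ∈ WJ cs J ↔ Δ.δ o c ∈ WJ cs J := by
        rw [← hiso g o c]
        exact ⟨fun h2 => Δ.mem_Res_trans (Δ.mem_Res_symm hg) h2, fun h2 => Δ.mem_Res_trans hg h2⟩
      simp only [h1])
    have h1 : ∀ k, ∃ a : ℚ, ψ k = a := by
      intro k
      obtain ⟨c, hc⟩ := exists_lvl O h Δ o k
      have h2 := congrFun hψ c
      simp only [hc] at h2
      rw [← h2]
      show ∃ a : ℚ, (if Δ.δ o c ∈ WJ cs J then (1 : ℂ) else 0) = a
      split_ifs
      · exact ⟨1, by simp⟩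
      · exact ⟨0, by simp⟩
    choose φ hφ using h1
    exact ⟨φ, by rw [hψ]; funext c; exact hφ _⟩
  obtain ⟨φ, hφ⟩ := hB
  obtain ⟨d, hd⟩ := exists_coeff (B := Bop O (fun i => (q i : ℚ)) wt) hθ hU hU0 φ
  choose a ha using hLU'
  have h1 : L (fun c => K1 o c) = fun c => ((∑ i, d i * a i * U i (lvl O h Δ o c) : ℚ) : ℂ) := by
    have h2 : (fun c => K1 o c) = ∑ i, (d i : ℂ) • fun x => Uc i (lvl O h Δ o x) := by
      rw [hφ, hd]
      funext c
      rw [Finset.sum_apply, Finset.sum_apply, Rat.cast_sum]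
      refine Finset.sum_congr rfl fun i _ => ?_
      simp only [Pi.smul_apply, smul_eq_mul, Rat.cast_mul]
      rfl
    rw [h2, map_sum]
    funext c
    rw [Finset.sum_apply, Rat.cast_sum]
    refine Finset.sum_congr rfl fun i _ => ?_
    rw [map_smul, ha i]
    simp only [Pi.smul_apply, smul_eq_mul, Rat.cast_mul]
    show (d i : ℂ) * ((a i : ℂ) * (U i (lvl O h Δ o c) : ℂ)) = _
    ring
  have h2 : ∑ y : P, χ (x * y) = L (fun c => K1 o c) (x • o) := by
    show _ = Lc C χ _ (x • o)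
    rw [Lc_apply]
    have h3 : ∀ g : G, χ g * K1 o (g⁻¹ • x • o) = if x⁻¹ * g ∈ P then χ g else 0 := by
      intro g
      have h4 : Δ.δ o (g⁻¹ • x • o) ∈ WJ cs J ↔ x⁻¹ * g ∈ P := by
        rw [← mul_smul, ← hP, ← P.inv_mem_iff, mul_inv_rev, inv_inv]
      show χ g * (if Δ.δ o (g⁻¹ • x • o) ∈ WJ cs J then (1 : ℂ) else 0) = _
      rw [mul_ite, mul_one, mul_zero]
      simp only [h4]
    rw [Finset.sum_congr rfl fun g _ => h3 g, ← Finset.sum_filter]
    refine Finset.sum_bij (fun (y : P) _ => x * (y : G)) ?_ ?_ ?_ ?_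
    · intro y _
      refine Finset.mem_filter.2 ⟨Finset.mem_univ _, ?_⟩
      rw [inv_mul_cancel_left]
      exact y.2
    · intro y _ y' _ hyy
      exact Subtype.ext (mul_left_cancel hyy)
    · intro g hg
      exact ⟨⟨x⁻¹ * g, (Finset.mem_filter.1 hg).2⟩, Finset.mem_univ _, by simp⟩
    · intro y _
      rfl
  rw [h2, h1]
  exact ⟨_, rfl⟩

end Main

end Cfsg.Agent.H498.RP
end

-- part: H498/RP/Rgd
section
/-!
# Root group data: the building and the parabolic subgroups (helper498)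

* `exists_bldg_PJ` : the building on the cosets of `B`, with the parameters `|X (sr i)|`, and `P_J` as the stabilizer of
  the `J`-residue of the base chamber;
* `row57_of_int` : the row of S4857 if `p ∣ |S : H|` and all constituents of the permutation character on `S / H` are
  integer valued.
-/

set_option autoImplicit false
set_option linter.unusedSectionVars false

open Cfsg

namespace Cfsg.Agent.H498.RP

open CoxeterSystem Cfsg.Agent.ChevalleyStructure.CoxeterGeom Cfsg.Agent.Tits.Roots Cfsg.Agent.Tits.Core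
  Cfsg.Agent.Tits.Exchange Cfsg.Agent.Nodes.Reps Cfsg.Agent.Nodes.BNOf Cfsg.Agent.Nodes.StabComb
  Cfsg.Agent.Nodes.Bruhat Cfsg.Agent.Nodes.OppDec Cfsg.Agent.Nodes.LeviDec Cfsg.Agent.Nodes.NormalForm

universe u

/-- **The building with its parabolic subgroups.** -/
theorem exists_bldg_PJ {I W Y : Type*} [Fintype I] [DecidableEq I] [Group W] [Group Y] {M : CoxeterMatrix I}
    {cs : CoxeterSystem M W} {A : I → I → ℤ} {h : IsCartan M A} {r : ℕ} {T : Subgroup Y} {n : I → Y}
    {X : (I → ℤ) → Subgroup Y} [Finite W] (R : RGD cs h r T n X) (hG : GG cs h T X = ⊤) {q : I → ℕ}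
    (hq : ∀ i, Nat.card (X (sr i)) = q i) :
    ∃ Δ : Bldg cs (Y ⧸ RGD.B cs h T X),
      (∀ (g : Y) (x y : Y ⧸ RGD.B cs h T X), Δ.δ (g • x) (g • y) = Δ.δ x y) ∧
      (∀ x y x' y', Δ.δ x y = Δ.δ x' y' → ∃ g : Y, g • x = x' ∧ g • y = y') ∧
      (∀ x i, Nat.card {y // Δ.δ x y = cs.simple i} = q i) ∧
      ∀ (J : Set I) (g : Y), g ∈ PJ cs h T X J ↔
        Δ.δ (QuotientGroup.mk 1) (g • (QuotientGroup.mk 1 : Y ⧸ RGD.B cs h T X)) ∈ WJ cs J := by
  obtain ⟨Δ, hiso, htr, hδ⟩ := H167.SteinbergRGD.exists_bldg R (H116.RatB0.hgen_of_GG R hG)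
  refine ⟨Δ, hiso, htr, fun x i => by rw [H116.HeckeE.card_nbr R Δ hδ, hq], fun J g => ?_⟩
  obtain ⟨w, b₁, hb₁, k, hk, b₂, hb₂, e⟩ := (mem_GG R (g := g)).1 (by rw [hG]; exact Subgroup.mem_top g)
  have h1 : Δ.δ (QuotientGroup.mk 1) (g • (QuotientGroup.mk 1 : Y ⧸ RGD.B cs h T X)) = w := by
    have h2 : g • (QuotientGroup.mk 1 : Y ⧸ RGD.B cs h T X) = QuotientGroup.mk g := by
      show QuotientGroup.mk (g * 1) = _
      rw [mul_one]
    rw [h2, hδ _ _ _ _ hk]
    exact ⟨b₁, hb₁, b₂, hb₂, by rw [inv_one, one_mul, e]⟩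
  rw [h1]
  exact cell_mem_PJ_iff R ⟨b₁, hb₁, k, hk, b₂, hb₂, e⟩

/-- **The row of S4857 from a permutation character.** -/
theorem row57_of_int {p : ℕ} [Fact p.Prime] {S : Type u} [Group S] [Finite S] (H : Subgroup S) [Fintype H]
    (hp : p ∣ H.index) (hint : ∀ χ : S → ℂ, IsIrrCharacter S χ → ∑ h : H, χ h ≠ 0 → ∀ g, ∃ k : ℤ, χ g = k) :
    H685.BR.Row57 p S := by
  intro M hM
  obtain ⟨χ, h1, h2, h3⟩ := H139.RealB0.Crit.exists_constituent hM H hp
  exact ⟨χ, h1, h2, H685.BR.good_of_int fun g => hint _ χ.2 h3 g⟩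

end Cfsg.Agent.H498.RP
end

private theorem dce_dde2b8cdde08 : _root_.True := by
  try have : _root_.True := by simp only [_root_.Cfsg.Agent.H498.RP.lvl.congr_simp]
  try have : _root_.True := by simp only [_root_.Cfsg.Agent.H498.RP.lab.congr_simp]
  try have : _root_.True := by simp only [_root_.Cfsg.Agent.H498.RP.Nc.congr_simp]
  exact _root_.True.intro
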