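import Cfsg.Agent.H498.RP.Rgd
import Cfsg.Agent.H35.ExcIdxTw_m3
import Cfsg.Agent.Lib.FinFast
import Cfsg.Agent.KFacts.RgdTI
import Cfsg.Agent.H145.BR.RowZ
import Cfsg.Agent.H116.RatB0.StExc_m3
import Cfsg.Agent.Nodes.SimplyLaced
import Cfsg.Agent.H116.RatB0.RowRgd
import Cfsg.Agent.H145.BR.Count
import Cfsg.Agent.H940.RatB.Count
import Cfsg.Agent.FastGrp
import Cfsg.Agent.Prune
set_option linter.all false

-- part: H498/RP/Poly
section
set_option linter.all false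
open scoped Cfsg.Agent.FastGrp

/-!
# One parameter: the eigenvectors by computation with integer polynomials (helper498)

`evL l x` : the value of the polynomial with the coefficients `l` (lowest first).
`eig_of_check` : the data `N i` (eigenvalues times `Z`), `U i k` (eigenvectors) as polynomials, checked by computation,
give the eigenvectors of the operator `Bop` for all values `x ≥ 2` of the parameter.
-/

set_option autoImplicit false

namespace Cfsg.Agent.H498.RP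

open Cfsg.Agent.ChevalleyStructure.CoxeterGeom

/-! ### polynomials as lists -/

/-- the value -/
def evL (x : ℚ) : List ℤ → ℚ
  | [] => 0
  | a :: l => a + x * evL x l

/-- the sum -/
def addL : List ℤ → List ℤ → List ℤ
  | [], l => l
  | l, [] => l
  | a :: l, b :: l' => (a + b) :: addL l l'

/-- multiplication with an integer -/
def smL (c : ℤ) : List ℤ → List ℤ
  | [] => []
  | a :: l => (c * a) :: smL c l

/-- the product -/
def mulL : List ℤ → List ℤ → List ℤ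
  | [], _ => []
  | a :: l, l' => addL (smL a l') (0 :: mulL l l')

/-- multiplication with a power of the variable -/
def shL : ℕ → List ℤ → List ℤ
  | 0, l => l
  | n + 1, l => 0 :: shL n l

/-- all coefficients are zero -/
def zL : List ℤ → Bool
  | [] => true
  | a :: l => (a == 0) && zL l

/-- substitution of `x + 2` -/
def tL : List ℤ → List ℤ
  | [] => []
  | a :: l => addL [a] (addL (0 :: tL l) (smL 2 (tL l)))

/-- all coefficients nonnegative -/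
def nnL : List ℤ → Bool
  | [] => true
  | a :: l => decide (0 ≤ a) && nnL l

/-- positive for `x ≥ 2` by substitution -/
def posL (l : List ℤ) : Bool := nnL (tL l) && decide (0 < (tL l).headD 0)

theorem evL_nil (x : ℚ) : evL x [] = 0 := rfl

theorem evL_cons (x : ℚ) (a : ℤ) (l : List ℤ) : evL x (a :: l) = a + x * evL x l := rfl

theorem evL_add (x : ℚ) (l l' : List ℤ) : evL x (addL l l') = evL x l + evL x l' := by
  induction l generalizing l' with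
  | nil => rw [addL, evL_nil, zero_add]
  | cons a l ih =>
    cases l' with
    | nil => rw [addL, evL_nil, add_zero]; simp
    | cons b l' =>
      rw [addL, evL_cons, evL_cons, evL_cons, ih]
      push_cast
      ring

theorem evL_sm (x : ℚ) (c : ℤ) (l : List ℤ) : evL x (smL c l) = c * evL x l := by
  induction l with
  | nil => rw [smL, evL_nil, mul_zero]
  | cons a l ih =>
    rw [smL, evL_cons, evL_cons, ih]
    push_cast
    ring

theorem evL_mul (x : ℚ) (l l' : List ℤ) : evL x (mulL l l') = evL x l * evL x l' := by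
  induction l with
  | nil => rw [mulL, evL_nil, zero_mul]
  | cons a l ih =>
    rw [mulL, evL_add, evL_sm, evL_cons, evL_cons, ih]
    push_cast
    ring

theorem evL_sh (x : ℚ) (n : ℕ) (l : List ℤ) : evL x (shL n l) = x ^ n * evL x l := by
  induction n with
  | zero => rw [shL, pow_zero, one_mul]
  | succ n ih =>
    rw [shL, evL_cons, ih, pow_succ]
    push_cast
    ring

theorem evL_zL (x : ℚ) {l : List ℤ} (h : zL l = true) : evL x l = 0 := by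
  induction l with
  | nil => rfl
  | cons a l ih =>
    rw [zL, Bool.and_eq_true, beq_iff_eq] at h
    rw [evL_cons, h.1, ih h.2]
    simp

theorem evL_tL (x : ℚ) (l : List ℤ) : evL x (tL l) = evL (x + 2) l := by
  induction l with
  | nil => rfl
  | cons a l ih =>
    rw [tL, evL_add, evL_add, evL_cons, evL_cons, evL_sm, evL_cons, ih, evL_nil]
    push_cast
    ring

theorem evL_nnL {x : ℚ} (hx : 0 ≤ x) {l : List ℤ} (h : nnL l = true) : 0 ≤ evL x l := by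
  induction l with
  | nil => exact le_refl _
  | cons a l ih =>
    rw [nnL, Bool.and_eq_true, decide_eq_true_eq] at h
    rw [evL_cons]
    have h1 : (0 : ℚ) ≤ a := by exact_mod_cast h.1
    have h2 := mul_nonneg hx (ih h.2)
    linarith

theorem evL_pos {x : ℚ} (hx : 2 ≤ x) {l : List ℤ} (h : posL l = true) : 0 < evL x l := by
  unfold posL at h
  rw [Bool.and_eq_true, decide_eq_true_eq] at h
  have h1 : evL x l = evL (x - 2) (tL l) := by rw [evL_tL]; congr 1; ring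
  rw [h1]
  cases hl : tL l with
  | nil =>
    rw [hl] at h
    simp at h
  | cons a l' =>
    rw [hl, nnL, Bool.and_eq_true, decide_eq_true_eq] at h
    rw [evL_cons]
    have h2 : (0 : ℚ) < a := by
      have h3 : 0 < a := h.2
      exact_mod_cast h3
    have h4 := mul_nonneg (show (0 : ℚ) ≤ x - 2 by linarith) (evL_nnL (show (0 : ℚ) ≤ x - 2 by linarith) h.1.2)
    linarith

theorem inj_of_nodup {m : ℕ} {f : Fin m → ℤ} (h : ((List.finRange m).map f).Nodup) (a b : Fin m) (hab : f a = f b) :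
    a = b := List.inj_on_of_nodup_map h (List.mem_finRange a) (List.mem_finRange b) hab

/-! ### the table -/

/-- the sign of the pairing with the root of the node `i0`: `1` positive, `2` negative, `0` zero -/
def sgn {I : Type*} [Fintype I] [DecidableEq I] {A : I → I → ℤ} {i0 : I} {m r : ℕ} (O : Orb A i0 m r) (b : Fin m) : ℕ :=
  if 0 < pairing A i0 (O.vec b) then 1 else if pairing A i0 (O.vec b) < 0 then 2 else 0

/-- `T_i0` applied to a polynomial function of the level -/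
def tp {r : ℕ} (u : Fin r → List ℤ) (k : Fin r) (c : ℕ) (l : Fin r) : List ℤ :=
  match c with
  | 1 => 0 :: u l
  | 2 => addL (addL (0 :: u k) (smL (-1) (u k))) (u l)
  | _ => 0 :: u k

/-- the weighted sum over the level `k` -/
def lsL {r : ℕ} (f : Fin r → ℕ → Fin r → List ℤ) (k : Fin r) : List (Fin r × ℕ × ℕ × Fin r) → List ℤ
  | [] => []
  | x :: d => if x.1 = k then addL (shL x.2.1 (f k x.2.2.1 x.2.2.2)) (lsL f k d) else lsL f k d

/-- the sum of the weights of the level `k` -/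
def zk {r : ℕ} (d : List (Fin r × ℕ × ℕ × Fin r)) (k : Fin r) : List ℤ := lsL (fun _ _ _ => [1]) k d

/-- the check of the eigenvectors -/
def checkU {r : ℕ} (d : List (Fin r × ℕ × ℕ × Fin r)) (k1 : Fin r) (N : Fin r → List ℤ) (U : Fin r → Fin r → List ℤ) :
    Prop :=
  ∀ i k, zL (addL (mulL (zk d k1) (lsL (tp (U i)) k d)) (smL (-1) (mulL (N i) (mulL (zk d k) (U i k))))) = true

instance {r : ℕ} (d : List (Fin r × ℕ × ℕ × Fin r)) (k1 : Fin r) (N : Fin r → List ℤ) (U : Fin r → Fin r → List ℤ) :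
    Decidable (checkU d k1 N U) :=
  inferInstanceAs (Decidable (∀ i k, zL (addL (mulL (zk d k1) (lsL (tp (U i)) k d))
    (smL (-1) (mulL (N i) (mulL (zk d k) (U i k))))) = true))

section Tab

variable {I : Type*} [Fintype I] [DecidableEq I] {A : I → I → ℤ} {i0 : I} {m r : ℕ} (O : Orb A i0 m r)
  (ex : Fin m → ℕ)

/-- the data of the table -/
def datO : List (Fin r × ℕ × ℕ × Fin r) :=
  (List.finRange m).map fun b => (O.lv b, ex b, sgn O b, O.lv (O.act i0 b))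

theorem evL_lsL (x : ℚ) (f : Fin r → ℕ → Fin r → List ℤ) (k : Fin r) (d : List (Fin r × ℕ × ℕ × Fin r)) :
    evL x (lsL f k d) = (d.map fun y => if y.1 = k then x ^ y.2.1 * evL x (f k y.2.2.1 y.2.2.2) else 0).sum := by
  induction d with
  | nil => rfl
  | cons y d ih =>
    rw [lsL, List.map_cons, List.sum_cons]
    split_ifs with h
    · rw [evL_add, evL_sh, ih]
    · rw [ih, zero_add]

theorem lsum_eq (x : ℚ) (f : Fin r → ℕ → Fin r → List ℤ) (Φ : Fin m → ℚ) (k : Fin r)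
    (hΦ : ∀ b, O.lv b = k → Φ b = evL x (f k (sgn O b) (O.lv (O.act i0 b)))) :
    lsum O (fun b => x ^ ex b) Φ k = evL x (lsL f k (datO O ex)) := by
  rw [evL_lsL]
  unfold lsum datO
  rw [List.map_map, ← List.ofFn_eq_map, List.sum_ofFn]
  refine Finset.sum_congr rfl fun b _ => ?_
  show (if O.lv b = k then x ^ ex b * Φ b else 0) =
    if O.lv b = k then x ^ ex b * evL x (f k (sgn O b) (O.lv (O.act i0 b))) else 0
  by_cases hb : O.lv b = k
  · rw [if_pos hb, if_pos hb, hΦ b hb]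
  · rw [if_neg hb, if_neg hb]

theorem Tf_tp (x : ℚ) (u : Fin r → List ℤ) (b : Fin m) :
    Tf O (fun _ => x) i0 (fun b => evL x (u (O.lv b))) b = evL x (tp u (O.lv b) (sgn O b) (O.lv (O.act i0 b))) := by
  unfold Tf sgn
  by_cases h1 : 0 < pairing A i0 (O.vec b)
  · rw [if_pos h1, if_pos h1]
    show _ = evL x (0 :: u _)
    rw [evL_cons]
    push_cast
    ring
  · rw [if_neg h1, if_neg h1]
    by_cases h2 : pairing A i0 (O.vec b) < 0
    · rw [if_pos h2, if_pos h2]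
      show _ = evL x (addL (addL (0 :: u _) (smL (-1) (u _))) (u _))
      rw [evL_add, evL_add, evL_cons, evL_sm]
      push_cast
      ring
    · rw [if_neg h2, if_neg h2]
      show _ = evL x (0 :: u _)
      rw [evL_cons]
      push_cast
      ring

/-- **The eigenvectors.** -/
theorem eig_of_check {d : List (Fin r × ℕ × ℕ × Fin r)} (hd : datO O ex = d) {k1 : Fin r} {N : Fin r → List ℤ}
    {U : Fin r → Fin r → List ℤ} (hc : checkU d k1 N U) (hz : ∀ k, posL (zk d k) = true) {x : ℚ} (hx : 2 ≤ x)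
    (i : Fin r) : Bop O (fun _ => x) (fun b => x ^ ex b) (fun k => evL x (U i k)) =
      (evL x (N i) / evL x (zk d k1)) • fun k => evL x (U i k) := by
  subst hd
  funext k
  have h1 := evL_zL x (hc i k)
  rw [evL_add, evL_mul, evL_sm, evL_mul, evL_mul] at h1
  have h2 : lsum O (fun b => x ^ ex b) (Tf O (fun _ => x) i0 (fun b => evL x (U i (O.lv b)))) k =
      evL x (lsL (tp (U i)) k (datO O ex)) :=
    lsum_eq O ex x (tp (U i)) _ k fun b hb => by rw [Tf_tp, hb]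
  have h3 : lsum O (fun b => x ^ ex b) (fun _ => 1) k = evL x (zk (datO O ex) k) :=
    lsum_eq O ex x (fun _ _ _ => [1]) _ k fun b _ => by
      rw [evL_cons, evL_nil]
      push_cast
      ring
  have h4 := (evL_pos hx (hz k)).ne'
  have h5 := (evL_pos hx (hz k1)).ne'
  rw [Bop_apply, h2, h3, Pi.smul_apply, smul_eq_mul, div_mul_eq_mul_div, div_eq_div_iff h4 h5]
  push_cast at h1
  linear_combination h1

theorem inj_of_pos {d : List (Fin r × ℕ × ℕ × Fin r)} {k1 : Fin r} {N : Fin r → List ℤ}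
    (hz : ∀ k, posL (zk d k) = true) (hN : ∀ i j, i < j → posL (addL (N i) (smL (-1) (N j))) = true) {x : ℚ}
    (hx : 2 ≤ x) : Function.Injective fun i => evL x (N i) / evL x (zk d k1) := by
  have h5 := evL_pos hx (hz k1)
  have key : ∀ i j, i < j → evL x (N i) / evL x (zk d k1) ≠ evL x (N j) / evL x (zk d k1) := by
    intro i j hij h
    rw [div_left_inj' h5.ne'] at h
    have h1 := evL_pos hx (hN i j hij)
    rw [evL_add, evL_sm, h] at h1
    push_cast at h1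
    linarith
  intro i j hij
  by_contra hne
  rcases lt_or_gt_of_ne hne with h1 | h1
  · exact key i j h1 hij
  · exact key j i h1 hij.symm

end Tab

end Cfsg.Agent.H498.RP

private theorem dce_a3d52c76cbde : _root_.True := by
  try have : _root_.True := by simp only [_root_.Cfsg.Agent.H498.RP.nnL.eq_2]
  try have : _root_.True := by simp only [_root_.Cfsg.Agent.H498.RP.nnL.eq_1]
  try have : _root_.True := by simp only [_root_.Cfsg.Agent.H498.RP.shL.eq_2]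
  try have : _root_.True := by simp only [_root_.Cfsg.Agent.H498.RP.smL.eq_1]
  try have : _root_.True := by simp only [_root_.Cfsg.Agent.H498.RP.mulL.eq_2]
  try have : _root_.True := by simp only [_root_.Cfsg.Agent.H498.RP.tL.eq_def]
  try have : _root_.True := by simp only [_root_.Cfsg.Agent.H498.RP.tL.eq_2]
  try have : _root_.True := by simp only [_root_.Cfsg.Agent.H498.RP.zL.eq_1]
  try have : _root_.True := by simp only [_root_.Cfsg.Agent.H498.RP.mulL.eq_def]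
  try have : _root_.True := by simp only [_root_.Cfsg.Agent.H498.RP.mulL.eq_1]
  try have : _root_.True := by simp only [_root_.Cfsg.Agent.H498.RP.zL.eq_def]
  try have : _root_.True := by simp only [_root_.Cfsg.Agent.H498.RP.addL.eq_2]
  try have : _root_.True := by simp only [_root_.Cfsg.Agent.H498.RP.lsL.eq_2]
  try have : _root_.True := by simp only [_root_.Cfsg.Agent.H498.RP.shL.eq_def]
  try have : _root_.True := by simp only [_root_.Cfsg.Agent.H498.RP.nnL.eq_def]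
  try have : _root_.True := by simp only [_root_.Cfsg.Agent.H498.RP.smL.eq_2]
  try have : _root_.True := by simp only [_root_.Cfsg.Agent.H498.RP.shL.eq_1]
  try have : _root_.True := by simp only [_root_.Cfsg.Agent.H498.RP.addL.eq_1]
  try have : _root_.True := by simp only [_root_.Cfsg.Agent.H498.RP.lsL.eq_1]
  try have : _root_.True := by simp only [_root_.Cfsg.Agent.H498.RP.addL.eq_def]
  try have : _root_.True := by simp only [_root_.Cfsg.Agent.H498.RP.lsL.eq_def]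
  try have : _root_.True := by simp only [_root_.Cfsg.Agent.H498.RP.zL.eq_2]
  try have : _root_.True := by simp only [_root_.Cfsg.Agent.H498.RP.tL.eq_1]
  try have : _root_.True := by simp only [_root_.Cfsg.Agent.H498.RP.smL.eq_def]
  try have : _root_.True := by simp only [_root_.Cfsg.Agent.H498.RP.addL.eq_3]
  exact _root_.True.intro
end

-- part: H498/RP/Chev
section
set_option linter.all false
open scoped Cfsg.Agent.FastGrp

/-!
# Untwisted exceptional groups: the constituents of `1_{P_J}` are integer valued (helper498)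

`int_chev` : the form of `int_of_table` for the groups `D.group K`; all checks are computations with the table.
-/

set_option autoImplicit false
set_option linter.unusedSectionVars false

open Cfsg

namespace Cfsg.Agent.H498.RP

open CoxeterSystem Cfsg.Agent.ChevalleyStructure.CoxeterGeom Cfsg.Agent.Tits.Roots Cfsg.Agent.Tits.Core
  Cfsg.Agent.Tits.Exchange Cfsg.Agent.Nodes.Reps Cfsg.Agent.Nodes.BNOf Cfsg.Agent.Nodes.StabComb
  Cfsg.Agent.Nodes.Bruhat Cfsg.Agent.Nodes.OppDec Cfsg.Agent.Nodes.LeviDec Cfsg.Agent.Nodes.NormalForm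
  Cfsg.Agent.H35.ExcIdx Cfsg.Lie Cfsg.Agent.Nodes.RGDChev Cfsg.Agent.ChevalleyStructure.NPerm

universe u

variable {D : ChevalleyDatum} {l : ℕ} {M : CoxeterMatrix (Fin l)} (hp : IsType D l M) (K : Type u) [Field K]
  [Fintype K]

/-- **Untwisted groups.** -/
theorem int_chev {A : Fin l → Fin l → ℤ} (hA : IsCartan M A) {i0 : Fin l} {m r : ℕ} (O : Orb A i0 m r)
    {ex : Fin m → ℕ} (hex1 : ∀ k, ex (O.base k) = 0)
    (hex2 : ∀ j, j ≠ i0 → ∀ b, 0 < pairing A j (O.vec b) → ex (O.act j b) = ex b + 1)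
    {d : List (Fin r × ℕ × ℕ × Fin r)} (hd : datO O ex = d) {k1 : Fin r} {N : Fin r → List ℤ}
    {U : Fin r → Fin r → List ℤ} (hc : checkU d k1 N U) (hz : ∀ k, posL (zk d k) = true)
    (hN : ∀ i j, i < j → posL (addL (N i) (smL (-1) (N j))) = true) {k0 : Fin r}
    (hU0 : ∀ i, posL (U i k0) = true)
    [Fintype (PJ M.toCoxeterSystem hp.isCartan (TT D K) (XX D l K) {j | j ≠ i0})]
    {χ : ↥(D.group K) → ℂ} (hχ : IsIrrCharacter ↥(D.group K) χ)
    (h0 : ∑ g : PJ M.toCoxeterSystem hp.isCartan (TT D K) (XX D l K) {j | j ≠ i0}, χ g ≠ 0) (g : ↥(D.group K)) :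
    ∃ k : ℤ, χ g = k := by
  classical
  obtain ⟨p, hpc⟩ := CharP.exists K
  have hpp : Fact p.Prime := ⟨CharP.char_is_prime K p⟩
  have hfin : Finite M.Group := finite_W hp M.toCoxeterSystem
  have R := rgd (K := K) hp M.toCoxeterSystem p
  have hcard : ∀ i, Nat.card (XX D l K (sr i)) = (fun _ : Fin l => Fintype.card K) i := fun i => by
    rw [card_XX hp K M.toCoxeterSystem (isRoot_sr _ _ i), Nat.card_eq_fintype_card]
  obtain ⟨Δ, hiso, htr, hΔ, hPJ⟩ := exists_bldg_PJ R (GG_eq_top hp K _) hcard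
  have hfS : Fintype ↥(D.group K) := Fintype.ofFinite _
  have hfC : Fintype (↥(D.group K) ⧸ RGD.B M.toCoxeterSystem hp.isCartan (TT D K) (XX D l K)) := Fintype.ofFinite _
  have hx : (2 : ℚ) ≤ (Fintype.card K : ℚ) := by
    have := Fintype.one_lt_card (α := K)
    exact_mod_cast this
  refine int_of_table O hA Δ hΔ hiso htr (wt := fun b => (Fintype.card K : ℚ) ^ ex b)
    (U := fun i k => evL (Fintype.card K : ℚ) (U i k))
    (θ := fun i => evL (Fintype.card K : ℚ) (N i) / evL (Fintype.card K : ℚ) (zk d k1)) ?_ ?_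
    (inj_of_pos hz hN hx) ?_ (fun i => ?_) (QuotientGroup.mk 1) _ (fun g => hPJ _ g) hχ (by convert h0) g
  · intro k
    show (Fintype.card K : ℚ) ^ ex (O.base k) = 1
    rw [hex1, pow_zero]
  · intro j hj b hb
    show (Fintype.card K : ℚ) ^ ex (O.act j b) = (Fintype.card K : ℚ) * (Fintype.card K : ℚ) ^ ex b
    rw [hex2 j hj b hb, pow_succ, mul_comm]
  · intro i h1
    have h2 := congrFun h1 k0
    exact (evL_pos hx (hU0 i)).ne' h2
  · exact eig_of_check O ex hd hc hz hx i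

end Cfsg.Agent.H498.RP
end

-- part: H498/RP/E7D6
section
set_option linter.all false
open scoped Cfsg.Agent.FastGrp

/-!
# Tables (helper498), generated
-/

set_option autoImplicit false
set_option maxRecDepth 100000
set_option maxHeartbeats 0

open Cfsg

namespace Cfsg.Agent.H498.RP

open Cfsg.Agent.ChevalleyStructure.CoxeterGeom Cfsg.Agent.H35.ExcIdx Cfsg.Lie Cfsg.Agent.Nodes.RGDChev
  Cfsg.Agent.Nodes.LeviDec Cfsg.Agent.ChevalleyStructure.CoxeterGeomTypes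

universe u

/-- the Cartan matrix -/
def cE7 : Fin 7 → Fin 7 → ℤ := ![![2, 0, -1, 0, 0, 0, 0], ![0, 2, 0, -1, 0, 0, 0], ![-1, 0, 2, -1, 0, 0, 0], ![0, -1, -1, 2, -1, 0, 0], ![0, 0, 0, -1, 2, -1, 0], ![0, 0, 0, 0, -1, 2, -1], ![0, 0, 0, 0, 0, -1, 2]]

private noncomputable def _root_.Cfsg.Agent.LsF.fec4a6f_0 : {f // @Cfsg.Lie.ChevalleyDatum.cartan = f} := ⟨_, by first | (delta Cfsg.Lie.ChevalleyDatum.cartan; rewrite [Cfsg.Agent.LsF.agetD_eq]; exact rfl) | exact rfl⟩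
private noncomputable def _root_.Cfsg.Agent.LsF.fec4a6f_1 : {f // @Cfsg.Lie.ChevalleyDatum.simple = f} := ⟨_, by first | (delta Cfsg.Lie.ChevalleyDatum.simple; rewrite [Cfsg.Agent.LsF.agetD_eq]; exact rfl) | exact rfl⟩
private noncomputable def _root_.Cfsg.Agent.LsF.fec4a6f_2 : {f // @Cfsg.Agent.ChevalleyStructure.CoxeterGeomTypes.cartanOf = f} := ⟨_, by first | (delta Cfsg.Agent.ChevalleyStructure.CoxeterGeomTypes.cartanOf; rewrite [Cfsg.Agent.LsF.fec4a6f_0.2, Cfsg.Agent.LsF.fec4a6f_1.2]; exact rfl) | exact rfl⟩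
private noncomputable def _root_.Cfsg.Agent.LsF.fec4a6f_3 : {f // @Cfsg.Agent.H498.RP.cE7 = f} := ⟨_, by first | (delta Cfsg.Agent.H498.RP.cE7; rewrite [Cfsg.Agent.LsF.ineg_pat, Cfsg.Agent.LsF.vecCons_eq]; exact rfl) | exact rfl⟩
theorem cE7_eq : cartanOf chevE7 7 = cE7 := by
  funext i j
  revert i j
  (refine of_decide_eq_true ?_; (try (rewrite [Cfsg.Agent.LsF.fec4a6f_2.2, Cfsg.Agent.LsF.fec4a6f_3.2, Cfsg.Agent.LsF.instIDecEq_eq, Cfsg.Agent.LsF.dForallFin_eq, Cfsg.Agent.LsF.decide_eq])); decide +kernel)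

theorem isCartan_cE7 : IsCartan CoxeterMatrix.E₇ cE7 := by
  rw [← cE7_eq]
  exact isCartan_E7

namespace E7D6

/-- the vectors -/
def vecT : Fin 126 → Fin 7 → ℤ := ![![2, 2, 3, 4, 3, 2, 1], ![1, 2, 3, 4, 3, 2, 1], ![1, 2, 2, 4, 3, 2, 1],
  ![1, 2, 2, 3, 3, 2, 1], ![1, 2, 2, 3, 2, 2, 1], ![1, 1, 2, 3, 3, 2, 1], ![1, 2, 2, 3, 2, 1, 1], ![1, 1, 2,
  3, 2, 2, 1], ![1, 2, 2, 3, 2, 1, 0], ![1, 1, 2, 3, 2, 1, 1], ![1, 1, 2, 2, 2, 2, 1], ![1, 1, 2, 3, 2, 1,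
  0], ![1, 1, 2, 2, 2, 1, 1], ![1, 1, 1, 2, 2, 2, 1], ![1, 1, 2, 2, 2, 1, 0], ![1, 1, 2, 2, 1, 1, 1], ![1, 1,
  1, 2, 2, 1, 1], ![1, 1, 2, 2, 1, 1, 0], ![1, 1, 1, 2, 2, 1, 0], ![1, 1, 1, 2, 1, 1, 1], ![1, 1, 2, 2, 1, 0,
  0], ![1, 1, 1, 2, 1, 1, 0], ![1, 1, 1, 1, 1, 1, 1], ![1, 1, 1, 2, 1, 0, 0], ![1, 1, 1, 1, 1, 1, 0], ![1, 0,
  1, 1, 1, 1, 1], ![1, 1, 1, 1, 1, 0, 0], ![1, 0, 1, 1, 1, 1, 0], ![1, 1, 1, 1, 0, 0, 0], ![1, 0, 1, 1, 1, 0,
  0], ![1, 0, 1, 1, 0, 0, 0], ![1, 0, 1, 0, 0, 0, 0], ![1, 0, 0, 0, 0, 0, 0], ![0, 1, 1, 2, 2, 2, 1], ![0, 1,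
  1, 2, 2, 1, 1], ![0, 1, 1, 2, 2, 1, 0], ![0, 1, 1, 2, 1, 1, 1], ![0, 1, 1, 2, 1, 1, 0], ![0, 1, 1, 1, 1, 1,
  1], ![0, 1, 1, 2, 1, 0, 0], ![0, 1, 1, 1, 1, 1, 0], ![0, 1, 0, 1, 1, 1, 1], ![0, 0, 1, 1, 1, 1, 1], ![0, 1,
  1, 1, 1, 0, 0], ![0, 1, 0, 1, 1, 1, 0], ![0, 0, 1, 1, 1, 1, 0], ![0, 0, 0, 1, 1, 1, 1], ![0, 1, 1, 1, 0, 0,
  0], ![0, 1, 0, 1, 1, 0, 0], ![0, 0, 1, 1, 1, 0, 0], ![0, 0, 0, 1, 1, 1, 0], ![0, 0, 0, 0, 1, 1, 1], ![0, 1,
  0, 1, 0, 0, 0], ![0, 0, 1, 1, 0, 0, 0], ![0, 0, 0, 1, 1, 0, 0], ![0, 0, 0, 0, 1, 1, 0], ![0, 0, 0, 0, 0, 1,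
  1], ![0, 1, 0, 0, 0, 0, 0], ![0, 0, 1, 0, 0, 0, 0], ![0, 0, 0, 1, 0, 0, 0], ![0, 0, 0, 0, 1, 0, 0], ![0, 0,
  0, 0, 0, 1, 0], ![0, 0, 0, 0, 0, 0, 1], ![0, 0, 0, 0, 0, 0, -1], ![0, 0, 0, 0, 0, -1, 0], ![0, 0, 0, 0, -1,
  0, 0], ![0, 0, 0, -1, 0, 0, 0], ![0, 0, -1, 0, 0, 0, 0], ![0, -1, 0, 0, 0, 0, 0], ![0, 0, 0, 0, 0, -1, -1],
  ![0, 0, 0, 0, -1, -1, 0], ![0, 0, 0, -1, -1, 0, 0], ![0, 0, -1, -1, 0, 0, 0], ![0, -1, 0, -1, 0, 0, 0],
  ![0, 0, 0, 0, -1, -1, -1], ![0, 0, 0, -1, -1, -1, 0], ![0, 0, -1, -1, -1, 0, 0], ![0, -1, 0, -1, -1, 0, 0],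
  ![0, -1, -1, -1, 0, 0, 0], ![0, 0, 0, -1, -1, -1, -1], ![0, 0, -1, -1, -1, -1, 0], ![0, -1, 0, -1, -1, -1,
  0], ![0, -1, -1, -1, -1, 0, 0], ![0, 0, -1, -1, -1, -1, -1], ![0, -1, 0, -1, -1, -1, -1], ![0, -1, -1, -1,
  -1, -1, 0], ![0, -1, -1, -2, -1, 0, 0], ![0, -1, -1, -1, -1, -1, -1], ![0, -1, -1, -2, -1, -1, 0], ![0, -1,
  -1, -2, -1, -1, -1], ![0, -1, -1, -2, -2, -1, 0], ![0, -1, -1, -2, -2, -1, -1], ![0, -1, -1, -2, -2, -2,
  -1], ![-1, 0, 0, 0, 0, 0, 0], ![-1, 0, -1, 0, 0, 0, 0], ![-1, 0, -1, -1, 0, 0, 0], ![-1, 0, -1, -1, -1, 0,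
  0], ![-1, -1, -1, -1, 0, 0, 0], ![-1, 0, -1, -1, -1, -1, 0], ![-1, -1, -1, -1, -1, 0, 0], ![-1, 0, -1, -1,
  -1, -1, -1], ![-1, -1, -1, -1, -1, -1, 0], ![-1, -1, -1, -2, -1, 0, 0], ![-1, -1, -1, -1, -1, -1, -1],
  ![-1, -1, -1, -2, -1, -1, 0], ![-1, -1, -2, -2, -1, 0, 0], ![-1, -1, -1, -2, -1, -1, -1], ![-1, -1, -1, -2,
  -2, -1, 0], ![-1, -1, -2, -2, -1, -1, 0], ![-1, -1, -1, -2, -2, -1, -1], ![-1, -1, -2, -2, -1, -1, -1],
  ![-1, -1, -2, -2, -2, -1, 0], ![-1, -1, -1, -2, -2, -2, -1], ![-1, -1, -2, -2, -2, -1, -1], ![-1, -1, -2,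
  -3, -2, -1, 0], ![-1, -1, -2, -2, -2, -2, -1], ![-1, -1, -2, -3, -2, -1, -1], ![-1, -2, -2, -3, -2, -1, 0],
  ![-1, -1, -2, -3, -2, -2, -1], ![-1, -2, -2, -3, -2, -1, -1], ![-1, -1, -2, -3, -3, -2, -1], ![-1, -2, -2,
  -3, -2, -2, -1], ![-1, -2, -2, -3, -3, -2, -1], ![-1, -2, -2, -4, -3, -2, -1], ![-1, -2, -3, -4, -3, -2,
  -1], ![-2, -2, -3, -4, -3, -2, -1]]

/-- the action -/
def actT : Fin 7 → Fin 126 → Fin 126 := ![![1, 0, 2, 3, 4, 5, 6, 7, 8, 9, 10, 11, 12, 33, 14, 15, 34, 17, 35,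
  36, 20, 37, 38, 39, 40, 42, 43, 45, 47, 49, 53, 58, 93, 13, 16, 18, 19, 21, 22, 23, 24, 41, 25, 26, 44, 27,
  46, 28, 48, 29, 50, 51, 52, 30, 54, 55, 56, 57, 31, 59, 60, 61, 62, 63, 64, 65, 66, 94, 68, 69, 70, 71, 95,
  73, 74, 75, 96, 77, 97, 79, 98, 81, 99, 100, 84, 101, 102, 103, 104, 106, 107, 109, 112, 32, 67, 72, 76,
  78, 80, 82, 83, 85, 86, 87, 88, 105, 89, 90, 108, 91, 110, 111, 92, 113, 114, 115, 116, 117, 118, 119, 120,
  121, 122, 123, 125, 124], ![0, 1, 2, 5, 7, 3, 9, 4, 11, 6, 10, 8, 12, 13, 14, 15, 16, 17, 18, 19, 20, 21,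
  25, 23, 27, 22, 29, 24, 30, 26, 28, 31, 32, 33, 34, 35, 36, 37, 42, 39, 45, 46, 38, 49, 50, 40, 41, 53, 54,
  43, 44, 51, 59, 47, 48, 55, 56, 68, 58, 52, 60, 61, 62, 63, 64, 65, 73, 67, 57, 69, 70, 77, 78, 66, 74, 81,
  82, 71, 72, 84, 85, 75, 76, 87, 79, 80, 86, 83, 88, 89, 90, 91, 92, 93, 94, 97, 99, 95, 101, 96, 103, 98,
  102, 100, 104, 105, 106, 107, 108, 109, 110, 111, 112, 113, 117, 115, 119, 114, 121, 116, 122, 118, 120,
  123, 124, 125], ![0, 2, 1, 3, 4, 5, 6, 7, 8, 9, 13, 11, 16, 10, 18, 19, 12, 21, 14, 15, 23, 17, 22, 20, 24,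
  25, 26, 27, 28, 29, 30, 32, 31, 33, 34, 35, 36, 37, 41, 39, 44, 38, 46, 48, 40, 50, 42, 52, 43, 54, 45, 51,
  47, 59, 49, 55, 56, 57, 67, 53, 60, 61, 62, 63, 64, 65, 72, 58, 68, 69, 70, 76, 66, 78, 74, 80, 71, 82, 73,
  83, 75, 85, 77, 79, 87, 81, 86, 84, 88, 89, 90, 91, 92, 94, 93, 95, 96, 97, 98, 99, 100, 101, 105, 103,
  108, 102, 110, 111, 104, 113, 106, 107, 115, 109, 114, 112, 116, 117, 118, 119, 120, 121, 122, 124, 123,
  125], ![0, 1, 3, 2, 4, 5, 6, 10, 8, 12, 7, 14, 9, 13, 11, 15, 16, 17, 18, 22, 20, 24, 19, 26, 21, 25, 23,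
  27, 28, 29, 31, 30, 32, 33, 34, 35, 38, 40, 36, 43, 37, 41, 42, 39, 44, 45, 51, 47, 48, 49, 55, 46, 57, 58,
  60, 50, 56, 52, 53, 66, 54, 61, 62, 63, 64, 71, 59, 72, 73, 69, 75, 65, 67, 68, 79, 70, 76, 77, 78, 74, 80,
  81, 86, 83, 84, 88, 82, 89, 85, 87, 90, 91, 92, 93, 95, 94, 96, 97, 98, 102, 100, 104, 99, 106, 101, 105,
  103, 107, 108, 109, 110, 114, 112, 116, 111, 118, 113, 117, 115, 119, 120, 121, 123, 122, 124, 125], ![0,
  1, 2, 4, 3, 7, 6, 5, 8, 9, 10, 11, 15, 13, 17, 12, 19, 14, 21, 16, 20, 18, 22, 23, 24, 25, 28, 27, 26, 30,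
  29, 31, 32, 33, 36, 37, 34, 35, 38, 39, 40, 41, 42, 47, 44, 45, 46, 43, 52, 53, 50, 56, 48, 49, 59, 61, 51,
  57, 58, 54, 65, 55, 62, 63, 70, 60, 71, 67, 68, 74, 64, 66, 76, 77, 69, 75, 72, 73, 82, 79, 80, 81, 78, 83,
  84, 85, 86, 87, 90, 91, 88, 89, 92, 93, 94, 96, 95, 99, 98, 97, 100, 101, 102, 103, 107, 105, 109, 104,
  111, 106, 113, 108, 112, 110, 114, 115, 116, 117, 120, 119, 118, 122, 121, 123, 124, 125], ![0, 1, 2, 3, 6,
  5, 4, 9, 8, 7, 12, 11, 10, 16, 14, 15, 13, 20, 18, 19, 17, 23, 22, 21, 26, 25, 24, 29, 28, 27, 30, 31, 32,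
  34, 33, 35, 36, 39, 38, 37, 43, 41, 42, 40, 48, 49, 46, 47, 44, 45, 54, 51, 52, 53, 50, 60, 62, 57, 58, 59,
  55, 64, 56, 69, 61, 70, 66, 67, 68, 63, 65, 75, 72, 73, 74, 71, 80, 81, 78, 79, 76, 77, 85, 83, 84, 82, 88,
  87, 86, 89, 90, 92, 91, 93, 94, 95, 98, 97, 96, 101, 100, 99, 104, 103, 102, 108, 106, 107, 105, 112, 110,
  111, 109, 115, 114, 113, 118, 117, 116, 121, 120, 119, 122, 123, 124, 125], ![0, 1, 2, 3, 4, 5, 8, 7, 6,
  11, 10, 9, 14, 13, 12, 17, 18, 15, 16, 21, 20, 19, 24, 23, 22, 27, 26, 25, 28, 29, 30, 31, 32, 33, 35, 34,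
  37, 36, 40, 39, 38, 44, 45, 43, 41, 42, 50, 47, 48, 49, 46, 55, 52, 53, 54, 51, 61, 57, 58, 59, 60, 56, 63,
  62, 69, 65, 66, 67, 68, 64, 74, 71, 72, 73, 70, 79, 76, 77, 78, 75, 83, 84, 82, 80, 81, 87, 86, 85, 89, 88,
  91, 90, 92, 93, 94, 95, 96, 97, 100, 99, 98, 103, 102, 101, 106, 105, 104, 109, 110, 107, 108, 113, 112,
  111, 116, 115, 114, 119, 118, 117, 120, 121, 122, 123, 124, 125]]

/-- the levels -/
def lvT : Fin 126 → Fin 5 := ![0, 1, 1, 1, 1, 1, 1, 1, 1, 1, 1, 1, 1, 1, 1, 1, 1, 1, 1, 1, 1, 1, 1, 1, 1, 1,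
  1, 1, 1, 1, 1, 1, 1, 2, 2, 2, 2, 2, 2, 2, 2, 2, 2, 2, 2, 2, 2, 2, 2, 2, 2, 2, 2, 2, 2, 2, 2, 2, 2, 2, 2, 2,
  2, 2, 2, 2, 2, 2, 2, 2, 2, 2, 2, 2, 2, 2, 2, 2, 2, 2, 2, 2, 2, 2, 2, 2, 2, 2, 2, 2, 2, 2, 2, 3, 3, 3, 3, 3,
  3, 3, 3, 3, 3, 3, 3, 3, 3, 3, 3, 3, 3, 3, 3, 3, 3, 3, 3, 3, 3, 3, 3, 3, 3, 3, 3, 4]

/-- the exponents of the weights -/
def ex : Fin 126 → ℕ := ![0, 0, 1, 2, 3, 3, 4, 4, 5, 5, 5, 6, 6, 6, 7, 7, 7, 8, 8, 8, 9, 9, 9, 10, 10, 10,
  11, 11, 12, 12, 13, 14, 15, 0, 1, 2, 2, 3, 3, 4, 4, 4, 4, 5, 5, 5, 5, 6, 6, 6, 6, 6, 7, 7, 7, 7, 7, 8, 8,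
  8, 8, 8, 8, 9, 9, 9, 9, 9, 9, 10, 10, 10, 10, 10, 11, 11, 11, 11, 11, 12, 12, 12, 12, 13, 13, 13, 13, 14,
  14, 15, 15, 16, 17, 0, 1, 2, 3, 3, 4, 4, 5, 5, 5, 6, 6, 6, 7, 7, 7, 8, 8, 8, 9, 9, 9, 10, 10, 10, 11, 11,
  12, 12, 13, 14, 15, 0]

private def tv {α : Type} (N : ℕ) (f : ℕ → α) (n : ℕ) : Fin n → α :=
  @Nat.rec (fun n => Fin n → α) ![] (fun n ih => Matrix.vecCons (f (N - (n + 1))) ih) n

private theorem tv_ap {α : Type} (N : ℕ) (f : ℕ → α) (n : ℕ) (h : n ≤ N) (i : Fin n) : tv N f n i = f (N - n + i) := by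
  induction n with
  | zero => exact i.elim0
  | succ n ih =>
    refine Fin.cases rfl (fun j => ?_) i
    exact (ih (Nat.le_of_succ_le h) j).trans (congrArg f (by rw [Fin.val_succ]; omega))

private theorem tv_eq {α : Type} (N : ℕ) (f : ℕ → α) : tv N f N = fun i : Fin N => f i :=
  funext fun i => (tv_ap N f N le_rfl i).trans (congrArg f (by omega))

private def dg (P w k : ℕ) : ℕ := Nat.mod (Nat.shiftRight P (Nat.mul w k)) (Nat.pow 2 w)

private def vv (b i : ℕ) : ℤ := Int.subNatNat (dg 0x76545667654567765466776556677665667765567777656677665677876566777656777666677876567777666777666777876667777766777766777877667787667777776777887667787767777777777887677787777777777787887777787777878887777887778788877878888787888888776667787766778876677877767788776778777777888767788777778777787877777888877778877787887777887777888888777888778788877788877788877788888887878888778888778888778888778888888888788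888788888788888788888788888788888898888888988888889888888898888888988888889899888888998888889988888899888889898999888889998888899988889989888899989999888899998889998988899998999998899998988999998889a9989999998899a998999a99889aa99899aa9989aaa998888888988889898889989889998988899998999989889999999999898999999889a9999999999899a999889aa99999a99989aa999899aa9999aa999999aa9989aaa999aaa99999aaa9989aba999aaaa9999aba9989abaa99aaba9999abaa99abba999aabaa99abbaa99abcaa99abcba99abcbaa 4 (Nat.add (Nat.mul 7 b) i)) 8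

private def cc (i k : ℕ) : ℤ := Int.subNatNat (dg 0x3155315531553055345475547 2 (Nat.add (Nat.mul 7 i) k)) 1

private def aa (i b : ℕ) : ℕ := dg 0x3efcf7ebcf8ebdbbf2e7d37f0e3b35eedba34eacb9b3e2c7930e0bf7aedcb56ec59ab5abd1a14aa53973a6cc9f1a4c88f2a044870a0c57cfdc3c76e9cbd66d9ab46eb98b05ec952956b56264ea1225448d0a03e78e9c3268d962e609942a40792223068e12285860e202840608080fbf3dfaefe3cf4ebdb8f2e7b77eee1a75ead99b3e8c7932e0c38afdebb6ee5ab35abd8a5529d59b327cea3423ca93225c17f121c28cf62b880dddba72f9e326ad19b65ab17ae62c142a52ad2a64e911a14480f9e3670e983268a962e44992283478e202858c0e204840a181820203efcf7e7d76efe3af4e7cb770d9c756fd1b74ebcf9b2e4c38b1dfc17aedcb362ddaaf5aad4a73a8d09f4a4c897166cc8502544871de467ef9bc16ce9cb37aed8b070c9ab456b96ac5ea94a84e991a24a910a03e74f1a3670c982e589142054713184468f16284880a183830808080fbf3d7bf3e3bf3ebc7b6fe9c396edbb35e7d397563d193362c382f5fbb72ddaaf56cd2b1529d6a34254e9b3234f89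0e0cb8b2643b8f01fbe7ada13568e193c74e573762c17b35ab13aa52955a450991a24280f1f3a70d973254d133050b12224078b1a2470718205060a101030203efbf9ebcf8efdbaf4e1cb6f3d7ab8e8dfbb36ccfa72e4c78b0e0bf76f5cb76acd8a95a8d79f36acba726947a12a742991a2c475220c07ef9ebc6b0dcb86ec5daf66b5b2b68a992860b932c4ea52a4468909f4078e9c3668c9828588971e38a8c264851016344880e182840604100fbf3df8edeba79e5df9f5e3c37eedbb35ead3a3266c59f065bf8f0debb72ddab3629d6a13ebcc9756a488f4a8ca853a6c68ae61c98301fbe7af1a3a88e1bb05eed9ac56d9aa950c98a65cb53aa4a911a24280f9c3478c1d2c6cb992a50992224078e1a3040a0c2c209061c2820203e7df7ebcf8efdbaf4e7cb8dcdfbadecb5674d8af5aad3a54274c910d070dbaf568cf9b2d4c98e8e29f866e0972a4df8f1a2c4bd0a0c07ef9ebc767dcb86ed8f3466c8eb038b8dac34654982e58a9324406dd74d58af5aad5284e99294488c8a21e3908c16284880e182840608001 7 (Nat.add (Nat.mul 126 i) b)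

private def ll (b : ℕ) : ℕ := dg 0x236db6db6db6db6db6db6db6da492492492492492492492492492492492492492492491249249249249249249249248 3 b

private def ee (b : ℕ) : ℕ := dg 0xf7358c5ad4a525294210739cc6314a5210631041183dee735ad6b18c62d6b5ad4a529494a5294a1084210739ce7318c6314a52908420c621040f7358c5ad4a525294210739cc6314a52106310400 5 b

private theorem vec_eq : vecT = fun (b : Fin 126) (i : Fin 7) => vv b i :=
  (show vecT = tv 126 (fun b => tv 7 (vv b) 7) 126 by eq_refl).trans ((tv_eq _ _).trans (funext fun _ => tv_eq _ _))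

private theorem car_eq : cE7 = fun (i k : Fin 7) => cc i k :=
  (show cE7 = tv 7 (fun i => tv 7 (cc i) 7) 7 by eq_refl).trans ((tv_eq _ _).trans (funext fun _ => tv_eq _ _))

private theorem act_eq : actT = fun (i : Fin 7) (b : Fin 126) => Fin.ofNat 126 (aa i b) :=
  (show actT = tv 7 (fun i => tv 126 (fun b => Fin.ofNat 126 (aa i b)) 126) 7 by eq_refl).trans
    ((tv_eq _ _).trans (funext fun _ => tv_eq _ _))

private theorem lv_eq : lvT = fun b : Fin 126 => Fin.ofNat 5 (ll b) :=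
  (show lvT = tv 126 (fun b => Fin.ofNat 5 (ll b)) 126 by eq_refl).trans (tv_eq _ _)

private theorem ex_eq : ex = fun b : Fin 126 => ee b :=
  (show ex = tv 126 ee 126 by eq_refl).trans (tv_eq _ _)

private noncomputable def _root_.Cfsg.Agent.LsF.fec4a6f_4 : {f // @Int.subNatNat = f} := ⟨_, by first | (delta Int.subNatNat; rewrite [Cfsg.Agent.LsF.nsub_pat]; (try delta Int.negOfNat.match_1); (try delta Nat.casesOn); exact rfl) | exact rfl⟩
private noncomputable def _root_.Cfsg.Agent.LsF.fec4a6f_5 : {f // @Cfsg.Agent.H498.RP.E7D6.vv = f} := ⟨_, by first | (delta Cfsg.Agent.H498.RP.E7D6.vv; rewrite [Cfsg.Agent.LsF.fec4a6f_4.2]; exact rfl) | exact rfl⟩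
theorem inj : ∀ a b, vecT a = vecT b → a = b := by
  have h1 : ∀ a b : Fin 126, (∑ i, (![1, 3, 9, 27, 81, 243, 729] : Fin 7 → ℤ) i * vecT a i) = (∑ i, (![1, 3, 9, 27, 81, 243, 729] : Fin 7 → ℤ) i * vecT b i) → a = b :=
    inj_of_nodup (by rw [vec_eq]; (refine of_decide_eq_true ?_; (try (rewrite [Cfsg.Agent.LsF.sumF_pat, Cfsg.Agent.LsF.fec4a6f_5.2, Cfsg.Agent.LsF.iadd_pat, Cfsg.Agent.LsF.imul_pat, Cfsg.Agent.LsF.vecCons_eq, Cfsg.Agent.LsF.iACM_eq, Cfsg.Agent.LsF.map_eq, Cfsg.Agent.LsF.instIDecEq_eq, Cfsg.Agent.LsF.dNodup_eq, Cfsg.Agent.LsF.finRange_eq, Cfsg.Agent.LsF.decide_eq])); decide +kernel))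
  intro a b hab
  exact h1 a b (by rw [hab])

private noncomputable def _root_.Cfsg.Agent.LsF.fec4a6f_6 : {f // @Cfsg.Agent.H498.RP.E7D6.cc = f} := ⟨_, by first | (delta Cfsg.Agent.H498.RP.E7D6.cc; rewrite [Cfsg.Agent.LsF.fec4a6f_4.2]; exact rfl) | exact rfl⟩
theorem va (i : Fin 7) (b : Fin 126) : refl cE7 i (vecT b) = vecT (actT i b) := by
  revert i b
  rw [vec_eq, act_eq, car_eq]
  (refine of_decide_eq_true ?_; (try (delta Cfsg.Agent.ChevalleyStructure.CoxeterGeom.pairing Cfsg.Agent.ChevalleyStructure.CoxeterGeom.refl Function.update Pi.single; rewrite [Cfsg.Agent.LsF.dPiF_pat, Cfsg.Agent.LsF.fec4a6f_6.2, Cfsg.Agent.LsF.fec4a6f_5.2, Cfsg.Agent.LsF.finFintype_eq, Cfsg.Agent.LsF.instIDecEq_eq, Cfsg.Agent.LsF.dFinEq_eq, Cfsg.Agent.LsF.dForallFin_eq, Cfsg.Agent.LsF.decide_eq])); decide +kernel)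

/-- the table -/
def orb : Orb cE7 0 126 5 where
  vec := vecT
  act := actT
  lv := lvT
  base := ![0, 1, 33, 93, 125]
  dp := ex
  dd := fun _ => 1
  b0 := 0
  wd := ![[], [0], [0, 2, 3, 1, 4, 3, 2, 0], [0, 2, 3, 1, 4, 3, 2, 5, 4, 3, 1, 6, 5, 4, 3, 2, 0], [0, 2, 3, 1, 4, 3, 2, 0, 5, 4, 3, 1, 2, 3, 4, 5, 6, 5, 4, 3, 1, 2, 0, 3, 2, 4, 3, 1, 5, 4, 3, 2, 0]]
  dd_pos := fun _ => one_pos
  symm := by decide +kernel
  dom := by decide +kernel
  dom0 := by decide +kernel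
  domJ := by decide +kernel
  inj := inj
  vec_act := va
  lv_act' := by rw [lv_eq, act_eq]; decide +kernel
  lv_base := by rw [lv_eq]; decide +kernel
  down := by rw [vec_eq, act_eq, lv_eq, ex_eq, car_eq]; (refine of_decide_eq_true ?_; (try (delta Cfsg.Agent.ChevalleyStructure.CoxeterGeom.pairing; rewrite [Cfsg.Agent.LsF.sumF_pat, Cfsg.Agent.LsF.fec4a6f_6.2, Cfsg.Agent.LsF.fec4a6f_5.2, Cfsg.Agent.LsF.iadd_pat, Cfsg.Agent.LsF.imul_pat, Cfsg.Agent.LsF.vecCons_eq, Cfsg.Agent.LsF.iACM_eq, Cfsg.Agent.LsF.decLt_eq, Cfsg.Agent.LsF.idecLt_eq, Cfsg.Agent.LsF.dAnd_eq, Cfsg.Agent.LsF.dOr_eq, Cfsg.Agent.LsF.dNot_eq, Cfsg.Agent.LsF.dFinEq_eq, Cfsg.Agent.LsF.dForallFin_eq, Cfsg.Agent.LsF.dExistsFin_eq, Cfsg.Agent.LsF.decide_eq])); decide +kernel)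
  word := by rw [act_eq]; decide +kernel

/-- level, exponent, sign, level of the image -/
def dat : List (Fin 5 × ℕ × ℕ × Fin 5) := [(0, 0, 1, 1), (1, 0, 2, 0), (1, 1, 0, 1), (1, 2, 0, 1), (1, 3, 0,
  1), (1, 3, 0, 1), (1, 4, 0, 1), (1, 4, 0, 1), (1, 5, 0, 1), (1, 5, 0, 1), (1, 5, 0, 1), (1, 6, 0, 1), (1,
  6, 0, 1), (1, 6, 1, 2), (1, 7, 0, 1), (1, 7, 0, 1), (1, 7, 1, 2), (1, 8, 0, 1), (1, 8, 1, 2), (1, 8, 1, 2),
  (1, 9, 0, 1), (1, 9, 1, 2), (1, 9, 1, 2), (1, 10, 1, 2), (1, 10, 1, 2), (1, 10, 1, 2), (1, 11, 1, 2), (1,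
  11, 1, 2), (1, 12, 1, 2), (1, 12, 1, 2), (1, 13, 1, 2), (1, 14, 1, 2), (1, 15, 1, 3), (2, 0, 2, 1), (2, 1,
  2, 1), (2, 2, 2, 1), (2, 2, 2, 1), (2, 3, 2, 1), (2, 3, 2, 1), (2, 4, 2, 1), (2, 4, 2, 1), (2, 4, 0, 2),
  (2, 4, 2, 1), (2, 5, 2, 1), (2, 5, 0, 2), (2, 5, 2, 1), (2, 5, 0, 2), (2, 6, 2, 1), (2, 6, 0, 2), (2, 6, 2,
  1), (2, 6, 0, 2), (2, 6, 0, 2), (2, 7, 0, 2), (2, 7, 2, 1), (2, 7, 0, 2), (2, 7, 0, 2), (2, 7, 0, 2), (2,
  8, 0, 2), (2, 8, 2, 1), (2, 8, 0, 2), (2, 8, 0, 2), (2, 8, 0, 2), (2, 8, 0, 2), (2, 9, 0, 2), (2, 9, 0, 2),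
  (2, 9, 0, 2), (2, 9, 0, 2), (2, 9, 1, 3), (2, 9, 0, 2), (2, 10, 0, 2), (2, 10, 0, 2), (2, 10, 0, 2), (2,
  10, 1, 3), (2, 10, 0, 2), (2, 11, 0, 2), (2, 11, 0, 2), (2, 11, 1, 3), (2, 11, 0, 2), (2, 11, 1, 3), (2,
  12, 0, 2), (2, 12, 1, 3), (2, 12, 0, 2), (2, 12, 1, 3), (2, 13, 1, 3), (2, 13, 0, 2), (2, 13, 1, 3), (2,
  13, 1, 3), (2, 14, 1, 3), (2, 14, 1, 3), (2, 15, 1, 3), (2, 15, 1, 3), (2, 16, 1, 3), (2, 17, 1, 3), (3, 0,
  2, 1), (3, 1, 2, 2), (3, 2, 2, 2), (3, 3, 2, 2), (3, 3, 2, 2), (3, 4, 2, 2), (3, 4, 2, 2), (3, 5, 2, 2),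
  (3, 5, 2, 2), (3, 5, 2, 2), (3, 6, 2, 2), (3, 6, 2, 2), (3, 6, 0, 3), (3, 7, 2, 2), (3, 7, 2, 2), (3, 7, 0,
  3), (3, 8, 2, 2), (3, 8, 0, 3), (3, 8, 0, 3), (3, 9, 2, 2), (3, 9, 0, 3), (3, 9, 0, 3), (3, 10, 0, 3), (3,
  10, 0, 3), (3, 10, 0, 3), (3, 11, 0, 3), (3, 11, 0, 3), (3, 12, 0, 3), (3, 12, 0, 3), (3, 13, 0, 3), (3,
  14, 0, 3), (3, 15, 1, 4), (4, 0, 2, 3)]

theorem dat_eq : datO orb ex = dat := by
  show ((List.finRange 126).map fun b => (lvT b, ex b, (if 0 < pairing cE7 0 (vecT b) then 1 else if pairing cE7 0 (vecT b) < 0 then 2 else 0 : ℕ),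
    lvT (actT 0 b))) = dat
  generalize hc : pairing cE7 0 = p
  rw [car_eq] at hc
  subst hc
  rw [vec_eq, act_eq, lv_eq, ex_eq]
  decide +kernel

theorem ex1 : ∀ k, ex (orb.base k) = 0 := by decide +kernel

theorem ex2 : ∀ j, j ≠ 0 → ∀ b, 0 < pairing cE7 j (orb.vec b) → ex (orb.act j b) = ex b + 1 := by
  show ∀ j, j ≠ 0 → ∀ b, 0 < pairing cE7 j (vecT b) → ex (actT j b) = ex b + 1
  rw [vec_eq, act_eq, ex_eq, car_eq]
  (refine of_decide_eq_true ?_; (try (delta Cfsg.Agent.ChevalleyStructure.CoxeterGeom.pairing; rewrite [Cfsg.Agent.LsF.sumF_pat, Cfsg.Agent.LsF.fec4a6f_6.2, Cfsg.Agent.LsF.fec4a6f_5.2, Cfsg.Agent.LsF.nadd_pat, Cfsg.Agent.LsF.iadd_pat, Cfsg.Agent.LsF.imul_pat, Cfsg.Agent.LsF.iACM_eq, Cfsg.Agent.LsF.instDecEq_eq, Cfsg.Agent.LsF.idecLt_eq, Cfsg.Agent.LsF.dNot_eq, Cfsg.Agent.LsF.dFinEq_eq, Cfsg.Agent.LsF.dForallFin_eq, Cfsg.Agent.LsF.dAllP_eq, Cfsg.Agent.LsF.decide_eq])); decide +kernel)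

/-- the eigenvalues -/
def NN : Fin 5 → List ℤ := ![[0, 1, 1, 1, 2, 2, 3, 3, 3, 3, 3, 3, 2, 2, 1, 1, 1], [-1, 0, 0, 0, 1, 1, 2, 2,
  3, 2, 2, 2, 1, 1], [-1, 0, 0, -1, 0, 0, 1, 1, 1, 1, 1, 1], [-1, 0, 0, -1, 0, -1, 0, 0, 1], [-1, 0, 0, -1,
  0, -1, 0, 0, -1]]

/-- the eigenvectors -/
def UU : Fin 5 → Fin 5 → List ℤ := ![![[1], [1], [1], [1], [1]], ![[0, 0, 0, 0, 0, 0, 0, 0, 0, 1, 0, 0, 0, 0,
  1], [0, 0, 0, 0, 0, 0, 0, 0, -1, 1, 0, 1], [0, 0, 0, 0, 0, -1, 0, 0, 0, 1], [0, 0, 0, -1, 0, -1, 1], [-1,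
  0, 0, 0, 0, -1]], ![[0, 0, 0, 0, 0, 0, 0, 0, 0, 0, 0, 0, 0, 0, 1, 0, 2, 0, 3, 1, 3, 2, 2, 3, 1, 3, 0, 2, 0,
  1], [0, 0, 0, 0, 0, 0, 0, 0, 0, 0, 0, 0, 0, -1, 1, -2, 2, -3, 3, -2, 3, -1, 2, 0, 1], [0, 0, 0, 0, 0, 0, 0,
  0, 0, 1, -1, 1, -2, 0, -1, -1, 0, -2, 1, -1, 1], [0, 0, 0, 0, 0, 1, 0, 2, -1, 3, -2, 3, -3, 2, -2, 1, -1],
  [1, 0, 2, 0, 3, 1, 3, 2, 2, 3, 1, 3, 0, 2, 0, 1]], ![[0, 0, 0, 0, 0, 0, 0, 0, 0, 0, 0, 0, 0, 0, 0, 0, 0, 0,
  1, 1, 0, 1, 2, 2, 1, 1, 2, 2, 1, 0, 1, 1], [0, 0, 0, 0, 0, 0, 0, 0, 0, 0, 0, 0, 0, 0, 0, 0, 0, -1, 0, 1,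
  -1, -1, 0, 1], [0, 0, 0, 0, 0, 0, 0, 0, 0, 0, 0, 0, 0, 1, 0, -1, 1, 0, -1], [0, 0, 0, 0, 0, 0, 0, 0, -1, 0,
  1, 1, -1, 0, 1], [-1, -1, 0, -1, -2, -2, -1, -1, -2, -2, -1, 0, -1, -1]], ![[0, 0, 0, 0, 0, 0, 0, 0, 0, 0,
  0, 0, 0, 0, 0, 0, 0, 0, 1, 2, 3, 4, 5, 5, 5, 5, 4, 3, 2, 1], [0, 0, 0, 0, 0, 0, 0, 0, 0, 0, 0, 0, 0, 0, 0,
  0, 0, -1, -1, -1, -1, -1], [0, 0, 0, 0, 0, 0, 0, 0, 0, 0, 0, 0, 0, 1, 1, 1, 1], [0, 0, 0, 0, 0, 0, 0, 0,
  -1, -1, -1, -1, -1], [1, 2, 3, 4, 5, 5, 5, 5, 4, 3, 2, 1]]]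

private noncomputable def _root_.Cfsg.Agent.LsF.fec4a6f_7 : {f // @Cfsg.Agent.H498.RP.zL = f} := ⟨_, by first | (delta Cfsg.Agent.H498.RP.zL Cfsg.Agent.H498.RP.zL._f List.brecOn List.brecOn.go; rewrite [Cfsg.Agent.LsF.ibeq_pat, Cfsg.Agent.LsF.and_eq]; (try delta Cfsg.Agent.H498.RP.evL.match_1); (try delta List.casesOn); first | dsimp -zeta only | exact rfl) | exact rfl⟩
private noncomputable def _root_.Cfsg.Agent.LsF.fec4a6f_8 : {f // @Cfsg.Agent.H498.RP.addL = f} := ⟨_, by first | (delta Cfsg.Agent.H498.RP.addL List.brecOn List.brecOn.go Cfsg.Agent.H498.RP.addL._f; rewrite [Cfsg.Agent.LsF.iadd_pat]; (try delta Cfsg.Agent.H498.RP.addL.match_1); (try delta List.casesOn); first | dsimp -zeta only | exact rfl) | exact rfl⟩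
private noncomputable def _root_.Cfsg.Agent.LsF.fec4a6f_9 : {f // @Cfsg.Agent.H498.RP.smL = f} := ⟨_, by first | (delta Cfsg.Agent.H498.RP.smL List.brecOn List.brecOn.go Cfsg.Agent.H498.RP.smL._f; rewrite [Cfsg.Agent.LsF.imul_pat]; (try delta Cfsg.Agent.H498.RP.evL.match_1); (try delta List.casesOn); first | dsimp -zeta only | exact rfl) | exact rfl⟩
private noncomputable def _root_.Cfsg.Agent.LsF.fec4a6f_10 : {f // @Cfsg.Agent.H498.RP.mulL = f} := ⟨_, by first | (delta Cfsg.Agent.H498.RP.mulL List.brecOn List.brecOn.go Cfsg.Agent.H498.RP.mulL._f; rewrite [Cfsg.Agent.LsF.fec4a6f_8.2, Cfsg.Agent.LsF.fec4a6f_9.2]; (try delta Cfsg.Agent.H498.RP.mulL.match_1); (try delta List.casesOn); first | dsimp -zeta only | exact rfl) | exact rfl⟩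
private noncomputable def _root_.Cfsg.Agent.LsF.fec4a6f_11 : {f // @Cfsg.Agent.H498.RP.shL = f} := ⟨_, by first | (delta Cfsg.Agent.H498.RP.shL Nat.brecOn.go Nat.brecOn Cfsg.Agent.H498.RP.shL._f; (try delta Cfsg.Agent.H498.RP.shL.match_1); (try delta Nat.casesOn); first | dsimp -zeta only | exact rfl) | exact rfl⟩
private noncomputable def _root_.Cfsg.Agent.LsF.fec4a6f_12 : {f // @Cfsg.Agent.H498.RP.lsL = f} := ⟨_, by first | (delta Cfsg.Agent.H498.RP.lsL List.brecOn List.brecOn.go Cfsg.Agent.H498.RP.lsL._f; rewrite [Cfsg.Agent.LsF.fec4a6f_8.2, Cfsg.Agent.LsF.fec4a6f_11.2, Cfsg.Agent.LsF.dFinEq_eq, Cfsg.Agent.LsF.ite_eq]; (try delta Cfsg.Agent.H498.RP.lsL.match_1); (try delta List.casesOn); first | dsimp -zeta only | exact rfl) | exact rfl⟩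
private noncomputable def _root_.Cfsg.Agent.LsF.fec4a6f_13 : {f // @Cfsg.Agent.H498.RP.zk = f} := ⟨_, by first | (delta Cfsg.Agent.H498.RP.zk; rewrite [Cfsg.Agent.LsF.fec4a6f_12.2]; exact rfl) | exact rfl⟩
private noncomputable def _root_.Cfsg.Agent.LsF.fec4a6f_14 : {f // @Cfsg.Agent.H498.RP.tp = f} := ⟨_, by first | (delta Cfsg.Agent.H498.RP.tp; rewrite [Cfsg.Agent.LsF.fec4a6f_8.2, Cfsg.Agent.LsF.fec4a6f_9.2, Cfsg.Agent.LsF.ineg_pat]; (try delta Cfsg.Agent.H498.RP.tp.match_1); (try rewrite [Cfsg.Agent.LsF.instDecEq_eq, Cfsg.Agent.LsF.dite_eq]); exact rfl) | exact rfl⟩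
private noncomputable def _root_.Cfsg.Agent.LsF.fec4a6f_15 : {f // @Cfsg.Agent.H498.RP.E7D6.UU = f} := ⟨_, by first | (delta Cfsg.Agent.H498.RP.E7D6.UU; rewrite [Cfsg.Agent.LsF.ineg_pat, Cfsg.Agent.LsF.vecCons_eq]; exact rfl) | exact rfl⟩
private noncomputable def _root_.Cfsg.Agent.LsF.fec4a6f_16 : {f // @Cfsg.Agent.H498.RP.E7D6.NN = f} := ⟨_, by first | (delta Cfsg.Agent.H498.RP.E7D6.NN; rewrite [Cfsg.Agent.LsF.ineg_pat, Cfsg.Agent.LsF.vecCons_eq]; exact rfl) | exact rfl⟩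
theorem check : checkU dat 1 NN UU := by (refine of_decide_eq_true ?_; (try (delta Cfsg.Agent.H498.RP.checkU Cfsg.Agent.H498.RP.instDecidableCheckU Cfsg.Agent.H498.RP.instDecidableCheckU._aux_1; rewrite [Cfsg.Agent.LsF.fec4a6f_7.2, Cfsg.Agent.LsF.fec4a6f_8.2, Cfsg.Agent.LsF.fec4a6f_10.2, Cfsg.Agent.LsF.fec4a6f_13.2, Cfsg.Agent.LsF.fec4a6f_12.2, Cfsg.Agent.LsF.fec4a6f_14.2, Cfsg.Agent.LsF.fec4a6f_15.2, Cfsg.Agent.LsF.fec4a6f_9.2, Cfsg.Agent.LsF.fec4a6f_16.2, Cfsg.Agent.LsF.ineg_pat, Cfsg.Agent.LsF.dBoolEq_eq, Cfsg.Agent.LsF.dForallFin_eq, Cfsg.Agent.LsF.decide_eq])); decide +kernel)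

theorem hz : ∀ k, posL (zk dat k) = true := by decide +kernel

theorem hN : ∀ i j, i < j → posL (addL (NN i) (smL (-1) (NN j))) = true := by decide +kernel

theorem hU0 : ∀ i, posL (UU i 0) = true := by decide +kernel

end E7D6

/-- `E₇`, the parabolic subgroup of type `D₆` -/
theorem int_E7_D6 (K : Type u) [Field K] [Fintype K]
    [Fintype (PJ CoxeterMatrix.E₇.toCoxeterSystem hpE7.isCartan (TT chevE7 K) (XX chevE7 7 K) {j | j ≠ 0})]
    {χ : ↥((chevE7).group K) → ℂ} (hχ : IsIrrCharacter ↥((chevE7).group K) χ)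
    (h0 : ∑ g : PJ CoxeterMatrix.E₇.toCoxeterSystem hpE7.isCartan (TT chevE7 K) (XX chevE7 7 K) {j | j ≠ 0}, χ g ≠ 0)
    (g : ↥((chevE7).group K)) : ∃ k : ℤ, χ g = k :=
  int_chev hpE7 K isCartan_cE7 E7D6.orb E7D6.ex1 E7D6.ex2 E7D6.dat_eq E7D6.check E7D6.hz E7D6.hN E7D6.hU0 hχ h0 g

end Cfsg.Agent.H498.RP
end

-- part: H498/RP/E7E6
section
set_option linter.all false
open scoped Cfsg.Agent.FastGrp

/-!
# Tables (helper498), generated
-/

set_option autoImplicit false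
set_option maxRecDepth 100000
set_option maxHeartbeats 0

open Cfsg

namespace Cfsg.Agent.H498.RP

open Cfsg.Agent.ChevalleyStructure.CoxeterGeom Cfsg.Agent.H35.ExcIdx Cfsg.Lie Cfsg.Agent.Nodes.RGDChev
  Cfsg.Agent.Nodes.LeviDec Cfsg.Agent.ChevalleyStructure.CoxeterGeomTypes

universe u

namespace E7E6

/-- the vectors -/
def vecT : Fin 56 → Fin 7 → ℤ := ![![2, 3, 4, 6, 5, 4, 3], ![2, 3, 4, 6, 5, 4, 1], ![2, 3, 4, 6, 5, 2, 1],
  ![2, 3, 4, 6, 3, 2, 1], ![2, 3, 4, 4, 3, 2, 1], ![2, 3, 2, 4, 3, 2, 1], ![2, 1, 4, 4, 3, 2, 1], ![2, 1, 2,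
  4, 3, 2, 1], ![0, 3, 2, 4, 3, 2, 1], ![2, 1, 2, 2, 3, 2, 1], ![0, 1, 2, 4, 3, 2, 1], ![2, 1, 2, 2, 1, 2,
  1], ![0, 1, 2, 2, 3, 2, 1], ![2, 1, 2, 2, 1, 0, 1], ![0, 1, 2, 2, 1, 2, 1], ![0, 1, 0, 2, 3, 2, 1], ![0, 1,
  2, 2, 1, 0, 1], ![0, 1, 0, 2, 1, 2, 1], ![0, 1, 0, 2, 1, 0, 1], ![0, 1, 0, 0, 1, 2, 1], ![0, 1, 0, 0, 1, 0,
  1], ![0, -1, 0, 0, 1, 2, 1], ![0, 1, 0, 0, -1, 0, 1], ![0, -1, 0, 0, 1, 0, 1], ![0, -1, 0, 0, -1, 0, 1],
  ![0, -1, 0, -2, -1, 0, 1], ![0, -1, -2, -2, -1, 0, 1], ![-2, -1, -2, -2, -1, 0, 1], ![2, 1, 2, 2, 1, 0,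
  -1], ![0, 1, 2, 2, 1, 0, -1], ![0, 1, 0, 2, 1, 0, -1], ![0, 1, 0, 0, 1, 0, -1], ![0, 1, 0, 0, -1, 0, -1],
  ![0, -1, 0, 0, 1, 0, -1], ![0, 1, 0, 0, -1, -2, -1], ![0, -1, 0, 0, -1, 0, -1], ![0, -1, 0, 0, -1, -2, -1],
  ![0, -1, 0, -2, -1, 0, -1], ![0, -1, 0, -2, -1, -2, -1], ![0, -1, -2, -2, -1, 0, -1], ![0, -1, 0, -2, -3,
  -2, -1], ![0, -1, -2, -2, -1, -2, -1], ![-2, -1, -2, -2, -1, 0, -1], ![0, -1, -2, -2, -3, -2, -1], ![-2,
  -1, -2, -2, -1, -2, -1], ![0, -1, -2, -4, -3, -2, -1], ![-2, -1, -2, -2, -3, -2, -1], ![0, -3, -2, -4, -3,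
  -2, -1], ![-2, -1, -2, -4, -3, -2, -1], ![-2, -1, -4, -4, -3, -2, -1], ![-2, -3, -2, -4, -3, -2, -1], ![-2,
  -3, -4, -4, -3, -2, -1], ![-2, -3, -4, -6, -3, -2, -1], ![-2, -3, -4, -6, -5, -2, -1], ![-2, -3, -4, -6,
  -5, -4, -1], ![-2, -3, -4, -6, -5, -4, -3]]

/-- the action -/
def actT : Fin 7 → Fin 56 → Fin 56 := ![![0, 1, 2, 3, 4, 8, 6, 10, 5, 12, 7, 14, 9, 16, 11, 15, 13, 17, 18,
  19, 20, 21, 22, 23, 24, 25, 27, 26, 29, 28, 30, 31, 32, 33, 34, 35, 36, 37, 38, 42, 40, 44, 39, 46, 41, 48,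
  43, 50, 45, 49, 47, 51, 52, 53, 54, 55], ![0, 1, 2, 3, 6, 7, 4, 5, 10, 9, 8, 11, 12, 13, 14, 15, 16, 17,
  18, 21, 23, 19, 24, 20, 22, 25, 26, 27, 28, 29, 30, 33, 35, 31, 36, 32, 34, 37, 38, 39, 40, 41, 42, 43, 44,
  47, 46, 45, 50, 51, 48, 49, 52, 53, 54, 55], ![0, 1, 2, 3, 5, 4, 7, 6, 8, 9, 10, 11, 15, 13, 17, 12, 18,
  14, 16, 19, 20, 21, 22, 23, 24, 26, 25, 27, 28, 30, 29, 31, 32, 33, 34, 35, 36, 39, 41, 37, 43, 38, 42, 40,
  44, 45, 46, 47, 49, 48, 51, 50, 52, 53, 54, 55], ![0, 1, 2, 4, 3, 5, 6, 9, 8, 7, 12, 11, 10, 13, 14, 15,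
  16, 19, 20, 17, 18, 21, 22, 23, 25, 24, 26, 27, 28, 29, 31, 30, 32, 33, 34, 37, 38, 35, 36, 39, 40, 41, 42,
  45, 44, 43, 48, 47, 46, 49, 50, 52, 51, 53, 54, 55], ![0, 1, 3, 2, 4, 5, 6, 7, 8, 11, 10, 9, 14, 13, 12,
  17, 16, 15, 18, 19, 22, 21, 20, 24, 23, 25, 26, 27, 28, 29, 30, 32, 31, 35, 34, 33, 36, 37, 40, 39, 38, 43,
  42, 41, 46, 45, 44, 47, 48, 49, 50, 51, 53, 52, 54, 55], ![0, 2, 1, 3, 4, 5, 6, 7, 8, 9, 10, 13, 12, 11,
  16, 15, 14, 18, 17, 20, 19, 23, 22, 21, 24, 25, 26, 27, 28, 29, 30, 31, 34, 33, 32, 36, 35, 38, 37, 41, 40,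
  39, 44, 43, 42, 45, 46, 47, 48, 49, 50, 51, 52, 54, 53, 55], ![1, 0, 2, 3, 4, 5, 6, 7, 8, 9, 10, 11, 12,
  28, 14, 15, 29, 17, 30, 19, 31, 21, 32, 33, 35, 37, 39, 42, 13, 16, 18, 20, 22, 23, 34, 24, 36, 25, 38, 26,
  40, 41, 27, 43, 44, 45, 46, 47, 48, 49, 50, 51, 52, 53, 55, 54]]

/-- the levels -/
def lvT : Fin 56 → Fin 4 := ![0, 1, 1, 1, 1, 1, 1, 1, 1, 1, 1, 1, 1, 1, 1, 1, 1, 1, 1, 1, 1, 1, 1, 1, 1, 1,
  1, 1, 2, 2, 2, 2, 2, 2, 2, 2, 2, 2, 2, 2, 2, 2, 2, 2, 2, 2, 2, 2, 2, 2, 2, 2, 2, 2, 2, 3]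

/-- the exponents of the weights -/
def ex : Fin 56 → ℕ := ![0, 0, 1, 2, 3, 4, 4, 5, 5, 6, 6, 7, 7, 8, 8, 8, 9, 9, 10, 10, 11, 11, 12, 12, 13,
  14, 15, 16, 0, 1, 2, 3, 4, 4, 5, 5, 6, 6, 7, 7, 8, 8, 8, 9, 9, 10, 10, 11, 11, 12, 12, 13, 14, 15, 16, 0]

private def tv {α : Type} (N : ℕ) (f : ℕ → α) (n : ℕ) : Fin n → α :=
  @Nat.rec (fun n => Fin n → α) ![] (fun n ih => Matrix.vecCons (f (N - (n + 1))) ih) n

private theorem tv_ap {α : Type} (N : ℕ) (f : ℕ → α) (n : ℕ) (h : n ≤ N) (i : Fin n) : tv N f n i = f (N - n + i) := by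
  induction n with
  | zero => exact i.elim0
  | succ n ih =>
    refine Fin.cases rfl (fun j => ?_) i
    exact (ih (Nat.le_of_succ_le h) j).trans (congrArg f (by rw [Fin.val_succ]; omega))

private theorem tv_eq {α : Type} (N : ℕ) (f : ℕ → α) : tv N f N = fun i : Fin N => f i :=
  funext fun i => (tv_ap N f N le_rfl i).trans (congrArg f (by omega))

private def dg (P w k : ℕ) : ℕ := Nat.mod (Nat.shiftRight P (Nat.mul w k)) (Nat.pow 2 w)

private def vv (b i : ℕ) : ℤ := Int.subNatNat (dg 0x5432456743245676324567652456765445676546567654476765467676546587656676765467876766767656678787667676766787656878787667876768787876878767887878788787678898789887878788987898898789a898789aa98789aa9a9876676987667898768789878878989887898788989a9887898988989a98898989a8989a9a898989aa989aba8989a9aa98989aa9a9abaa989a9aa9a9abca989abaa9a9abcab89abca9a9abcc9a9abcaba9abccba9abecba9adecba9cdecbabcdecba 4 (Nat.add (Nat.mul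 7 b) i)) 8

private def cc (i k : ℕ) : ℤ := Int.subNatNat (dg 0x3155315531553055345475547 2 (Nat.add (Nat.mul 7 i) k)) 1

private def aa (i b : ℕ) : ℕ := dg 0x6cddab466c98b05eb96ac566d4a83498ca43088b96284880d549d2a34280a9f267889d1e38e0c16284880e1828406080016ed5b3466c98b05eb96aa56b13a8529532348810a23e78e9c3668c982a58b93284490e1e4058c1a284880e1828406041006ed9a3566c98b05eb16ae52a95a64ea12a4428919f4078e9c3668c973050a962648790223068e12285880e18284040c0806ed9ab368c98ae5ec15ac5aa94a84e911a64a890a03c7ce9c3668c192e58a9222509901e3868a1630388121828308080806ed9ab464cd8315eb96ac50a932b4aa53a446890a03e74f1c3664d182e58a942640712184468f16284880c1c20506080806ed9ab462c19b25ab97ac56a94a84e992a24090fa34278e9c3668c9628609972a488901e3868c162048a0a1038606080806ed9ab466bd8ad64ad8295c9d62854992a446890a03e78e1d346cc982e58a94264888d1e2c8091c1c60514184040608080 7 (Nat.add (Nat.mul 56 i) b)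

private def ll (b : ℕ) : ℕ := dg 0x692492492492492492492249249249249249249248 3 b

private def ee (b : ℕ) : ℕ := dg 0x41ee6b18b5a9494a10839cc6294841882083dcd6316b5292942107398c52908310400 5 b

private theorem vec_eq : vecT = fun (b : Fin 56) (i : Fin 7) => vv b i :=
  (show vecT = tv 56 (fun b => tv 7 (vv b) 7) 56 by eq_refl).trans ((tv_eq _ _).trans (funext fun _ => tv_eq _ _))

private theorem car_eq : cE7 = fun (i k : Fin 7) => cc i k :=
  (show cE7 = tv 7 (fun i => tv 7 (cc i) 7) 7 by eq_refl).trans ((tv_eq _ _).trans (funext fun _ => tv_eq _ _))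

private theorem act_eq : actT = fun (i : Fin 7) (b : Fin 56) => Fin.ofNat 56 (aa i b) :=
  (show actT = tv 7 (fun i => tv 56 (fun b => Fin.ofNat 56 (aa i b)) 56) 7 by eq_refl).trans
    ((tv_eq _ _).trans (funext fun _ => tv_eq _ _))

private theorem lv_eq : lvT = fun b : Fin 56 => Fin.ofNat 4 (ll b) :=
  (show lvT = tv 56 (fun b => Fin.ofNat 4 (ll b)) 56 by eq_refl).trans (tv_eq _ _)

private theorem ex_eq : ex = fun b : Fin 56 => ee b :=
  (show ex = tv 56 ee 56 by eq_refl).trans (tv_eq _ _)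

theorem inj : ∀ a b, vecT a = vecT b → a = b := by
  have h1 : ∀ a b : Fin 56, (∑ i, (![1, 3, 9, 27, 81, 243, 729] : Fin 7 → ℤ) i * vecT a i) = (∑ i, (![1, 3, 9, 27, 81, 243, 729] : Fin 7 → ℤ) i * vecT b i) → a = b :=
    inj_of_nodup (by rw [vec_eq]; decide +kernel)
  intro a b hab
  exact h1 a b (by rw [hab])

/-- the table -/
def orb : Orb cE7 6 56 4 where
  vec := vecT
  act := actT
  lv := lvT
  base := ![0, 1, 28, 55]
  dp := ex
  dd := fun _ => 1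
  b0 := 0
  wd := ![[], [6], [6, 5, 4, 3, 1, 2, 3, 4, 5, 6], [6, 5, 4, 3, 1, 2, 0, 3, 2, 4, 3, 1, 5, 4, 3, 2, 0, 6, 5, 4, 3, 1, 2, 3, 4, 5, 6]]
  dd_pos := fun _ => one_pos
  symm := by decide +kernel
  dom := by decide +kernel
  dom0 := by decide +kernel
  domJ := by decide +kernel
  inj := inj
  vec_act := by rw [vec_eq, act_eq, car_eq]; decide +kernel
  lv_act' := by rw [lv_eq, act_eq]; decide +kernel
  lv_base := by rw [lv_eq]; decide +kernel
  down := by rw [vec_eq, act_eq, lv_eq, ex_eq, car_eq]; decide +kernel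
  word := by rw [act_eq]; decide +kernel

/-- level, exponent, sign, level of the image -/
def dat : List (Fin 4 × ℕ × ℕ × Fin 4) := [(0, 0, 1, 1), (1, 0, 2, 0), (1, 1, 0, 1), (1, 2, 0, 1), (1, 3, 0,
  1), (1, 4, 0, 1), (1, 4, 0, 1), (1, 5, 0, 1), (1, 5, 0, 1), (1, 6, 0, 1), (1, 6, 0, 1), (1, 7, 0, 1), (1,
  7, 0, 1), (1, 8, 1, 2), (1, 8, 0, 1), (1, 8, 0, 1), (1, 9, 1, 2), (1, 9, 0, 1), (1, 10, 1, 2), (1, 10, 0,
  1), (1, 11, 1, 2), (1, 11, 0, 1), (1, 12, 1, 2), (1, 12, 1, 2), (1, 13, 1, 2), (1, 14, 1, 2), (1, 15, 1,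
  2), (1, 16, 1, 2), (2, 0, 2, 1), (2, 1, 2, 1), (2, 2, 2, 1), (2, 3, 2, 1), (2, 4, 2, 1), (2, 4, 2, 1), (2,
  5, 0, 2), (2, 5, 2, 1), (2, 6, 0, 2), (2, 6, 2, 1), (2, 7, 0, 2), (2, 7, 2, 1), (2, 8, 0, 2), (2, 8, 0, 2),
  (2, 8, 2, 1), (2, 9, 0, 2), (2, 9, 0, 2), (2, 10, 0, 2), (2, 10, 0, 2), (2, 11, 0, 2), (2, 11, 0, 2), (2,
  12, 0, 2), (2, 12, 0, 2), (2, 13, 0, 2), (2, 14, 0, 2), (2, 15, 0, 2), (2, 16, 1, 3), (3, 0, 2, 2)]

theorem dat_eq : datO orb ex = dat := by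
  show ((List.finRange 56).map fun b => (lvT b, ex b, (if 0 < pairing cE7 6 (vecT b) then 1 else if pairing cE7 6 (vecT b) < 0 then 2 else 0 : ℕ),
    lvT (actT 6 b))) = dat
  generalize hc : pairing cE7 6 = p
  rw [car_eq] at hc
  subst hc
  rw [vec_eq, act_eq, lv_eq, ex_eq]
  decide +kernel

theorem ex1 : ∀ k, ex (orb.base k) = 0 := by decide +kernel

theorem ex2 : ∀ j, j ≠ 6 → ∀ b, 0 < pairing cE7 j (orb.vec b) → ex (orb.act j b) = ex b + 1 := by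
  show ∀ j, j ≠ 6 → ∀ b, 0 < pairing cE7 j (vecT b) → ex (actT j b) = ex b + 1
  rw [vec_eq, act_eq, ex_eq, car_eq]
  decide +kernel

/-- the eigenvalues -/
def NN : Fin 4 → List ℤ := ![[0, 1, 1, 1, 1, 2, 2, 2, 2, 3, 2, 2, 2, 2, 1, 1, 1, 1], [-1, 0, 0, 0, 0, 1, 1,
  1, 1, 2, 1, 1, 1, 1], [-1, 0, 0, 0, -1, 0, 0, 0, 0, 1], [-1, 0, 0, 0, -1, 0, 0, 0, -1]]

/-- the eigenvectors -/
def UU : Fin 4 → Fin 4 → List ℤ := ![![[1], [1], [1], [1]], ![[0, 0, 0, 0, 0, 0, 0, 0, 0, 1, 1, 0, -1, 0, 1,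
  1], [0, 0, 0, 0, 0, 0, 0, 0, -1, 0, 1, 1], [0, 0, 0, 0, -1, -1, 0, 1], [-1, -1, 0, 1, 0, -1, -1]], ![[0, 0,
  0, 0, 0, 0, 0, 0, 0, 0, 0, 0, 0, 0, 1, 1, 1, 1, 2, 2, 2, 2, 3, 2, 2, 2, 2, 1, 1, 1, 1], [0, 0, 0, 0, 0, 0,
  0, 0, 0, 0, 0, 0, 0, -1, 0, 0, 0, -1, 0, 0, 0, 0, 1], [0, 0, 0, 0, 0, 0, 0, 0, 1, 0, 0, 0, 0, -1, 0, 0, 0,
  -1], [1, 1, 1, 1, 2, 2, 2, 2, 3, 2, 2, 2, 2, 1, 1, 1, 1]], ![[0, 0, 0, 0, 0, 0, 0, 0, 0, 0, 0, 0, 0, 0, 0,
  1, 1, 1, 1, 1, 1, 1, 1, 1], [0, 0, 0, 0, 0, 0, 0, 0, 0, 0, 0, 0, 0, 0, -1], [0, 0, 0, 0, 0, 0, 0, 0, 0, 1],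
  [-1, -1, -1, -1, -1, -1, -1, -1, -1]]]

theorem check : checkU dat 1 NN UU := by decide +kernel

theorem hz : ∀ k, posL (zk dat k) = true := by decide +kernel

theorem hN : ∀ i j, i < j → posL (addL (NN i) (smL (-1) (NN j))) = true := by decide +kernel

theorem hU0 : ∀ i, posL (UU i 0) = true := by decide +kernel

end E7E6

/-- `E₇`, the parabolic subgroup of type `E₆` -/
theorem int_E7_E6 (K : Type u) [Field K] [Fintype K]
    [Fintype (PJ CoxeterMatrix.E₇.toCoxeterSystem hpE7.isCartan (TT chevE7 K) (XX chevE7 7 K) {j | j ≠ 6})]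
    {χ : ↥((chevE7).group K) → ℂ} (hχ : IsIrrCharacter ↥((chevE7).group K) χ)
    (h0 : ∑ g : PJ CoxeterMatrix.E₇.toCoxeterSystem hpE7.isCartan (TT chevE7 K) (XX chevE7 7 K) {j | j ≠ 6}, χ g ≠ 0)
    (g : ↥((chevE7).group K)) : ∃ k : ℤ, χ g = k :=
  int_chev hpE7 K isCartan_cE7 E7E6.orb E7E6.ex1 E7E6.ex2 E7E6.dat_eq E7E6.check E7E6.hz E7E6.hN E7E6.hU0 hχ h0 g

end Cfsg.Agent.H498.RP
end

-- part: H498/RP/E6A5
section
set_option linter.all false
open scoped Cfsg.Agent.FastGrp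

/-!
# Tables (helper498), generated
-/

set_option autoImplicit false
set_option maxRecDepth 100000
set_option maxHeartbeats 0

open Cfsg

namespace Cfsg.Agent.H498.RP

open Cfsg.Agent.ChevalleyStructure.CoxeterGeom Cfsg.Agent.H35.ExcIdx Cfsg.Lie Cfsg.Agent.Nodes.RGDChev
  Cfsg.Agent.Nodes.LeviDec Cfsg.Agent.ChevalleyStructure.CoxeterGeomTypes

universe u

/-- the Cartan matrix -/
def cE6 : Fin 6 → Fin 6 → ℤ := ![![2, 0, -1, 0, 0, 0], ![0, 2, 0, -1, 0, 0], ![-1, 0, 2, -1, 0, 0], ![0, -1, -1, 2, -1, 0], ![0, 0, 0, -1, 2, -1], ![0, 0, 0, 0, -1, 2]]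

theorem cE6_eq : cartanOf chevE6 6 = cE6 := by
  funext i j
  revert i j
  decide +kernel

theorem isCartan_cE6 : IsCartan CoxeterMatrix.E₆ cE6 := by
  rw [← cE6_eq]
  exact isCartan_E6

namespace E6A5

/-- the vectors -/
def vecT : Fin 72 → Fin 6 → ℤ := ![![1, 2, 2, 3, 2, 1], ![1, 1, 2, 3, 2, 1], ![1, 1, 2, 2, 2, 1], ![1, 1, 2,
  2, 1, 1], ![1, 1, 1, 2, 2, 1], ![1, 1, 2, 2, 1, 0], ![1, 1, 1, 2, 1, 1], ![0, 1, 1, 2, 2, 1], ![1, 1, 1, 2,
  1, 0], ![1, 1, 1, 1, 1, 1], ![0, 1, 1, 2, 1, 1], ![1, 1, 1, 1, 1, 0], ![0, 1, 1, 2, 1, 0], ![0, 1, 1, 1, 1,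
  1], ![1, 1, 1, 1, 0, 0], ![0, 1, 1, 1, 1, 0], ![0, 1, 0, 1, 1, 1], ![0, 1, 1, 1, 0, 0], ![0, 1, 0, 1, 1,
  0], ![0, 1, 0, 1, 0, 0], ![0, 1, 0, 0, 0, 0], ![1, 0, 1, 1, 1, 1], ![1, 0, 1, 1, 1, 0], ![0, 0, 1, 1, 1,
  1], ![1, 0, 1, 1, 0, 0], ![0, 0, 1, 1, 1, 0], ![0, 0, 0, 1, 1, 1], ![1, 0, 1, 0, 0, 0], ![0, 0, 1, 1, 0,
  0], ![0, 0, 0, 1, 1, 0], ![0, 0, 0, 0, 1, 1], ![1, 0, 0, 0, 0, 0], ![0, 0, 1, 0, 0, 0], ![0, 0, 0, 1, 0,
  0], ![0, 0, 0, 0, 1, 0], ![0, 0, 0, 0, 0, 1], ![0, 0, 0, 0, 0, -1], ![0, 0, 0, 0, -1, 0], ![0, 0, 0, -1, 0,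
  0], ![0, 0, -1, 0, 0, 0], ![-1, 0, 0, 0, 0, 0], ![0, 0, 0, 0, -1, -1], ![0, 0, 0, -1, -1, 0], ![0, 0, -1,
  -1, 0, 0], ![-1, 0, -1, 0, 0, 0], ![0, 0, 0, -1, -1, -1], ![0, 0, -1, -1, -1, 0], ![-1, 0, -1, -1, 0, 0],
  ![0, 0, -1, -1, -1, -1], ![-1, 0, -1, -1, -1, 0], ![-1, 0, -1, -1, -1, -1], ![0, -1, 0, 0, 0, 0], ![0, -1,
  0, -1, 0, 0], ![0, -1, 0, -1, -1, 0], ![0, -1, -1, -1, 0, 0], ![0, -1, 0, -1, -1, -1], ![0, -1, -1, -1, -1,
  0], ![-1, -1, -1, -1, 0, 0], ![0, -1, -1, -1, -1, -1], ![0, -1, -1, -2, -1, 0], ![-1, -1, -1, -1, -1, 0],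
  ![0, -1, -1, -2, -1, -1], ![-1, -1, -1, -1, -1, -1], ![-1, -1, -1, -2, -1, 0], ![0, -1, -1, -2, -2, -1],
  ![-1, -1, -1, -2, -1, -1], ![-1, -1, -2, -2, -1, 0], ![-1, -1, -1, -2, -2, -1], ![-1, -1, -2, -2, -1, -1],
  ![-1, -1, -2, -2, -2, -1], ![-1, -1, -2, -3, -2, -1], ![-1, -2, -2, -3, -2, -1]]

/-- the action -/
def actT : Fin 6 → Fin 72 → Fin 72 := ![![0, 1, 2, 3, 7, 5, 10, 4, 12, 13, 6, 15, 8, 9, 17, 11, 16, 14, 18,
  19, 20, 23, 25, 21, 28, 22, 26, 32, 24, 29, 30, 40, 27, 33, 34, 35, 36, 37, 38, 44, 31, 41, 42, 47, 39, 45,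
  49, 43, 50, 46, 48, 51, 52, 53, 57, 55, 60, 54, 62, 63, 56, 65, 58, 59, 67, 61, 66, 64, 68, 69, 70, 71],
  ![1, 0, 2, 3, 4, 5, 6, 7, 8, 21, 10, 22, 12, 23, 24, 25, 26, 28, 29, 33, 51, 9, 11, 13, 14, 15, 16, 27, 17,
  18, 30, 31, 32, 19, 34, 35, 36, 37, 52, 39, 40, 41, 53, 54, 44, 55, 56, 57, 58, 60, 62, 20, 38, 42, 43, 45,
  46, 47, 48, 59, 49, 61, 50, 63, 64, 65, 66, 67, 68, 69, 71, 70], ![0, 1, 4, 6, 2, 8, 3, 7, 5, 9, 10, 11,
  12, 16, 14, 18, 13, 19, 15, 17, 20, 21, 22, 26, 24, 29, 23, 31, 33, 25, 30, 27, 39, 28, 34, 35, 36, 37, 43,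
  32, 44, 41, 46, 38, 40, 48, 42, 47, 45, 49, 50, 51, 54, 56, 52, 58, 53, 57, 55, 59, 60, 61, 62, 66, 64, 68,
  63, 69, 65, 67, 70, 71], ![0, 2, 1, 3, 4, 5, 9, 7, 11, 6, 13, 8, 15, 10, 14, 12, 16, 17, 18, 20, 19, 21,
  22, 23, 27, 25, 30, 24, 32, 34, 26, 31, 28, 38, 29, 35, 36, 42, 33, 43, 40, 45, 37, 39, 47, 41, 46, 44, 48,
  49, 50, 52, 51, 53, 54, 55, 59, 57, 61, 56, 63, 58, 65, 60, 64, 62, 66, 67, 68, 70, 69, 71], ![0, 1, 3, 2,
  6, 5, 4, 10, 8, 9, 7, 14, 12, 13, 11, 17, 16, 15, 19, 18, 20, 21, 24, 23, 22, 28, 26, 27, 25, 33, 35, 31,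
  32, 29, 37, 30, 41, 34, 42, 39, 40, 36, 38, 46, 44, 45, 43, 49, 48, 47, 50, 51, 53, 52, 56, 55, 54, 60, 58,
  59, 57, 64, 62, 63, 61, 67, 66, 65, 69, 68, 70, 71], ![0, 1, 2, 5, 4, 3, 8, 7, 6, 11, 12, 9, 10, 15, 14,
  13, 18, 17, 16, 19, 20, 22, 21, 25, 24, 23, 29, 27, 28, 26, 34, 31, 32, 33, 30, 36, 35, 41, 38, 39, 40, 37,
  45, 43, 44, 42, 48, 47, 46, 50, 49, 51, 52, 55, 54, 53, 58, 57, 56, 61, 62, 59, 60, 65, 64, 63, 68, 67, 66,
  69, 70, 71]]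

/-- the levels -/
def lvT : Fin 72 → Fin 5 := ![0, 1, 1, 1, 1, 1, 1, 1, 1, 1, 1, 1, 1, 1, 1, 1, 1, 1, 1, 1, 1, 2, 2, 2, 2, 2,
  2, 2, 2, 2, 2, 2, 2, 2, 2, 2, 2, 2, 2, 2, 2, 2, 2, 2, 2, 2, 2, 2, 2, 2, 2, 3, 3, 3, 3, 3, 3, 3, 3, 3, 3, 3,
  3, 3, 3, 3, 3, 3, 3, 3, 3, 4]

/-- the exponents of the weights -/
def ex : Fin 72 → ℕ := ![0, 0, 1, 2, 2, 3, 3, 3, 4, 4, 4, 5, 5, 5, 6, 6, 6, 7, 7, 8, 9, 0, 1, 1, 2, 2, 2, 3,
  3, 3, 3, 4, 4, 4, 4, 4, 5, 5, 5, 5, 5, 6, 6, 6, 6, 7, 7, 7, 8, 8, 9, 0, 1, 2, 2, 3, 3, 3, 4, 4, 4, 5, 5, 5,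
  6, 6, 6, 7, 7, 8, 9, 0]

private def tv {α : Type} (N : ℕ) (f : ℕ → α) (n : ℕ) : Fin n → α :=
  @Nat.rec (fun n => Fin n → α) ![] (fun n ih => Matrix.vecCons (f (N - (n + 1))) ih) n

private theorem tv_ap {α : Type} (N : ℕ) (f : ℕ → α) (n : ℕ) (h : n ≤ N) (i : Fin n) : tv N f n i = f (N - n + i) := by
  induction n with
  | zero => exact i.elim0
  | succ n ih =>
    refine Fin.cases rfl (fun j => ?_) i
    exact (ih (Nat.le_of_succ_le h) j).trans (congrArg f (by rw [Fin.val_succ]; omega))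

private theorem tv_eq {α : Type} (N : ℕ) (f : ℕ → α) : tv N f N = fun i : Fin N => f i :=
  funext fun i => (tv_ap N f N le_rfl i).trans (congrArg f (by omega))

private def dg (P w k : ℕ) : ℕ := Nat.mod (Nat.shiftRight P (Nat.mul w k)) (Nat.pow 2 w)

private def vv (b i : ℕ) : ℤ := Int.subNatNat (dg 0x76566776567776667777667776677787667777677776677887677777777777677887777787677877777888777787777877787888777887787888787888887877778787778777778888778787778877788888878788778887788877888888888788878888788887888878888898888889888888988888898888888999888889988888998888898999988889998888998999998889998999998988889888989889989888999899989889999888999999999889a99889999999a99899999989a9999aa99899a99989aa999aa99999aa999aaa999aba999abaa9 4 (Nat.add (Nat.mul 6 b) i)) 8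

private def cc (i k : ℕ) : ℤ := Int.subNatNat (dg 0xc553154c153451d547 2 (Nat.add (Nat.mul 6 i) k)) 1

private def aa (i b : ℕ) : ℕ := dg 0x8f1a2c28711fc082f1dbe7ae1cba6ad9bb466c592e5ec152c56b52a84e994a348790a03e88d1c3674b983254b1426408921a3878a12305860e201840a080808f1a245830a1bd7efa03976e9e366ee1a3566c97b062ad6ac5c992284ea91293c94ea03e8d0993668e162e60a94244c790222c68c1c1c4881410286040c0808f163448709f407905d3f70f5cbb6ed9ab368c98b058b94af4e956a85685524467531c3e691203078c9b2e58a932848890183850f103430b0e2428406041008f1a1c18afe24084f9ebc76ddcb574d1c3666c98ad5ea98284cb94ac40ad2a44688e273678ca13e5ce983458a94223c98d243880c16284850e0c4020c100808d1e2c4870a0c07ec9eb176c17ae5aad52628f9e3a72e1bac6cd54a84ed12a446889a03e78911364078e1a2c4b34274e1a3260b8c2c28a880e1828406080018f1a2c48109ec376ea0b87ef9b3c6ee5ab466c173256c56a75ea949f58992a4468909b5078e984068b1c2a64b94264871016444881e1868c08282870608080 7 (Nat.add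 (Nat.mul 72 i) b)

private def ll (b : ℕ) : ℕ := dg 0x8db6db6db6db6db692492492492492492492491249249249249248 3 b

private def ee (b : ℕ) : ℕ := dg 0x2507398c6294a421063188410250839ce6318c5294a52108420c63188420840941ce6318a52908418c6210400 5 b

private theorem vec_eq : vecT = fun (b : Fin 72) (i : Fin 6) => vv b i :=
  (show vecT = tv 72 (fun b => tv 6 (vv b) 6) 72 by eq_refl).trans ((tv_eq _ _).trans (funext fun _ => tv_eq _ _))

private theorem car_eq : cE6 = fun (i k : Fin 6) => cc i k :=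
  (show cE6 = tv 6 (fun i => tv 6 (cc i) 6) 6 by eq_refl).trans ((tv_eq _ _).trans (funext fun _ => tv_eq _ _))

private theorem act_eq : actT = fun (i : Fin 6) (b : Fin 72) => Fin.ofNat 72 (aa i b) :=
  (show actT = tv 6 (fun i => tv 72 (fun b => Fin.ofNat 72 (aa i b)) 72) 6 by eq_refl).trans
    ((tv_eq _ _).trans (funext fun _ => tv_eq _ _))

private theorem lv_eq : lvT = fun b : Fin 72 => Fin.ofNat 5 (ll b) :=
  (show lvT = tv 72 (fun b => Fin.ofNat 5 (ll b)) 72 by eq_refl).trans (tv_eq _ _)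

private theorem ex_eq : ex = fun b : Fin 72 => ee b :=
  (show ex = tv 72 ee 72 by eq_refl).trans (tv_eq _ _)

theorem inj : ∀ a b, vecT a = vecT b → a = b := by
  have h1 : ∀ a b : Fin 72, (∑ i, (![1, 3, 9, 27, 81, 243] : Fin 6 → ℤ) i * vecT a i) = (∑ i, (![1, 3, 9, 27, 81, 243] : Fin 6 → ℤ) i * vecT b i) → a = b :=
    inj_of_nodup (by rw [vec_eq]; decide +kernel)
  intro a b hab
  exact h1 a b (by rw [hab])

/-- the table -/
def orb : Orb cE6 1 72 5 where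
  vec := vecT
  act := actT
  lv := lvT
  base := ![0, 1, 21, 51, 71]
  dp := ex
  dd := fun _ => 1
  b0 := 0
  wd := ![[], [1], [1, 3, 2, 4, 3, 1], [1, 3, 2, 0, 4, 3, 2, 5, 4, 3, 1], [1, 3, 2, 0, 4, 3, 1, 2, 3, 4, 5, 4, 3, 1, 2, 0, 3, 2, 4, 3, 1]]
  dd_pos := fun _ => one_pos
  symm := by decide +kernel
  dom := by decide +kernel
  dom0 := by decide +kernel
  domJ := by decide +kernel
  inj := inj
  vec_act := by rw [vec_eq, act_eq, car_eq]; decide +kernel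
  lv_act' := by rw [lv_eq, act_eq]; decide +kernel
  lv_base := by rw [lv_eq]; decide +kernel
  down := by rw [vec_eq, act_eq, lv_eq, ex_eq, car_eq]; decide +kernel
  word := by rw [act_eq]; decide +kernel

/-- level, exponent, sign, level of the image -/
def dat : List (Fin 5 × ℕ × ℕ × Fin 5) := [(0, 0, 1, 1), (1, 0, 2, 0), (1, 1, 0, 1), (1, 2, 0, 1), (1, 2, 0,
  1), (1, 3, 0, 1), (1, 3, 0, 1), (1, 3, 0, 1), (1, 4, 0, 1), (1, 4, 1, 2), (1, 4, 0, 1), (1, 5, 1, 2), (1,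
  5, 0, 1), (1, 5, 1, 2), (1, 6, 1, 2), (1, 6, 1, 2), (1, 6, 1, 2), (1, 7, 1, 2), (1, 7, 1, 2), (1, 8, 1, 2),
  (1, 9, 1, 3), (2, 0, 2, 1), (2, 1, 2, 1), (2, 1, 2, 1), (2, 2, 2, 1), (2, 2, 2, 1), (2, 2, 2, 1), (2, 3, 0,
  2), (2, 3, 2, 1), (2, 3, 2, 1), (2, 3, 0, 2), (2, 4, 0, 2), (2, 4, 0, 2), (2, 4, 2, 1), (2, 4, 0, 2), (2,
  4, 0, 2), (2, 5, 0, 2), (2, 5, 0, 2), (2, 5, 1, 3), (2, 5, 0, 2), (2, 5, 0, 2), (2, 6, 0, 2), (2, 6, 1, 3),
  (2, 6, 1, 3), (2, 6, 0, 2), (2, 7, 1, 3), (2, 7, 1, 3), (2, 7, 1, 3), (2, 8, 1, 3), (2, 8, 1, 3), (2, 9, 1,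
  3), (3, 0, 2, 1), (3, 1, 2, 2), (3, 2, 2, 2), (3, 2, 2, 2), (3, 3, 2, 2), (3, 3, 2, 2), (3, 3, 2, 2), (3,
  4, 2, 2), (3, 4, 0, 3), (3, 4, 2, 2), (3, 5, 0, 3), (3, 5, 2, 2), (3, 5, 0, 3), (3, 6, 0, 3), (3, 6, 0, 3),
  (3, 6, 0, 3), (3, 7, 0, 3), (3, 7, 0, 3), (3, 8, 0, 3), (3, 9, 1, 4), (4, 0, 2, 3)]

theorem dat_eq : datO orb ex = dat := by
  show ((List.finRange 72).map fun b => (lvT b, ex b, (if 0 < pairing cE6 1 (vecT b) then 1 else if pairing cE6 1 (vecT b) < 0 then 2 else 0 : ℕ),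
    lvT (actT 1 b))) = dat
  generalize hc : pairing cE6 1 = p
  rw [car_eq] at hc
  subst hc
  rw [vec_eq, act_eq, lv_eq, ex_eq]
  decide +kernel

theorem ex1 : ∀ k, ex (orb.base k) = 0 := by decide +kernel

theorem ex2 : ∀ j, j ≠ 1 → ∀ b, 0 < pairing cE6 j (orb.vec b) → ex (orb.act j b) = ex b + 1 := by
  show ∀ j, j ≠ 1 → ∀ b, 0 < pairing cE6 j (vecT b) → ex (actT j b) = ex b + 1
  rw [vec_eq, act_eq, ex_eq, car_eq]
  decide +kernel

/-- the eigenvalues -/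
def NN : Fin 5 → List ℤ := ![[0, 1, 1, 2, 3, 3, 3, 3, 2, 1, 1], [-1, 0, 0, 1, 2, 3, 2, 2, 1], [-1, 0, -1, 0,
  1, 1, 1, 1], [-1, 0, -1, -1, 0, 1], [-1, 0, -1, -1, 0, -1]]

/-- the eigenvectors -/
def UU : Fin 5 → Fin 5 → List ℤ := ![![[1], [1], [1], [1], [1]], ![[0, 0, 0, 0, 0, 0, 1, 0, 0, 1], [0, 0, 0,
  0, 0, -1, 1, 1], [0, 0, 0, -1, 0, 0, 1], [0, 0, -1, -1, 1], [-1, 0, 0, -1]], ![[0, 0, 0, 0, 0, 0, 0, 0, 0,
  1, 1, 1, 2, 2, 1, 1, 1], [0, 0, 0, 0, 0, 0, 0, 0, -1, 0, 0, 0, 1, 1], [0, 0, 0, 0, 0, 1, -1, -1, 0, -1, -1,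
  1], [0, 0, 0, 1, 1, 0, 0, 0, -1], [1, 1, 1, 2, 2, 1, 1, 1]], ![[0, 0, 0, 0, 0, 0, 0, 0, 0, 0, 0, 0, 1, 1,
  2, 3, 3, 3, 3, 2, 1, 1], [0, 0, 0, 0, 0, 0, 0, 0, 0, 0, 0, -1, 0, -1, -1, 0, 1], [0, 0, 0, 0, 0, 0, 0, 0,
  1, 0, 1, -1, 0, -1], [0, 0, 0, 0, 0, -1, 0, 1, 1, 0, 1], [-1, -1, -2, -3, -3, -3, -3, -2, -1, -1]], ![[0,
  0, 0, 0, 0, 0, 0, 0, 0, 0, 0, 0, 1, 1, 1, 1, 1], [0, 0, 0, 0, 0, 0, 0, 0, 0, 0, 0, -1], [0, 0, 0, 0, 0, 0,
  0, 0, 1], [0, 0, 0, 0, 0, -1], [1, 1, 1, 1, 1]]]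

theorem check : checkU dat 1 NN UU := by decide +kernel

theorem hz : ∀ k, posL (zk dat k) = true := by decide +kernel

theorem hN : ∀ i j, i < j → posL (addL (NN i) (smL (-1) (NN j))) = true := by decide +kernel

theorem hU0 : ∀ i, posL (UU i 0) = true := by decide +kernel

end E6A5

/-- `E₆`, the parabolic subgroup of type `A₅` -/
theorem int_E6_A5 (K : Type u) [Field K] [Fintype K]
    [Fintype (PJ CoxeterMatrix.E₆.toCoxeterSystem hpE6.isCartan (TT chevE6 K) (XX chevE6 6 K) {j | j ≠ 1})]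
    {χ : ↥((chevE6).group K) → ℂ} (hχ : IsIrrCharacter ↥((chevE6).group K) χ)
    (h0 : ∑ g : PJ CoxeterMatrix.E₆.toCoxeterSystem hpE6.isCartan (TT chevE6 K) (XX chevE6 6 K) {j | j ≠ 1}, χ g ≠ 0)
    (g : ↥((chevE6).group K)) : ∃ k : ℤ, χ g = k :=
  int_chev hpE6 K isCartan_cE6 E6A5.orb E6A5.ex1 E6A5.ex2 E6A5.dat_eq E6A5.check E6A5.hz E6A5.hN E6A5.hU0 hχ h0 g

end Cfsg.Agent.H498.RP
end

-- part: H498/RP/E6A5_mg
section

end

-- part: H422/RatB/RowE7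
section
prune_inst 0x7ffdfefbbfadffdfffff7e3fffdddff9f9eacfffe6dffdcbffe9efbf3bbf2be5efedfbad0fe4d2ff9ff6e29c10b87843fb7eefffea6bdc7ffffd5ff45ffbee1ff7ffbf8c71dfacbe1ffe6ffffbf07fae7f3fffffffffffffffffffffffffffffffffffffffff
set_option linter.all false
open scoped Cfsg.Agent.FastGrp

-- part: H422/RatB/Fix
section
/-!
# Fixed points of elements of prime order on the long root groups (B0-RAT T9, helper422)

`R` a root group datum, simply laced, `θ` dominant.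

* `fix_orbit` : an element of order `p` of `P_{J₀}`, where `p` does not divide the orders of the parabolic subgroups
  `P_K`, `K < J₀`, only normalizes conjugates of `X θ` of the form `h (X r) h⁻¹`, `h ∈ P_{J₀}`, `r` orthogonal to `J₀`;
* `not_conj` : if all roots `r` orthogonal to `J₀` are `± θ` or orthogonal to `θ`, and this fails for `β`, then no
  element of the centralizer of `x` maps `X θ` to `X β`.
-/

set_option autoImplicit false
set_option linter.unusedSectionVars false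

namespace Cfsg.Agent.H422.RatB

open CoxeterSystem Cfsg.Agent.ChevalleyStructure.CoxeterGeom Cfsg.Agent.Tits.Roots Cfsg.Agent.Tits.Core
  Cfsg.Agent.Tits.RootComb Cfsg.Agent.Tits.Exchange Cfsg.Agent.Nodes.Comb Cfsg.Agent.Nodes.Reps
  Cfsg.Agent.Nodes.BNOf Cfsg.Agent.Nodes.StabComb Cfsg.Agent.Nodes.Bruhat Cfsg.Agent.Nodes.OppDec
  Cfsg.Agent.Nodes.LeviDec Cfsg.Agent.Nodes.NormX Cfsg.Agent.Nodes.Coroot Cfsg.Agent.KFacts.RgdPar
  Cfsg.Agent.KFacts.RgdSL Cfsg.Agent.KFacts.RgdTI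

variable {I W Y : Type*} [Fintype I] [DecidableEq I] [Group W] [Group Y] {M : CoxeterMatrix I}
  {cs : CoxeterSystem M W} {A : I → I → ℤ} {h : IsCartan M A} {r : ℕ} {T : Subgroup Y} {n : I → Y}
  {X : (I → ℤ) → Subgroup Y}

/-! ### combinatorics -/

/-- sum of the coordinates -/
def tot (x : I → ℤ) : ℤ := ∑ k, x k

theorem tot_sr (i : I) : tot (sr i : I → ℤ) = 1 := by
  unfold tot
  rw [Finset.sum_eq_single i]
  · exact sr_self i
  · intro j _ hj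
    exact sr_ne hj
  · intro hi
    exact absurd (Finset.mem_univ i) hi

/-- A `J`-dominant conjugate under `W_J`. -/
theorem exists_domJ [Finite W] (hs : SL cs h) (J : Set I) {a : I → ℤ} (ha : IsRoot cs h a) :
    ∃ w ∈ WJ cs J, ∀ i ∈ J, 0 ≤ cpr cs h (sr i) (rep cs h w a) := by
  classical
  have : Fintype W := Fintype.ofFinite W
  obtain ⟨⟨w, hw⟩, hmax⟩ := Finite.exists_max (fun w : WJ cs J => tot (rep cs h (w : W) a))
  refine ⟨w, hw, fun i hi => ?_⟩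
  have h1 := hmax ⟨cs.simple i * w, mul_mem (simple_mem_WJ cs hi) hw⟩
  have h1' : tot (rep cs h (cs.simple i * w) a) ≤ tot (rep cs h w a) := h1
  rw [rep_mul_apply, rep_simple_eq] at h1'
  have h2 : tot (rep cs h w a - pairing A i (rep cs h w a) • sr i) =
      tot (rep cs h w a) - pairing A i (rep cs h w a) := by
    unfold tot
    simp only [Pi.sub_apply, Pi.smul_apply, smul_eq_mul, Finset.sum_sub_distrib, ← Finset.mul_sum]
    have h3 : ∑ k, (sr i : I → ℤ) k = 1 := tot_sr i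
    rw [h3, mul_one]
  rw [h2] at h1'
  rw [hs _ _ (isRoot_sr cs h i) (ha.act w), cpr_sr]
  omega

/-- the functional vanishing on `α_i`, `i ∈ J` -/
noncomputable def fnJ (J : Set I) : (I → ℤ) →+ ℤ := by
  classical
  exact
    { toFun := fun x => ∑ k, if k ∈ J then 0 else x k
      map_zero' := by simp only [_root_.Pi.zero_apply, _root_.ite_self, _root_.Finset.sum_const_zero]
      map_add' := fun x y => by
        rw [← Finset.sum_add_distrib]
        refine Finset.sum_congr rfl fun k _ => ?_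
        split_ifs <;> simp }

theorem fnJ_sr_mem {J : Set I} {i : I} (hi : i ∈ J) : fnJ J (sr i) = 0 := by
  classical
  show ∑ k, (if k ∈ J then 0 else (sr i : I → ℤ) k) = 0
  refine Finset.sum_eq_zero fun k _ => ?_
  split_ifs with hk
  · rfl
  · exact sr_ne (by rintro rfl; exact hk hi)

theorem fnJ_sr_not {J : Set I} {i : I} (hi : i ∉ J) : fnJ J (sr i) = 1 := by
  classical
  show ∑ k, (if k ∈ J then 0 else (sr i : I → ℤ) k) = 1
  rw [Finset.sum_eq_single i]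
  · rw [if_neg hi, sr_self]
  · intro k _ hk
    split_ifs
    · rfl
    · exact sr_ne hk
  · intro h'
    exact absurd (Finset.mem_univ i) h'

theorem fnJ_nonneg (J : Set I) (i : I) : 0 ≤ fnJ J (sr i) := by
  by_cases hi : i ∈ J
  · rw [fnJ_sr_mem hi]
  · rw [fnJ_sr_not hi]; norm_num

theorem fnJ_zero (J : Set I) : {i | fnJ J (sr i) = 0} = J := by
  ext i
  by_cases hi : i ∈ J
  · simp [fnJ_sr_mem hi, hi]
  · simp [fnJ_sr_not hi, hi]

theorem neg_two_le [Finite W] (hs : SL cs h) {x y : I → ℤ} (hx : IsRoot cs h x) (hy : IsRoot cs h y) :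
    -2 ≤ cpr cs h x y := by
  rcases hs.cases hx hy with h1 | h1 | h1 <;> omega

variable (R : RGD cs h r T n X)

include R

section dom

variable [Finite W] {θ : I → ℤ} (L : LR R θ) (hdom : ∀ i, 0 ≤ cpr cs h (sr i) θ)

include L hdom

theorem PS_dom : PS T X (Ge cs h θ) = PJ cs h T X {i | cpr cs h (sr i) θ = 0} :=
  PS_half_of_dom (f := ell cs h L.root) hdom

theorem PJ_le_norm : PJ cs h T X {i | cpr cs h (sr i) θ = 0} ≤ Subgroup.normalizer (X θ : Set Y) := by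
  rw [← PS_dom R L hdom]
  exact L.PS_le_normalizer

/-- **Lemma D.** -/
theorem fix_orbit [Finite Y] (hG : GG cs h T X = ⊤) (hs : SL cs h) {p : ℕ} {J0 : Set I}
    (hK : ∀ K : Set I, K ⊆ J0 → K ≠ J0 → ¬ p ∣ Nat.card (PJ cs h T X K))
    {x : Y} (hx : x ∈ PJ cs h T X J0) (hxp : orderOf x = p) {g : Y}
    (hfix : cj x (cj g (X θ)) = cj g (X θ)) :
    ∃ h0 ∈ PJ cs h T X J0, ∃ w : W, (∀ i ∈ J0, cpr cs h (sr i) (rep cs h w θ) = 0) ∧
      cj g (X θ) = cj h0 (X (rep cs h w θ)) := by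
  obtain ⟨v, b₁, hb₁, k, hk, b₂, hb₂, e⟩ := (mem_GG R).1 (by rw [hG]; exact Subgroup.mem_top g)
  have hB : RGD.B cs h T X ≤ Subgroup.normalizer (X θ : Set Y) := B_le_PJ.trans (PJ_le_norm R L hdom)
  have hy : cj g (X θ) = cj b₁ (X (rep cs h v θ)) := by
    rw [e, cj_mul, mem_normalizer_iff_cj.1 (hB hb₂), cj_mul, R.conj_rp hk L.root]
  rw [hy] at hfix
  have L1 := L.act v
  -- the conjugate of `x`
  have hx1 : b₁⁻¹ * x * b₁ ∈ PJ cs h T X J0 :=
    mul_mem (mul_mem (inv_mem (B_le_PJ hb₁)) hx) (B_le_PJ hb₁)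
  have hx2 : b₁⁻¹ * x * b₁ ∈ Subgroup.normalizer (X (rep cs h v θ) : Set Y) := by
    rw [mem_normalizer_iff_cj, cj_mul, cj_mul, hfix, cj_inv_cj]
  obtain ⟨w', hw', hdom'⟩ := exists_domJ hs J0 L1.root
  obtain ⟨k', hk'⟩ := exists_rp cs R.nsys w'
  have hk'P : k' ∈ PJ cs h T X J0 := LJ_le_PJ (rp_mem_LJ R hw' hk')
  set r2 := rep cs h w' (rep cs h v θ) with hr2
  have L2 : LR R r2 := L1.act w'
  set x2 := k' * (b₁⁻¹ * x * b₁) * k'⁻¹ with hx2def
  have hx3 : x2 ∈ PJ cs h T X J0 := mul_mem (mul_mem hk'P hx1) (inv_mem hk'P)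
  have hx4 : x2 ∈ Subgroup.normalizer (X r2 : Set Y) := by
    have h1 : x2 ∈ cj k' (Subgroup.normalizer (X (rep cs h v θ) : Set Y)) := conj_mem_cj.2 hx2
    rw [← normalizer_cj, R.conj_rp hk' L1.root] at h1
    exact h1
  have hx5 : x2 ∈ PS T X (Half cs h (ell cs h L2.root)) := by
    have h1 : x2 ∈ Subgroup.normalizer (X r2 : Set Y) ⊓ GG cs h T X :=
      ⟨hx4, by rw [hG]; exact Subgroup.mem_top _⟩
    rw [L2.normalizer] at h1
    exact h1
  have hx6 : x2 ∈ PS T X (Half cs h (fnJ J0)) := by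
    rw [PS_half_of_dom (fnJ_nonneg J0), fnJ_zero]
    exact hx3
  obtain ⟨h7, -⟩ := inter R [fnJ J0, ell cs h L2.root] (g := x2) (by rw [hG]; exact Subgroup.mem_top _) (by
    intro f hf
    rcases List.mem_cons.1 hf with rfl | hf
    · exact hx6
    · rw [List.mem_singleton] at hf
      subst hf
      exact hx5)
  -- the sum of the two functionals
  let l : (I → ℤ) →+ ℤ := 3 • fnJ J0 + ell cs h L2.root
  have hl : ∀ z, l z = 3 * fnJ J0 z + cpr cs h z r2 := by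
    intro z
    show (3 • fnJ J0) z + _ = _
    rw [AddMonoidHom.nsmul_apply]
    rfl
  have hlpos : ∀ i, 0 ≤ l (sr i) := by
    intro i
    rw [hl]
    by_cases hi : i ∈ J0
    · rw [fnJ_sr_mem hi]
      have := hdom' i hi
      omega
    · rw [fnJ_sr_not hi]
      have := neg_two_le hs (isRoot_sr cs h i) L2.root
      omega
  have h8 : x2 ∈ PJ cs h T X {i | l (sr i) = 0} := by
    rw [← PS_half_of_dom hlpos]
    refine PS_mono ?_ h7
    rintro z ⟨hz, hz'⟩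
    refine ⟨hz, ?_⟩
    have h9 := hz' (fnJ J0) (by simp)
    have h10 : 0 ≤ cpr cs h z r2 := hz' (ell cs h L2.root) (by simp)
    rw [hl]
    omega
  have hsub : {i | l (sr i) = 0} ⊆ J0 := by
    intro i hi
    by_contra hi'
    have hi2 : l (sr i) = 0 := hi
    rw [hl, fnJ_sr_not hi'] at hi2
    have := neg_two_le hs (isRoot_sr cs h i) L2.root
    omega
  have hord : orderOf x2 = p := by
    have h9 : x2 = (k' * b₁⁻¹) * x * (k' * b₁⁻¹)⁻¹ := by rw [hx2def]; group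
    rw [h9, ← hxp]
    have h10 := orderOf_injective (MulAut.conj (k' * b₁⁻¹)).toMonoidHom (MulAut.conj _).injective x
    exact h10
  have hJ : {i | l (sr i) = 0} = J0 := by
    by_contra hne
    apply hK _ hsub hne
    rw [← hord]
    exact Subgroup.orderOf_dvd_natCard _ h8
  -- `r2` is orthogonal to `J0`
  have horth : ∀ i ∈ J0, cpr cs h (sr i) r2 = 0 := by
    intro i hi
    have h9 : l (sr i) = 0 := by
      have : i ∈ {i | l (sr i) = 0} := by rw [hJ]; exact hi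
      exact this
    rw [hl, fnJ_sr_mem hi] at h9
    omega
  have hfixr : rep cs h w'⁻¹ r2 = r2 := by
    refine rep_of_mem_WJ_orth (cs := cs) (h := h) ?_
    refine (Subgroup.closure_mono (Set.image_mono ?_)) (inv_mem hw')
    intro i hi
    rw [mem_orth, ← cpr_sr cs h, cpr_zero_comm cs h L2.root (isRoot_sr cs h i)]
    exact horth i hi
  have hr12 : rep cs h v θ = r2 := by
    rw [← hfixr, hr2, rep_inv_apply]
  refine ⟨b₁, B_le_PJ hb₁, v, ?_, hy⟩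
  rw [hr12]
  exact horth

omit hdom in
theorem X_neg_of_rep {u : Y} (hu : u ∈ X θ) (hu1 : u ≠ 1) : ∃ m : Y, cj m (X θ) = X (-θ) ∧
    m ∈ X θ ⊔ X (-θ) := by
  obtain ⟨s, hs1, a, ha, b, hb, m, hm, e⟩ := exists_mu R L.root hu hu1
  refine ⟨m, ?_, ?_⟩
  · rw [R.conj_rp hm L.root, hs1, cpr_self cs h L.root]
    congr 1
    rw [two_smul]
    abel
  · rw [e]
    exact mul_mem (mul_mem (Subgroup.mem_sup_right ha) (Subgroup.mem_sup_left hu)) (Subgroup.mem_sup_right hb)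

omit hdom in
/-- the join of opposite root groups is not an `r`-group -/
theorem not_isPGroup : ¬ IsPGroup r ↥(X θ ⊔ X (-θ)) := by
  obtain ⟨w, i, hw⟩ := L.root
  obtain ⟨k, hk⟩ := exists_rp cs R.nsys w
  intro hP
  apply R.notp i
  have h1 : cj k (X (sr i) ⊔ X (-sr i)) = X θ ⊔ X (-θ) := by
    have h2 : cj k (X (sr i) ⊔ X (-sr i)) = cj k (X (sr i)) ⊔ cj k (X (-sr i)) := Subgroup.map_sup _ _ _
    rw [h2, R.conj_rp hk (isRoot_sr cs h i), R.conj_rp hk (isRoot_sr cs h i).neg, map_neg, hw]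
  have h3 : X (sr i) ⊔ X (-sr i) = cj k⁻¹ (X θ ⊔ X (-θ)) := by rw [← h1, cj_inv_cj]
  rw [h3]
  exact hP.map _

omit L hdom in
/-- two root groups which are not opposite generate an `r`-group -/
theorem isPGroup_sup [Fact r.Prime] (hs : SL cs h) {a b : I → ℤ} (ha : IsRoot cs h a) (hb : IsRoot cs h b)
    (hab : a ≠ -b) : IsPGroup r ↥(X a ⊔ X b) := by
  -- a functional positive on both
  let f : (I → ℤ) →+ ℤ := ell cs h ha + ell cs h hb
  have hf : ∀ z, f z = cpr cs h z a + cpr cs h z b := fun z => rfl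
  have h1 : -1 ≤ cpr cs h a b ∧ -1 ≤ cpr cs h b a := by
    rcases hs.cases ha hb with h1 | h1 | h1
    · rw [hs b a hb ha]
      omega
    · exact absurd h1.1 hab
    · rw [hs b a hb ha]
      omega
  have hfa : 0 < f a := by
    rw [hf, cpr_self cs h ha]
    omega
  have hfb : 0 < f b := by
    rw [hf, cpr_self cs h hb]
    omega
  obtain ⟨w, hw⟩ := _root_.Cfsg.Agent.KFacts.RgdPar.exists_dom (cs := cs) (h := h) f
  obtain ⟨k, hk⟩ := exists_rp cs R.nsys w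
  have hpos : ∀ {z : I → ℤ}, IsRoot cs h z → 0 < f z → 0 ≤ rep cs h w⁻¹ z := by
    intro z hz hfz
    rcases (hz.act w⁻¹).pos_or_neg with h2 | h2
    · exact h2
    · exfalso
      have h3 := dom_nonneg hw (neg_nonneg.2 h2)
      rw [map_neg, pull_apply, rep_apply_inv] at h3
      omega
  have hle : cj k⁻¹ (X a ⊔ X b) ≤ RGD.Sup X (RGD.Pos cs h) := by
    have h2 : cj k⁻¹ (X a ⊔ X b) = cj k⁻¹ (X a) ⊔ cj k⁻¹ (X b) := Subgroup.map_sup _ _ _
    rw [h2, R.conj_rp hk.inv ha, R.conj_rp hk.inv hb]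
    exact sup_le (RGD.le_Sup (S := RGD.Pos cs h) ⟨ha.act _, hpos ha hfa⟩)
      (RGD.le_Sup (S := RGD.Pos cs h) ⟨hb.act _, hpos hb hfb⟩)
  have h3 : X a ⊔ X b = cj k (cj k⁻¹ (X a ⊔ X b)) := by rw [cj_cj_inv]
  rw [h3]
  exact (R.isPGroup_Upos.to_le hle).map _

omit L hdom in
theorem mem_norm_of_orth {J0 : Set I} {a : I → ℤ} (La : LR R a) (ho : ∀ i ∈ J0, cpr cs h (sr i) a = 0) {x : Y}
    (hx : x ∈ RGD.Sup X (RootsJ cs h J0)) : ∀ v ∈ X a, x * v = v * x := by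
  intro v hv
  refine La.comm' (RGD.Sup_mono ?_ hx) hv
  rintro z ⟨hz, hz'⟩
  refine ⟨hz, ?_⟩
  have h1 : ell cs h La.root z = 0 := by
    rw [map_eq_sum]
    refine Finset.sum_eq_zero fun k _ => ?_
    by_cases hk : k ∈ J0
    · have h2 : ell cs h La.root (sr k) = 0 := ho k hk
      rw [h2, mul_zero]
    · rw [hz' k hk, zero_mul]
  exact h1.ge

omit L hdom in
theorem cj_eq_of_comm {a : I → ℤ} {x : Y} (hc : ∀ v ∈ X a, x * v = v * x) : cj x (X a) = X a := by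
  ext z
  rw [mem_cj]
  constructor
  · intro hz
    have h1 := hc _ hz
    have h2 : z = x⁻¹ * z * x := by
      calc z = x * (x⁻¹ * z * x) * x⁻¹ := by group
        _ = x⁻¹ * z * x * x * x⁻¹ := by rw [h1]
        _ = _ := by group
    rw [h2]
    exact hz
  · intro hz
    have h1 := hc z hz
    have h2 : x⁻¹ * z * x = z := by
      rw [mul_assoc, ← h1]
      group
    rw [h2]
    exact hz

/-- **Lemma B.** -/
theorem not_conj [Finite Y] [Fact r.Prime] (hG : GG cs h T X = ⊤) (hs : SL cs h) {p : ℕ} {J0 : Set I}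
    (hK : ∀ K : Set I, K ⊆ J0 → K ≠ J0 → ¬ p ∣ Nat.card (PJ cs h T X K))
    (hJ0 : ∀ i ∈ J0, cpr cs h (sr i) θ = 0)
    (h3 : ∀ w : W, (∀ i ∈ J0, cpr cs h (sr i) (rep cs h w θ) = 0) →
      rep cs h w θ = θ ∨ rep cs h w θ = -θ ∨ cpr cs h (rep cs h w θ) θ = 0)
    {x : Y} (hx : x ∈ RGD.Sup X (RootsJ cs h J0)) (hxp : orderOf x = p) {β r0 : I → ℤ} {u u' : W}
    (hβ : rep cs h u θ = β) (hr0 : rep cs h u' θ = r0) (ho : ∀ i ∈ J0, cpr cs h (sr i) r0 = 0)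
    (hc0 : cpr cs h r0 β = -1) {c : Y} (hc : c * x = x * c) : cj c (X θ) ≠ X β := by
  intro hcβ
  have Lβ : LR R β := hβ ▸ L.act u
  have L0 : LR R r0 := hr0 ▸ L.act u'
  have hxP : x ∈ PJ cs h T X J0 := by
    refine LJ_le_PJ (RGD.Sup_le (fun z hz => X_le_LJ hz) hx)
  -- `y = c⁻¹ (X r0) c`
  obtain ⟨k, hk⟩ := exists_rp cs R.nsys u'
  have hy : cj c⁻¹ (X r0) = cj (c⁻¹ * k) (X θ) := by
    rw [cj_mul, R.conj_rp hk L.root, hr0]
  have hxy : cj x (cj (c⁻¹ * k) (X θ)) = cj (c⁻¹ * k) (X θ) := by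
    rw [← hy, ← cj_mul]
    have h1 : x * c⁻¹ = c⁻¹ * x := by
      have : x * c⁻¹ = c⁻¹ * (c * x) * c⁻¹ := by group
      rw [this, hc]
      group
    rw [h1, cj_mul, cj_eq_of_comm R (mem_norm_of_orth R L0 ho hx)]
  obtain ⟨h0, hh0, w, hw, he⟩ := fix_orbit R L hdom hG hs hK hxP hxp hxy
  rw [← hy] at he
  have hJsub : J0 ⊆ {i | cpr cs h (sr i) θ = 0} := fun i hi => hJ0 i hi
  have hh0n : cj h0 (X θ) = X θ := by
    rw [← mem_normalizer_iff_cj]
    refine PJ_le_norm R L hdom ?_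
    have h1 : PJ cs h T X J0 ≤ PJ cs h T X {i | cpr cs h (sr i) θ = 0} := by
      refine sup_le ((LJ_mono hJsub).trans LJ_le_PJ) ((VJ_le_B J0).trans B_le_PJ)
    exact h1 hh0
  -- `d = c h0` maps `X θ` to `X β` and `X (w θ)` to `X r0`
  have hd1 : cj (c * h0) (X θ) = X β := by rw [cj_mul, hh0n, hcβ]
  have hd2 : cj (c * h0) (X (rep cs h w θ)) = X r0 := by
    rw [cj_mul, ← he, cj_cj_inv]
  have hne : r0 ≠ β := by
    rintro rfl
    rw [cpr_self cs h Lβ.root] at hc0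
    omega
  rcases h3 w hw with h4 | h4 | h4
  · rw [h4, hd1] at hd2
    exact hne (X_injective R Lβ.root L0.root hd2).symm
  · rw [h4] at hd2
    apply not_isPGroup R L
    have h5 : cj (c * h0) (X θ ⊔ X (-θ)) = X β ⊔ X r0 := by
      rw [← hd1, ← hd2]
      exact Subgroup.map_sup _ _ _
    have h6 : IsPGroup r ↥(X β ⊔ X r0) := by
      refine isPGroup_sup R hs Lβ.root L0.root ?_
      rintro rfl
      rw [cpr_neg_right cs h r0 L0.root, cpr_self cs h L0.root] at hc0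
      omega
    have h7 : X θ ⊔ X (-θ) = cj (c * h0)⁻¹ (X β ⊔ X r0) := by rw [← h5, cj_inv_cj]
    rw [h7]
    exact h6.map _
  · -- commuting
    have Lw := L.act w
    obtain ⟨v, hv, hv1⟩ := (Subgroup.bot_or_exists_ne_one (X β)).resolve_left (X_ne_bot R Lβ.root)
    have h5 : X r0 ≤ PS T X (Ge cs h β) := by
      intro z hz
      refine Lβ.le_PS_of_comm (by rw [hG]; exact Subgroup.mem_top z) hv hv1 ?_
      -- pull back
      have hz' : (c * h0)⁻¹ * z * (c * h0) ∈ X (rep cs h w θ) := by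
        rw [← mem_cj, hd2]
        exact hz
      have hv' : (c * h0)⁻¹ * v * (c * h0) ∈ X θ := by
        rw [← mem_cj, hd1]
        exact hv
      have h6 := L.comm _ Lw.root h4.ge _ hz' _ hv'
      have e1 : z * v = (c * h0) * (((c * h0)⁻¹ * z * (c * h0)) * ((c * h0)⁻¹ * v * (c * h0))) * (c * h0)⁻¹ := by
        group
      have e2 : v * z = (c * h0) * (((c * h0)⁻¹ * v * (c * h0)) * ((c * h0)⁻¹ * z * (c * h0))) * (c * h0)⁻¹ := by
        group
      rw [e1, e2, h6]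
    have h6 := (X_le_half_iff R (ell cs h Lβ.root) L0.root).1 h5
    have h7 : 0 ≤ cpr cs h r0 β := h6
    omega

end dom

end Cfsg.Agent.H422.RatB
end

-- part: H422/RatB/Orb
section
/-!
# The number of orbits on the fixed points of a Sylow subgroup (B0-RAT T9, helper422)

`P` a Sylow `p`-subgroup of `G` fixing `x₀ ∈ X`, `C = C_G(P)`. All the `C`-orbits on the fixed points of `P` in `G x₀`
have the same length. If these fixed points are the points of `C x₀` and fixed points in one further orbit of the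
stabilizer of `x₀`, then the number of `C`-orbits is not congruent to `1` modulo `p` (`cnt_of_two`).
-/

set_option autoImplicit false
set_option linter.unusedSectionVars false

namespace Cfsg.Agent.H422.RatB

open MulAction Subgroup Cfsg.Agent.H145.BR

universe u v

variable {G : Type u} [Group G] {X : Type v} [MulAction G X]

/-- the relation "in one `C`-orbit" on the fixed points of `P` -/
def orbSet (P C : Subgroup G) (X : Type v) [MulAction G X] : Setoid {y : X // ∀ a ∈ P, a • y = y} where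
  r y z := ∃ c ∈ C, c • y.1 = z.1
  iseqv :=
    { refl := fun y => ⟨1, one_mem _, one_smul _ _⟩
      symm := fun {y z} => by
        rintro ⟨c, hc, h⟩
        exact ⟨c⁻¹, inv_mem hc, by rw [← h, inv_smul_smul]⟩
      trans := fun {x y z} => by
        rintro ⟨c, hc, h⟩ ⟨d, hd, h'⟩
        exact ⟨d * c, mul_mem hd hc, by rw [mul_smul, h, h']⟩ }

theorem cnt_eq (P : Subgroup G) (X : Type v) [MulAction G X] :
    cnt P X = Nat.card (Quotient (orbSet P (centralizer (P : Set G)) X)) := rfl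

theorem exists_mem_normalizer [Finite G] {p : ℕ} [Fact p.Prime] (P : Sylow p G) {S : Subgroup G} {g : G}
    (h1 : ∀ a ∈ (P : Subgroup G), a ∈ S) (h2 : ∀ a ∈ (P : Subgroup G), g⁻¹ * a * g ∈ S) :
    ∃ s ∈ S, g * s ∈ Subgroup.normalizer ((P : Subgroup G) : Set G) := by
  have h3 : ((g⁻¹ • P : Sylow p G) : Subgroup G) ≤ S := by
    rintro _ ⟨a, ha, rfl⟩
    have := h2 a ha
    simpa only [MulAut.smul_def, MulAut.conj_apply, _root_.map_inv, _root_.MulDistribMulAction.toMonoidEnd_apply, _root_.MulDistribMulAction.toMonoidHom_apply, _root_.MulAut.inv_apply, _root_.MulAut.conj_symm_apply] using this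
  obtain ⟨s, hs⟩ := MulAction.exists_smul_eq S (P.subtype (show (P : Subgroup G) ≤ S from h1)) ((g⁻¹ • P).subtype h3)
  refine ⟨s, s.2, ?_⟩
  rw [Sylow.smul_subtype] at hs
  have h4 := Sylow.subtype_injective hs
  have h5 : (g * (s : G)) • P = P := by
    rw [mul_smul]
    have h6 : (s : G) • P = g⁻¹ • P := h4
    rw [h6, smul_inv_smul]
  exact Sylow.smul_eq_iff_mem_normalizer.1 h5

section count

variable [Finite G] [Finite X] {p : ℕ} [hp : Fact p.Prime] (P : Sylow p G)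

/-- the normalizer of `P` is transitive on the fixed points -/
theorem exists_norm_smul {x0 : X} (h0 : ∀ a ∈ (P : Subgroup G), a • x0 = x0) {g : G}
    (hg : ∀ a ∈ (P : Subgroup G), a • (g • x0) = g • x0) :
    ∃ n ∈ Subgroup.normalizer ((P : Subgroup G) : Set G), n • x0 = g • x0 := by
  obtain ⟨s, hs, hn⟩ := exists_mem_normalizer P (S := stabilizer G x0) (g := g) (fun a ha => h0 a ha) (fun a ha => by
    rw [mem_stabilizer_iff, mul_smul, mul_smul, hg a ha, inv_smul_smul])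
  exact ⟨_, hn, by rw [mul_smul, mem_stabilizer_iff.1 hs]⟩

theorem norm_smul_fix {n : G} (hn : n ∈ Subgroup.normalizer ((P : Subgroup G) : Set G)) {x : X}
    (hx : ∀ a ∈ (P : Subgroup G), a • x = x) : ∀ a ∈ (P : Subgroup G), a • (n • x) = n • x := by
  intro a ha
  have h1 : n⁻¹ * a * n ∈ (P : Subgroup G) := by
    have := (Subgroup.mem_normalizer_iff.1 (inv_mem hn) a).1 ha
    rwa [inv_inv] at this
  have h2 := hx _ h1
  calc a • (n • x) = n • ((n⁻¹ * a * n) • x) := by simp only [← mul_smul]; congr 1; group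
    _ = n • x := by rw [h2]

theorem norm_conj_cent {n : G} (hn : n ∈ Subgroup.normalizer ((P : Subgroup G) : Set G)) {c : G}
    (hc : c ∈ centralizer ((P : Subgroup G) : Set G)) : n * c * n⁻¹ ∈ centralizer ((P : Subgroup G) : Set G) := by
  rw [mem_centralizer_iff] at hc ⊢
  intro a ha
  have h1 : n⁻¹ * a * n ∈ (P : Subgroup G) := by
    have := (Subgroup.mem_normalizer_iff.1 (inv_mem hn) a).1 ha
    rwa [inv_inv] at this
  have h2 := hc _ h1
  calc a * (n * c * n⁻¹) = n * ((n⁻¹ * a * n) * c) * n⁻¹ := by group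
    _ = n * (c * (n⁻¹ * a * n)) * n⁻¹ := by rw [h2]
    _ = n * c * n⁻¹ * a := by group

/-- all the orbits of the centralizer have the same length -/
theorem card_orb {x0 : X} {n : G}
    (hn : n ∈ Subgroup.normalizer ((P : Subgroup G) : Set G)) :
    Nat.card {y : X // ∃ c ∈ centralizer ((P : Subgroup G) : Set G), c • (n • x0) = y} =
      Nat.card {y : X // ∃ c ∈ centralizer ((P : Subgroup G) : Set G), c • x0 = y} := by
  refine Nat.card_congr
    { toFun := fun y => ⟨n⁻¹ • y.1, ?_⟩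
      invFun := fun y => ⟨n • y.1, ?_⟩
      left_inv := fun y => Subtype.ext (smul_inv_smul _ _)
      right_inv := fun y => Subtype.ext (inv_smul_smul _ _) }
  · obtain ⟨c, hc, hy⟩ := y.2
    have h1 := norm_conj_cent P (inv_mem hn) hc
    refine ⟨_, h1, ?_⟩
    rw [← hy, inv_inv]
    simp only [← mul_smul]
    congr 1
    group
  · obtain ⟨c, hc, hy⟩ := y.2
    have h1 := norm_conj_cent P hn hc
    refine ⟨_, h1, ?_⟩
    rw [← hy]
    simp only [← mul_smul]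
    congr 1
    group

theorem card_fix_eq [IsPretransitive G X] {x0 : X} (h0 : ∀ a ∈ (P : Subgroup G), a • x0 = x0) :
    Nat.card {y : X // ∀ a ∈ (P : Subgroup G), a • y = y} = cnt (P : Subgroup G) X *
      Nat.card {y : X // ∃ c ∈ centralizer ((P : Subgroup G) : Set G), c • x0 = y} := by
  classical
  rw [cnt_eq]
  have : Fintype (Quotient (orbSet (P : Subgroup G) (centralizer ((P : Subgroup G) : Set G)) X)) := Fintype.ofFinite _
  rw [Nat.card_congr (Equiv.sigmaFiberEquiv (fun y : {y : X // ∀ a ∈ (P : Subgroup G), a • y = y} =>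
    Quotient.mk (orbSet (P : Subgroup G) (centralizer ((P : Subgroup G) : Set G)) X) y)).symm, Nat.card_sigma]
  have h1 : ∀ q : Quotient (orbSet (P : Subgroup G) (centralizer ((P : Subgroup G) : Set G)) X),
      Nat.card {y : {y : X // ∀ a ∈ (P : Subgroup G), a • y = y} //
        Quotient.mk (orbSet (P : Subgroup G) (centralizer ((P : Subgroup G) : Set G)) X) y = q} =
      Nat.card {y : X // ∃ c ∈ centralizer ((P : Subgroup G) : Set G), c • x0 = y} := by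
    intro q
    induction q using Quotient.inductionOn with
    | _ x =>
      obtain ⟨g, hg⟩ := MulAction.exists_smul_eq G x0 x.1
      obtain ⟨n, hn, hnx⟩ := exists_norm_smul P h0 (g := g) (by rw [hg]; exact x.2)
      rw [← card_orb P hn, hnx, hg]
      refine Nat.card_congr
        { toFun := fun y => ⟨y.1.1, ?_⟩
          invFun := fun y => ⟨⟨y.1, ?_⟩, ?_⟩
          left_inv := fun y => rfl
          right_inv := fun y => rfl }
      · have h2 := Quotient.exact y.2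
        obtain ⟨c, hc, h3⟩ := h2
        exact ⟨c⁻¹, inv_mem hc, by rw [← h3, inv_smul_smul]⟩
      · obtain ⟨c, hc, h3⟩ := y.2
        rw [← h3]
        exact norm_smul_fix P (centralizer_le_normalizer _ hc) x.2
      · obtain ⟨c, hc, h3⟩ := y.2
        exact Quotient.sound ⟨c⁻¹, inv_mem hc, by show c⁻¹ • y.1 = x.1; rw [← h3, inv_smul_smul]⟩
  rw [Finset.sum_congr rfl fun q _ => h1 q, Finset.sum_const, smul_eq_mul, Finset.card_univ, ← Nat.card_eq_fintype_card]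

/-- **the count** -/
theorem cnt_of_two [IsPretransitive G X] {x0 y0 : X} (h0 : ∀ a ∈ (P : Subgroup G), a • x0 = x0)
    (h1 : ∀ a ∈ (P : Subgroup G), a • y0 = y0)
    (hne : ∀ c ∈ centralizer ((P : Subgroup G) : Set G), c • x0 ≠ y0)
    (htwo : ∀ y : X, (∀ a ∈ (P : Subgroup G), a • y = y) →
      (∃ c ∈ centralizer ((P : Subgroup G) : Set G), c • x0 = y) ∨ ∃ g : G, g • x0 = x0 ∧ g • y0 = y) :
    ¬ cnt (P : Subgroup G) X ≡ 1 [MOD p] := by
  classical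
  set C := centralizer ((P : Subgroup G) : Set G) with hC
  set m := Nat.card {y : X // ∃ c ∈ C, c • x0 = y} with hm
  have e1 := card_fix_eq P h0
  rw [← hC, ← hm] at e1
  -- the second orbit
  set S : Subgroup G := stabilizer G x0 ⊓ Subgroup.normalizer ((P : Subgroup G) : Set G) with hS
  have hPS : (P : Subgroup G) ≤ S := le_inf (fun a ha => h0 a ha) le_normalizer
  have e2 : Nat.card {y : X // ∀ a ∈ (P : Subgroup G), a • y = y} = m + Nat.card (orbit S y0) := by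
    rw [hm, ← Nat.card_sum]
    have hA : ∀ y : X, (∃ c ∈ C, c • x0 = y) → ∀ a ∈ (P : Subgroup G), a • y = y := by
      rintro y ⟨c, hc, rfl⟩
      exact norm_smul_fix P (centralizer_le_normalizer _ hc) h0
    have hB : ∀ y : X, y ∈ orbit S y0 → ∀ a ∈ (P : Subgroup G), a • y = y := by
      rintro _ ⟨s, rfl⟩
      exact norm_smul_fix P s.2.2 h1
    refine (Nat.card_congr (Equiv.ofBijective (Sum.elim
      (fun y : {y : X // ∃ c ∈ C, c • x0 = y} => (⟨y.1, hA y.1 y.2⟩ : {y : X // ∀ a ∈ (P : Subgroup G), a • y = y}))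
      (fun y : orbit S y0 => ⟨y.1, hB y.1 y.2⟩)) ⟨?_, ?_⟩)).symm
    · have hdis : ∀ y : X, (∃ c ∈ C, c • x0 = y) → y ∈ orbit S y0 → False := by
        rintro _ ⟨c, hc, rfl⟩ ⟨s, hs⟩
        refine hne _ (norm_conj_cent P (inv_mem s.2.2) hc) ?_
        have h3 : ((s : G)⁻¹) • x0 = x0 := by
          rw [inv_smul_eq_iff]
          exact (mem_stabilizer_iff.1 s.2.1).symm
        have h4 : (s : G) • y0 = c • x0 := hs
        calc ((s : G)⁻¹ * c * ((s : G)⁻¹)⁻¹) • x0 = ((s : G)⁻¹) • (c • ((s : G) • x0)) := by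
              rw [inv_inv, mul_smul, mul_smul]
          _ = ((s : G)⁻¹) • (c • x0) := by rw [mem_stabilizer_iff.1 s.2.1]
          _ = y0 := by rw [← h4, inv_smul_smul]
      rintro (x | x) (y | y) hxy
      · have h3 : x.1 = y.1 := congrArg (fun z : {y : X // ∀ a ∈ (P : Subgroup G), a • y = y} => z.1) hxy
        exact congrArg Sum.inl (Subtype.ext h3)
      · have h3 : x.1 = y.1 := congrArg (fun z : {y : X // ∀ a ∈ (P : Subgroup G), a • y = y} => z.1) hxy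
        exact (hdis x.1 x.2 (h3 ▸ y.2)).elim
      · have h3 : x.1 = y.1 := congrArg (fun z : {y : X // ∀ a ∈ (P : Subgroup G), a • y = y} => z.1) hxy
        exact (hdis y.1 y.2 (h3 ▸ x.2)).elim
      · have h3 : x.1 = y.1 := congrArg (fun z : {y : X // ∀ a ∈ (P : Subgroup G), a • y = y} => z.1) hxy
        exact congrArg Sum.inr (Subtype.ext h3)
    · rintro ⟨y, hy⟩
      rcases htwo y hy with h3 | ⟨g, hg0, hg⟩
      · exact ⟨Sum.inl ⟨y, h3⟩, rfl⟩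
      · obtain ⟨s, hs, hn⟩ := exists_mem_normalizer P (S := stabilizer G x0 ⊓ stabilizer G y0) (g := g)
          (fun a ha => ⟨h0 a ha, h1 a ha⟩) (fun a ha => by
            refine ⟨?_, ?_⟩
            · have h4 : g⁻¹ • x0 = x0 := by rw [inv_smul_eq_iff]; exact hg0.symm
              show (g⁻¹ * a * g) • x0 = x0
              rw [mul_smul, mul_smul, hg0, h0 a ha, h4]
            · show (g⁻¹ * a * g) • y0 = y0
              rw [mul_smul, mul_smul, hg, hy a ha, ← hg, inv_smul_smul])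
        refine ⟨Sum.inr ⟨y, ⟨⟨g * s, ⟨?_, hn⟩⟩, ?_⟩⟩, rfl⟩
        · show (g * s) • x0 = x0
          rw [mul_smul, mem_stabilizer_iff.1 hs.1, hg0]
        · show (g * s) • y0 = y
          rw [mul_smul, mem_stabilizer_iff.1 hs.2, hg]
  -- the length of the second orbit
  have e3 : ¬ p ∣ Nat.card (orbit S y0) := by
    intro h
    rw [Nat.card_congr (orbitEquivQuotientStabilizer S y0)] at h
    have h4 : (P : Subgroup G).subgroupOf S ≤ stabilizer S y0 := by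
      intro a ha
      exact h1 _ ha
    have h5 : (stabilizer S y0).index ∣ ((P : Subgroup G).subgroupOf S).index := index_dvd_of_le h4
    have h6 : ((P : Subgroup G).subgroupOf S).index ∣ (P : Subgroup G).index := relIndex_dvd_index_of_le hPS
    exact P.not_dvd_index (h.trans (h5.trans h6))
  intro h
  apply e3
  rw [e1] at e2
  have h7 : cnt (P : Subgroup G) X * m ≡ 1 * m [MOD p] := h.mul_right m
  rw [e2, one_mul] at h7
  have h8 : m + Nat.card (orbit S y0) ≡ m + 0 [MOD p] := by rwa [add_zero]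
  exact (Nat.modEq_zero_iff_dvd).1 (Nat.ModEq.add_left_cancel' m h8)

end count

end Cfsg.Agent.H422.RatB
end

-- part: H422/RatB/Two
section
/-!
# The fixed points of a Sylow subgroup on the long root groups (B0-RAT T9, helper422)

`fix_two` : the fixed points of `P` on the conjugates of `X θ` are the points `C_G(P) X θ` and points in the orbit of
`X β` under the normalizer of `X θ`; `cnt_ne` : the number of the `C_G(P)`-orbits on the fixed points of `P` on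
`G / P_J` is not `1` modulo `p`.
-/

set_option autoImplicit false
set_option linter.unusedSectionVars false

namespace Cfsg.Agent.H422.RatB

open CoxeterSystem Cfsg.Agent.ChevalleyStructure.CoxeterGeom Cfsg.Agent.Tits.Roots Cfsg.Agent.Tits.Core
  Cfsg.Agent.Tits.RootComb Cfsg.Agent.Tits.Exchange Cfsg.Agent.Nodes.Comb Cfsg.Agent.Nodes.Reps
  Cfsg.Agent.Nodes.BNOf Cfsg.Agent.Nodes.StabComb Cfsg.Agent.Nodes.Bruhat Cfsg.Agent.Nodes.OppDec
  Cfsg.Agent.Nodes.LeviDec Cfsg.Agent.Nodes.NormX Cfsg.Agent.Nodes.Coroot Cfsg.Agent.KFacts.RgdPar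
  Cfsg.Agent.KFacts.RgdSL Cfsg.Agent.KFacts.RgdTI

variable {I W Y : Type*} [Fintype I] [DecidableEq I] [Group W] [Group Y] {M : CoxeterMatrix I}
  {cs : CoxeterSystem M W} {A : I → I → ℤ} {h : IsCartan M A} {r : ℕ} {T : Subgroup Y} {n : I → Y}
  {X : (I → ℤ) → Subgroup Y}

variable (R : RGD cs h r T n X)

include R

variable [Finite W] {θ : I → ℤ} (L : LR R θ) (hdom : ∀ i, 0 ≤ cpr cs h (sr i) θ)

include L

theorem lr_neg : LR R (-θ) := by
  obtain ⟨u, hu, hu1⟩ := (Subgroup.bot_or_exists_ne_one (X θ)).resolve_left (X_ne_bot R L.root)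
  obtain ⟨s, hs1, -⟩ := exists_mu R L.root hu hu1
  have h1 := L.act s
  rw [hs1, cpr_self cs h L.root, two_smul] at h1
  have h2 : θ - (θ + θ) = -θ := by abel
  rwa [h2] at h1

include hdom

theorem cpr_eq_zero_iff {z : I → ℤ} (hz : IsRoot cs h z) :
    cpr cs h z θ = 0 ↔ z ∈ RootsJ cs h {i | cpr cs h (sr i) θ = 0} := by
  have h1 := rootsJ_eq (cs := cs) (h := h) (f := ell cs h L.root) hdom
  constructor
  · intro h2
    have h3 : z ∈ {x | IsRoot cs h x ∧ ell cs h L.root x = 0} := ⟨hz, h2⟩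
    rw [← h1] at h3
    exact h3
  · intro h2
    have h3 : z ∈ RootsJ cs h {i | ell cs h L.root (sr i) = 0} := h2
    rw [h1] at h3
    exact h3.2

theorem pos_of_NotJ {z : I → ℤ} (hz : z ∈ NotJ cs h {i | cpr cs h (sr i) θ = 0}) : 0 < cpr cs h z θ := by
  have h1 : 0 ≤ cpr cs h z θ := dom_nonneg (f := ell cs h L.root) hdom hz.2.1
  refine lt_of_le_of_ne h1 fun h2 => ?_
  obtain ⟨k, hk, hk'⟩ := hz.2.2
  have h3 := dom_zero (f := ell cs h L.root) hdom hz.2.1 h2.symm k hk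
  omega

/-- elements of `V_J` normalizing `X (-θ)` are trivial -/
theorem eq_one_of_VJ (hG : GG cs h T X = ⊤) {u : Y} (hu : u ∈ VJ cs h X {i | cpr cs h (sr i) θ = 0})
    (hn : u ∈ Subgroup.normalizer (X (-θ) : Set Y)) : u = 1 := by
  have L' := lr_neg R L
  refine key R (ell cs h L'.root) (rp_one (cs := cs) (hN := R.nsys)) (RGD.Sup_mono ?_ hu) ?_
  · intro z hz
    refine ⟨hz.1, ?_⟩
    have h1 := pos_of_NotJ R L hdom hz
    show cpr cs h z (-θ) < 0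
    rw [cpr_neg_right cs h z L.root]
    omega
  · rw [mul_one]
    have h1 : u ∈ Subgroup.normalizer (X (-θ) : Set Y) ⊓ GG cs h T X := ⟨hn, by rw [hG]; exact Subgroup.mem_top _⟩
    rw [L'.normalizer] at h1
    exact h1

/-- the Levi subgroup of `J` normalizes `X (-θ)` -/
theorem LJ_le_neg : LJ cs h T X {i | cpr cs h (sr i) θ = 0} ≤ Subgroup.normalizer (X (-θ) : Set Y) := by
  refine le_trans ?_ (lr_neg R L).PS_le_normalizer
  refine sup_le T_le_PS ((RGD.Sup_mono fun z hz => ?_).trans Sup_le_PS)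
  refine ⟨hz.1, ?_⟩
  rw [cpr_neg_right cs h z L.root, (cpr_eq_zero_iff R L hdom hz.1).2 hz]
  norm_num

/-- `V_J` is normalized by `P_J` -/
theorem conj_VJ {J : Set I} {a v : Y} (ha : a ∈ PJ cs h T X J) (hv : v ∈ VJ cs h X J) : a * v * a⁻¹ ∈ VJ cs h X J :=
  (Subgroup.mem_normalizer_iff.1 (PJ_le_normalizer_VJ R J ha) v).1 hv

theorem mem_norm_iff {g : Y} (hG : GG cs h T X = ⊤) :
    cj g (X θ) = X θ ↔ g ∈ PJ cs h T X {i | cpr cs h (sr i) θ = 0} := by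
  rw [← mem_normalizer_iff_cj]
  constructor
  · intro h1
    have h2 : g ∈ Subgroup.normalizer (X θ : Set Y) ⊓ GG cs h T X := ⟨h1, by rw [hG]; exact Subgroup.mem_top _⟩
    rw [L.normalizer, PS_dom R L hdom] at h2
    exact h2
  · intro h1
    exact PJ_le_norm R L hdom h1

/-- **the fixed points of `P`** -/
theorem fix_two [Finite Y] (hG : GG cs h T X = ⊤) (hs : SL cs h) {p : ℕ} {J0 D : Set I}
    (hK : ∀ K : Set I, K ⊆ J0 → K ≠ J0 → ¬ p ∣ Nat.card (PJ cs h T X K))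
    (hJD : J0 ⊆ D) (hD : ∀ i ∈ D, cpr cs h (sr i) θ = 0)
    (h3 : ∀ w : W, (∀ i ∈ J0, cpr cs h (sr i) (rep cs h w θ) = 0) →
      rep cs h w θ = θ ∨ rep cs h w θ = -θ ∨ cpr cs h (rep cs h w θ) θ = 0)
    {P : Subgroup Y} (hP : P ≤ RGD.Sup X (RootsJ cs h D)) {x : Y} (hx : x ∈ P)
    (hx0 : x ∈ RGD.Sup X (RootsJ cs h J0)) (hxp : orderOf x = p) {β : I → ℤ} (hβ : IsRoot cs h β)
    (htr : ∀ z ∈ RootsJ cs h {i | cpr cs h (sr i) θ = 0}, ∃ w ∈ WJ cs {i | cpr cs h (sr i) θ = 0}, rep cs h w β = z)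
    {g : Y} (hfix : ∀ a ∈ P, cj a (cj g (X θ)) = cj g (X θ)) :
    (∃ c ∈ Subgroup.centralizer (P : Set Y), cj c (X θ) = cj g (X θ)) ∨
      ∃ b, cj b (X θ) = X θ ∧ cj b (X β) = cj g (X θ) := by
  have hxP : x ∈ PJ cs h T X J0 := LJ_le_PJ (RGD.Sup_le (fun z hz => X_le_LJ hz) hx0)
  obtain ⟨h0, hh0, w, hw, he⟩ := fix_orbit R L hdom hG hs hK hxP hxp (hfix x hx)
  have hJsub : J0 ⊆ {i | cpr cs h (sr i) θ = 0} := fun i hi => hD i (hJD hi)
  have hh0J : h0 ∈ PJ cs h T X {i | cpr cs h (sr i) θ = 0} := by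
    have h1 : PJ cs h T X J0 ≤ PJ cs h T X {i | cpr cs h (sr i) θ = 0} :=
      sup_le ((LJ_mono hJsub).trans LJ_le_PJ) ((VJ_le_B J0).trans B_le_PJ)
    exact h1 hh0
  have hh0n : cj h0 (X θ) = X θ := (mem_norm_iff R L hdom hG).2 hh0J
  have L' := lr_neg R L
  -- `P` centralizes `X θ` and `X (-θ)`
  have hPc : ∀ a ∈ P, ∀ v ∈ X θ, a * v = v * a := fun a ha => mem_norm_of_orth R L hD (hP ha)
  have hPc' : ∀ a ∈ P, ∀ v ∈ X (-θ), a * v = v * a := fun a ha =>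
    mem_norm_of_orth R L' (fun i hi => by rw [cpr_neg_right cs h _ L.root, hD i hi, neg_zero]) (hP ha)
  rcases h3 w hw with h4 | h4 | h4
  · left
    refine ⟨1, one_mem _, ?_⟩
    rw [he, h4, hh0n]
    exact (mem_norm_iff R L hdom hG).2 (one_mem _)
  · left
    rw [h4] at he
    obtain ⟨l, hl, v, hv, e⟩ := (mem_PJ R).1 hh0J
    have hv' := conj_VJ R L hdom (LJ_le_PJ hl) hv
    set v' := l * v * l⁻¹ with hv'def
    have he' : cj g (X θ) = cj v' (X (-θ)) := by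
      rw [he, e]
      have h5 : l * v = v' * l := by rw [hv'def]; group
      rw [h5, cj_mul, mem_normalizer_iff_cj.1 (LJ_le_neg R L hdom hl)]
    have hcent : ∀ a ∈ P, a * v' = v' * a := by
      intro a ha
      have h5 := hfix a ha
      rw [he', ← cj_mul] at h5
      -- `v'⁻¹ a v' a⁻¹` normalizes `X (-θ)`
      have h6 : cj a (X (-θ)) = X (-θ) := cj_eq_of_comm R (hPc' a ha)
      have h7 : cj (v'⁻¹ * (a * v' * a⁻¹)) (X (-θ)) = X (-θ) := by
        have h8 : cj a⁻¹ (X (-θ)) = X (-θ) := by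
          conv_lhs => rw [← h6]
          rw [cj_inv_cj]
        calc cj (v'⁻¹ * (a * v' * a⁻¹)) (X (-θ)) = cj v'⁻¹ (cj (a * v') (cj a⁻¹ (X (-θ)))) := by
              rw [← cj_mul, ← cj_mul]; congr 1; group
          _ = X (-θ) := by rw [h8, h5, cj_inv_cj]
      have h9 : v'⁻¹ * (a * v' * a⁻¹) = 1 := by
        refine eq_one_of_VJ R L hdom hG (mul_mem (inv_mem hv') (conj_VJ R L hdom ?_ hv')) (mem_normalizer_iff_cj.2 h7)
        refine LJ_le_PJ (RGD.Sup_le (fun z hz => X_le_LJ ?_) (hP ha))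
        exact ⟨hz.1, fun k hk => hz.2 k fun hk' => hk (hD k hk')⟩
      have h10 : a * v' * a⁻¹ = v' := by
        rw [inv_mul_eq_one] at h9
        exact h9.symm
      rw [mul_inv_eq_iff_eq_mul] at h10
      exact h10
    obtain ⟨u, hu, hu1⟩ := (Subgroup.bot_or_exists_ne_one (X θ)).resolve_left (X_ne_bot R L.root)
    obtain ⟨m, hm, hm'⟩ := X_neg_of_rep R L hu hu1
    refine ⟨v' * m, mul_mem ?_ ?_, by rw [he', cj_mul, hm]⟩
    · rw [Subgroup.mem_centralizer_iff]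
      exact fun a ha => hcent a ha
    · have h5 : X θ ⊔ X (-θ) ≤ Subgroup.centralizer (P : Set Y) := by
        refine sup_le ?_ ?_
        · intro z hz
          rw [Subgroup.mem_centralizer_iff]
          exact fun a ha => hPc a ha z hz
        · intro z hz
          rw [Subgroup.mem_centralizer_iff]
          exact fun a ha => hPc' a ha z hz
      exact h5 hm'
  · right
    obtain ⟨w', hw', hw2⟩ := htr _ ((cpr_eq_zero_iff R L hdom (L.act w).root).1 h4)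
    obtain ⟨k', hk'⟩ := exists_rp cs R.nsys w'
    have hk'P : k' ∈ PJ cs h T X {i | cpr cs h (sr i) θ = 0} := LJ_le_PJ (rp_mem_LJ R hw' hk')
    refine ⟨h0 * k', ?_, ?_⟩
    · rw [cj_mul, (mem_norm_iff R L hdom hG).2 hk'P, hh0n]
    · rw [cj_mul, R.conj_rp hk' hβ, hw2, he]

/-- **the count for the action on `G / P_J`** -/
theorem cnt_ne [Finite Y] [Fact r.Prime] (hG : GG cs h T X = ⊤) (hs : SL cs h) {p : ℕ} [Fact p.Prime] {J0 D : Set I}
    (hK : ∀ K : Set I, K ⊆ J0 → K ≠ J0 → ¬ p ∣ Nat.card (PJ cs h T X K))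
    (hJD : J0 ⊆ D) (hD : ∀ i ∈ D, cpr cs h (sr i) θ = 0)
    (h3 : ∀ w : W, (∀ i ∈ J0, cpr cs h (sr i) (rep cs h w θ) = 0) →
      rep cs h w θ = θ ∨ rep cs h w θ = -θ ∨ cpr cs h (rep cs h w θ) θ = 0)
    (P : Sylow p Y) (hP : (P : Subgroup Y) ≤ RGD.Sup X (RootsJ cs h D)) {x : Y} (hx : x ∈ (P : Subgroup Y))
    (hx0 : x ∈ RGD.Sup X (RootsJ cs h J0)) (hxp : orderOf x = p) {β r0 : I → ℤ} {u u' : W}
    (hβ : rep cs h u θ = β) (hr0 : rep cs h u' θ = r0) (ho : ∀ i ∈ J0, cpr cs h (sr i) r0 = 0)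
    (hc0 : cpr cs h r0 β = -1) (hβD : ∀ i ∈ D, cpr cs h (sr i) β = 0)
    (htr : ∀ z ∈ RootsJ cs h {i | cpr cs h (sr i) θ = 0}, ∃ w ∈ WJ cs {i | cpr cs h (sr i) θ = 0}, rep cs h w β = z) :
    ¬ H145.BR.cnt (P : Subgroup Y) (Y ⧸ PJ cs h T X {i | cpr cs h (sr i) θ = 0}) ≡ 1 [MOD p] := by
  set J : Set I := {i | cpr cs h (sr i) θ = 0} with hJ
  obtain ⟨k, hk⟩ := exists_rp cs R.nsys u
  have hkβ : cj k (X θ) = X β := by rw [R.conj_rp hk L.root, hβ]
  have Lβ : LR R β := hβ ▸ L.act u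
  -- translation
  have tr : ∀ a b : Y, ((a : Y) : Y ⧸ PJ cs h T X J) = (b : Y ⧸ PJ cs h T X J) ↔ cj a (X θ) = cj b (X θ) := by
    intro a b
    rw [QuotientGroup.eq, ← mem_norm_iff R L hdom hG, cj_mul]
    constructor
    · intro h1
      conv_lhs => rw [← h1]
      rw [cj_cj_inv]
    · intro h1
      rw [← h1, cj_inv_cj]
  have hsm : ∀ a b : Y, a • ((b : Y) : Y ⧸ PJ cs h T X J) = ((a * b : Y) : Y ⧸ PJ cs h T X J) := fun a b => rfl
  refine cnt_of_two P (x0 := ((1 : Y) : Y ⧸ PJ cs h T X J)) (y0 := ((k : Y) : Y ⧸ PJ cs h T X J)) ?_ ?_ ?_ ?_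
  · intro a ha
    rw [hsm, tr, mul_one]
    rw [cj_eq_of_comm R (mem_norm_of_orth R L hD (hP ha))]
    exact ((mem_norm_iff R L hdom hG).2 (one_mem _)).symm
  · intro a ha
    rw [hsm, tr, cj_mul, hkβ]
    exact cj_eq_of_comm R (mem_norm_of_orth R Lβ hβD (hP ha))
  · intro c hc h1
    rw [hsm, tr, mul_one, hkβ] at h1
    exact not_conj R L hdom hG hs hK (fun i hi => hD i (hJD hi)) h3 hx0 hxp hβ hr0 ho hc0
      ((Subgroup.mem_centralizer_iff.1 hc x hx).symm) h1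
  · intro y hy
    induction y using QuotientGroup.induction_on with
    | H g =>
      have hfix : ∀ a ∈ (P : Subgroup Y), cj a (cj g (X θ)) = cj g (X θ) := by
        intro a ha
        have h1 := hy a ha
        rwa [hsm, tr, cj_mul] at h1
      rcases fix_two R L hdom hG hs hK hJD hD h3 hP hx hx0 hxp Lβ.root htr hfix with ⟨c, hc, h1⟩ | ⟨b, hb, h1⟩
      · left
        refine ⟨c, hc, ?_⟩
        rw [hsm, tr, mul_one, h1]
      · right
        refine ⟨b, ?_, ?_⟩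
        · rw [hsm, tr, mul_one, hb]
          exact ((mem_norm_iff R L hdom hG).2 (one_mem _)).symm
        · rw [hsm, tr, cj_mul, hkβ, h1]

end Cfsg.Agent.H422.RatB
end

-- part: H422/RatB/E7Root
section
/-!
# The root system of `E7` (B0-RAT T9, helper422)

The highest root `θ`, the nodes orthogonal to it, the set `J₀ = {1, 2, 3}`.
-/

set_option autoImplicit false
set_option linter.unusedSectionVars false
set_option maxRecDepth 100000

namespace Cfsg.Agent.H422.RatB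

open CoxeterSystem Cfsg.Agent.ChevalleyStructure.CoxeterGeom Cfsg.Agent.Tits.Roots Cfsg.Agent.Tits.Core
  Cfsg.Agent.Tits.RootComb Cfsg.Agent.Tits.Exchange Cfsg.Agent.Nodes.Reps Cfsg.Agent.Nodes.BNOf
  Cfsg.Agent.Nodes.StabComb Cfsg.Agent.Nodes.Bruhat Cfsg.Agent.Nodes.LeviDec Cfsg.Agent.Nodes.Coroot
  Cfsg.Agent.KFacts.RgdPar Cfsg.Agent.KFacts.RgdSL Cfsg.Agent.KFacts.RgdTI
  Cfsg.Agent.H35.ExcIdx Cfsg.Agent.ChevalleyStructure.CoxeterGeomTypes Cfsg.Lie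

/-- the highest root -/
def th7 : Fin 7 → ℤ := ![2, 2, 3, 4, 3, 2, 1]

variable {W : Type*} [Group W] [Finite W] (cs : CoxeterSystem CoxeterMatrix.E₇ W)

/-- no double and triple bonds -/
theorem ne46 (i j : Fin 7) : CoxeterMatrix.E₇ i j ≠ 4 ∧ CoxeterMatrix.E₇ i j ≠ 6 := by
  fin_cases i <;> fin_cases j <;> decide

theorem sl7 : SL cs hpE7.isCartan := by
  intro x y hx hy
  exact Cfsg.Agent.Nodes.SimplyLaced.cpr_symm cs _ (fun i j => (ne46 i j).1) (fun i j => (ne46 i j).2) hx hy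

theorem root_th7 : IsRoot cs hpE7.isCartan th7 := by
  rw [Cfsg.Agent.Nodes.RGDChev.isRoot_iff hpE7 cs]
  decide +kernel

theorem cpr_sr_th7 (i : Fin 7) : cpr cs hpE7.isCartan (sr i) th7 = if i = 0 then 1 else 0 := by
  rw [sl7 cs _ _ (isRoot_sr cs _ i) (root_th7 cs), cpr_sr]
  revert i
  decide +kernel

theorem zero_th7 : {i | cpr cs hpE7.isCartan (sr i) th7 = 0} = {i : Fin 7 | i ≠ 0} := by
  ext i
  show cpr cs hpE7.isCartan (sr i) th7 = 0 ↔ i ≠ 0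
  rw [cpr_sr_th7]
  split_ifs with hi
  · simp [hi]
  · simp [hi]

theorem dom_th7 (i : Fin 7) : 0 ≤ cpr cs hpE7.isCartan (sr i) th7 := by
  rw [cpr_sr_th7]
  split_ifs <;> norm_num

theorem cpr_th7 (x : Fin 7 → ℤ) : cpr cs hpE7.isCartan x th7 = x 0 := by
  have h1 : ell cs hpE7.isCartan (root_th7 cs) x = ∑ k, x k * ell cs hpE7.isCartan (root_th7 cs) (sr k) :=
    map_eq_sum _ x
  have h2 : ∀ k : Fin 7, ell cs hpE7.isCartan (root_th7 cs) (sr k) = if k = 0 then 1 else 0 := cpr_sr_th7 cs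
  have h3 : cpr cs hpE7.isCartan x th7 = ell cs hpE7.isCartan (root_th7 cs) x := rfl
  rw [h3, h1, Fin.sum_univ_seven]
  simp [h2]

theorem h3_th7 {z : Fin 7 → ℤ} (hz : IsRoot cs hpE7.isCartan z)
    (ho : ∀ i ∈ ({1, 2, 3} : Set (Fin 7)), cpr cs hpE7.isCartan (sr i) z = 0) :
    z = th7 ∨ z = -th7 ∨ cpr cs hpE7.isCartan z th7 = 0 := by
  have h1 : ∀ i, cpr cs hpE7.isCartan (sr i) z = pairing (cartanOf chevE7 7) i z := fun i => by
    rw [sl7 cs _ _ (isRoot_sr cs _ i) hz, cpr_sr]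
  have e1 := ho 1 (by simp)
  have e2 := ho 2 (by simp)
  rw [h1] at e1 e2
  unfold pairing at e1 e2
  rw [Fin.sum_univ_seven] at e1 e2
  have c1 : cartanOf chevE7 7 1 = ![0, 2, 0, -1, 0, 0, 0] := by decide +kernel
  have c2 : cartanOf chevE7 7 2 = ![-1, 0, 2, -1, 0, 0, 0] := by decide +kernel
  rw [c1] at e1
  rw [c2] at e2
  simp only [_root_.Nat.succ_eq_add_one, _root_.Nat.reduceAdd, _root_.Int.reduceNeg, _root_.Fin.isValue, _root_.Matrix.cons_val_zero, _root_.MulZeroClass.zero_mul, _root_.Matrix.cons_val_one, _root_.zero_add, _root_.Matrix.cons_val, _root_.add_zero, _root_.neg_mul, _root_.one_mul] at e1 e2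
  rcases (sl7 cs).cases hz (root_th7 cs) with h2 | h2 | h2
  · exact Or.inl h2.1
  · exact Or.inr (Or.inl h2.1)
  · right; right
    rw [cpr_th7] at h2 ⊢
    omega

/-- the simple roots are conjugate under the subgroup generated by the reflections on the way -/
theorem sr_step {i j : Fin 7} (hij : CoxeterMatrix.E₇ i j = 3) :
    rep cs hpE7.isCartan (cs.simple i * cs.simple j) (sr i) = sr j := by
  obtain ⟨h1, h2⟩ := cartan_three hpE7.isCartan hij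
  have e1 : pairing (cartanOf chevE7 7) j (sr i) = -1 := by
    rw [sr, pairing_single, h2, mul_one]
  have e2 : pairing (cartanOf chevE7 7) i (sr j) = -1 := by
    rw [sr, pairing_single, h1, mul_one]
  have e3 : pairing (cartanOf chevE7 7) i (sr i) = 2 := by
    rw [← cpr_sr cs hpE7.isCartan, cpr_self cs _ (isRoot_sr cs _ i)]
  rw [rep_mul_apply, rep_simple_eq cs hpE7.isCartan j, e1, neg_one_smul, sub_neg_eq_add, map_add, rep_simple_sr,
    rep_simple_eq, e2, neg_one_smul, sub_neg_eq_add]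
  abel

end Cfsg.Agent.H422.RatB
end

-- part: H422/RatB/Syl
section
/-!
# Sylow subgroups in Levi subgroups (B0-RAT T9, helper422)

`exists_sylow_le` : if `p` does not divide `|T|` and the index of `P_D`, and `p` divides `|P_{J₀}|`, `J₀ ⊆ D`, then there
is a Sylow `p`-subgroup in the semisimple part of `L_D` containing an element of order `p` of the semisimple part of
`L_{J₀}`.
-/

set_option autoImplicit false
set_option linter.unusedSectionVars false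

namespace Cfsg.Agent.H422.RatB

open CoxeterSystem Cfsg.Agent.ChevalleyStructure.CoxeterGeom Cfsg.Agent.Tits.Roots Cfsg.Agent.Tits.Core
  Cfsg.Agent.Tits.RootComb Cfsg.Agent.Nodes.Reps Cfsg.Agent.Nodes.BNOf Cfsg.Agent.Nodes.StabComb
  Cfsg.Agent.Nodes.Bruhat Cfsg.Agent.Nodes.LeviDec

/-- a Sylow subgroup in a subgroup of index prime to `p` -/
theorem exists_sylow_of_index {Y : Type*} [Group Y] [Finite Y] {p : ℕ} [hp : Fact p.Prime] {L : Subgroup Y}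
    (hL : ¬ p ∣ L.index) {x : Y} (hx : x ∈ L) (hxp : orderOf x = p) :
    ∃ P : Sylow p Y, (P : Subgroup Y) ≤ L ∧ x ∈ (P : Subgroup Y) := by
  have h1 : IsPGroup p (Subgroup.zpowers (⟨x, hx⟩ : L)) := by
    refine IsPGroup.of_card (n := 1) ?_
    rw [Nat.card_zpowers, pow_one, ← hxp, ← Subgroup.orderOf_mk x hx]
  obtain ⟨Q, hQ⟩ := h1.exists_le_sylow
  have h2 : IsPGroup p ((Q : Subgroup L).map L.subtype) := Q.2.map _
  have h3 : (Q : Subgroup L).map L.subtype ≤ L := Subgroup.map_subtype_le _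
  have h4 : ¬ p ∣ ((Q : Subgroup L).map L.subtype).index := by
    rw [← Subgroup.relIndex_mul_index h3, hp.out.dvd_mul]
    rintro (h5 | h5)
    · have h6 : ((Q : Subgroup L).map L.subtype).relIndex L = (Q : Subgroup L).index := by
        unfold Subgroup.relIndex
        congr 1
        exact Subgroup.comap_map_eq_self_of_injective L.subtype_injective _
      rw [h6] at h5
      exact Q.not_dvd_index h5
    · exact hL h5
  refine ⟨h2.toSylow h4, h3, ?_⟩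
  exact ⟨⟨x, hx⟩, hQ (Subgroup.mem_zpowers _), rfl⟩

variable {I W Y : Type*} [Fintype I] [DecidableEq I] [Group W] [Group Y] {M : CoxeterMatrix I}
  {cs : CoxeterSystem M W} {A : I → I → ℤ} {h : IsCartan M A} {r : ℕ} {T : Subgroup Y} {n : I → Y}
  {X : (I → ℤ) → Subgroup Y}

variable (R : RGD cs h r T n X)

include R

/-- the order of a parabolic subgroup -/
theorem card_PJ_eq [Finite W] [Finite Y] (J : Set I) :
    Nat.card (PJ cs h T X J) = Nat.card (LJ cs h T X J) * Nat.card (VJ cs h X J) := by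
  have h6 : Disjoint (LJ cs h T X J) (VJ cs h X J) := disjoint_iff.2 (LJ_inf_VJ R J)
  have h7 : Subgroup.IsComplement' ((LJ cs h T X J).subgroupOf (PJ cs h T X J))
      ((VJ cs h X J).subgroupOf (PJ cs h T X J)) := by
    refine Subgroup.isComplement'_of_disjoint_and_mul_eq_univ ?_ ?_
    · rw [disjoint_iff, eq_bot_iff]
      intro y hy
      have : (y : Y) ∈ LJ cs h T X J ⊓ VJ cs h X J := ⟨hy.1, hy.2⟩
      rw [LJ_inf_VJ R J] at this
      exact Subgroup.mem_bot.2 (Subtype.ext (Subgroup.mem_bot.1 this))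
    · rw [Set.eq_univ_iff_forall]
      intro y
      obtain ⟨a, ha, v, hv, e⟩ := (mem_PJ R).1 y.2
      exact ⟨⟨a, LJ_le_PJ ha⟩, ha, ⟨v, VJ_le_PJ hv⟩, hv, Subtype.ext e.symm⟩
  have h8 := h7.card_mul_card
  rw [Nat.card_congr (Subgroup.subgroupOfEquivOfLe LJ_le_PJ).toEquiv,
    Nat.card_congr (Subgroup.subgroupOfEquivOfLe VJ_le_PJ).toEquiv] at h8
  exact h8.symm

theorem not_dvd_VJ [Finite W] [Finite Y] {p : ℕ} [hp : Fact p.Prime] [hr : Fact r.Prime] (hpr : p ≠ r) (J : Set I) :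
    ¬ p ∣ Nat.card (VJ cs h X J) := by
  intro h1
  obtain ⟨m, hm⟩ := IsPGroup.iff_card.1 ((R.isPGroup_Upos).to_le (VJ_le_U J))
  rw [hm] at h1
  exact hpr ((Nat.prime_dvd_prime_iff_eq hp.out hr.out).1 (hp.out.dvd_of_dvd_pow h1))

theorem not_dvd_LJ_index [Finite W] [Finite Y] {p : ℕ} [hp : Fact p.Prime] [hr : Fact r.Prime] (hpr : p ≠ r)
    {J : Set I} (hJ : ¬ p ∣ (PJ cs h T X J).index) : ¬ p ∣ (LJ cs h T X J).index := by
  rw [← Subgroup.relIndex_mul_index (LJ_le_PJ (cs := cs) (h := h) (T := T) (X := X) (J := J)), hp.out.dvd_mul]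
  rintro (h1 | h1)
  · have h2 := Subgroup.card_mul_index ((LJ cs h T X J).subgroupOf (PJ cs h T X J))
    rw [Nat.card_congr (Subgroup.subgroupOfEquivOfLe LJ_le_PJ).toEquiv, card_PJ_eq R] at h2
    have h3 := Nat.eq_of_mul_eq_mul_left (Nat.card_pos) h2
    unfold Subgroup.relIndex at h1
    rw [h3] at h1
    exact not_dvd_VJ R hpr J h1
  · exact hJ h1

/-- `L_J = T S_J` -/
theorem mem_LJ_iff {J : Set I} {g : Y} :
    g ∈ LJ cs h T X J ↔ ∃ t ∈ T, ∃ s ∈ RGD.Sup X (RootsJ cs h J), g = t * s := by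
  constructor
  · intro hg
    have h1 : g ∈ ((T ⊔ RGD.Sup X (RootsJ cs h J) : Subgroup Y) : Set Y) := hg
    rw [Subgroup.coe_mul_of_left_le_normalizer_right _ _ (R.T_le_normalizer fun _ hx => hx.1), Set.mem_mul] at h1
    obtain ⟨l, hl, v, hv, e⟩ := h1
    exact ⟨l, hl, v, hv, e.symm⟩
  · rintro ⟨l, hl, v, hv, rfl⟩
    exact mul_mem (T_le_LJ hl) (le_sup_right (a := T) hv)

/-- the `p`-elements of `L_J` lie in the semisimple part -/
theorem mem_S_of_pow {p k : ℕ} [hp : Fact p.Prime] [Finite Y] (hpT : ¬ p ∣ Nat.card T) {J : Set I} {g : Y}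
    (hg : g ∈ LJ cs h T X J) (hk : g ^ p ^ k = 1) : g ∈ RGD.Sup X (RootsJ cs h J) := by
  obtain ⟨t, ht, s, hs, e⟩ := (mem_LJ_iff R).1 hg
  have hnorm : T ≤ Subgroup.normalizer (RGD.Sup X (RootsJ cs h J) : Set Y) := R.T_le_normalizer fun _ hx => hx.1
  have h1 : ∀ m : ℕ, ∃ s' ∈ RGD.Sup X (RootsJ cs h J), g ^ m = t ^ m * s' := by
    intro m
    induction m with
    | zero => exact ⟨1, one_mem _, by simp⟩
    | succ m ih =>
      obtain ⟨s', hs', e'⟩ := ih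
      have h2 : t⁻¹ * s' * t ∈ RGD.Sup X (RootsJ cs h J) := by
        have := (Subgroup.mem_normalizer_iff.1 (inv_mem (hnorm ht)) s').1 hs'
        rwa [inv_inv] at this
      refine ⟨(t⁻¹ * s' * t) * s, mul_mem h2 hs, ?_⟩
      rw [pow_succ, e', e, pow_succ]
      group
  obtain ⟨s', hs', e'⟩ := h1 (Nat.card T)
  have h2 : t ^ Nat.card T = 1 := by
    have := pow_card_eq_one' (G := T) (x := ⟨t, ht⟩)
    exact congrArg Subtype.val this
  rw [h2, one_mul] at e'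
  have h3 : (Nat.card T).Coprime (orderOf g) := by
    refine Nat.Coprime.coprime_dvd_right (orderOf_dvd_of_pow_eq_one hk) ?_
    exact (Nat.Coprime.pow_left k ((Nat.Prime.coprime_iff_not_dvd hp.out).2 hpT)).symm
  obtain ⟨m, hm⟩ := exists_pow_eq_self_of_coprime h3
  rw [← hm, e']
  exact pow_mem hs' m

theorem exists_sylow_le [Finite W] [Finite Y] {p : ℕ} [hp : Fact p.Prime] [hr : Fact r.Prime] (hpr : p ≠ r)
    (hpT : ¬ p ∣ Nat.card T) {J0 D : Set I} (hJD : J0 ⊆ D) (hidx : ¬ p ∣ (PJ cs h T X D).index)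
    (hdvd : p ∣ Nat.card (PJ cs h T X J0)) :
    ∃ (P : Sylow p Y) (x : Y), (P : Subgroup Y) ≤ RGD.Sup X (RootsJ cs h D) ∧ x ∈ (P : Subgroup Y) ∧
      x ∈ RGD.Sup X (RootsJ cs h J0) ∧ orderOf x = p := by
  have h1 : p ∣ Nat.card (LJ cs h T X J0) := by
    rw [card_PJ_eq R] at hdvd
    exact (hp.out.dvd_mul.1 hdvd).resolve_right (not_dvd_VJ R hpr J0)
  obtain ⟨⟨x, hx⟩, hxp⟩ := exists_prime_orderOf_dvd_card' p h1
  rw [Subgroup.orderOf_mk] at hxp
  have hx0 : x ∈ RGD.Sup X (RootsJ cs h J0) :=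
    mem_S_of_pow R (k := 1) hpT hx (by rw [pow_one, ← hxp]; exact pow_orderOf_eq_one x)
  have hxD : x ∈ LJ cs h T X D := LJ_mono hJD hx
  obtain ⟨P, hP, hxP⟩ := exists_sylow_of_index (not_dvd_LJ_index R hpr hidx) hxD hxp
  refine ⟨P, x, ?_, hxP, hx0, hxp⟩
  intro y hy
  obtain ⟨k, hk⟩ := P.2 ⟨y, hy⟩
  exact mem_S_of_pow R (k := k) hpT (hP hy) (congrArg Subtype.val hk)

end Cfsg.Agent.H422.RatB
end

-- part: H422/RatB/E7
section
/-!
# `E7(q)`, `p ∣ q ^ 2 + 1` : the count for the action on `G / P_{D6}` (B0-RAT T9, helper422)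
-/

set_option autoImplicit false
set_option linter.unusedSectionVars false
set_option maxRecDepth 100000

namespace Cfsg.Agent.H422.RatB

open CoxeterSystem Cfsg.Agent.ChevalleyStructure.CoxeterGeom Cfsg.Agent.Tits.Roots Cfsg.Agent.Tits.Core
  Cfsg.Agent.Tits.RootComb Cfsg.Agent.Tits.Exchange Cfsg.Agent.Nodes.Reps Cfsg.Agent.Nodes.BNOf
  Cfsg.Agent.Nodes.StabComb Cfsg.Agent.Nodes.Bruhat Cfsg.Agent.Nodes.LeviDec Cfsg.Agent.Nodes.Coroot
  Cfsg.Agent.KFacts.RgdPar Cfsg.Agent.KFacts.RgdSL Cfsg.Agent.KFacts.RgdTI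
  Cfsg.Agent.H35.Poin Cfsg.Agent.H35.PoinNum Cfsg.Agent.H116.RatB0
  Cfsg.Agent.H35.ExcIdx Cfsg.Agent.ChevalleyStructure.CoxeterGeomTypes Cfsg.Lie
open Cfsg.Agent.Nodes.RGDChev Cfsg.Agent.ChevalleyStructure.NPerm

/-! ### numbers -/

/-- `-1` is not a square modulo `3` -/
theorem sq_ne_three : ∀ x : ZMod 3, x ^ 2 ≠ -1 := by decide

section num

variable {q p : ℕ} [hp : Fact p.Prime] (h2 : p ≠ 2) (hq : 1 ≤ q) (hd : p ∣ q ^ 2 + 1)

include hd in
theorem sq_eq : (q : ZMod p) ^ 2 = -1 := by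
  have h1 := (ZMod.natCast_eq_zero_iff (q ^ 2 + 1) p).2 hd
  push_cast at h1
  linear_combination h1

include h2 in
theorem two_ne : (2 : ZMod p) ≠ 0 := by
  intro h1
  have h3 : ((2 : ℕ) : ZMod p) = 0 := by exact_mod_cast h1
  rw [ZMod.natCast_eq_zero_iff] at h3
  exact h2 ((Nat.prime_dvd_prime_iff_eq hp.out Nat.prime_two).1 h3)

include hd in
theorem three_ne : (3 : ZMod p) ≠ 0 := by
  intro h1
  have h3 : ((3 : ℕ) : ZMod p) = 0 := by exact_mod_cast h1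
  rw [ZMod.natCast_eq_zero_iff] at h3
  have h4 := (Nat.prime_dvd_prime_iff_eq hp.out Nat.prime_three).1 h3
  subst h4
  have h5 := sq_eq (p := 3) hd
  exact sq_ne_three _ h5

include hq in
theorem cast_pow_sub (d : ℕ) : ((q ^ d - 1 : ℕ) : ZMod p) = (q : ZMod p) ^ d - 1 := by
  rw [Nat.cast_sub (Nat.one_le_pow _ _ hq)]
  push_cast
  rfl

include h2 hq hd in
theorem not_dvd_sub : ∀ d ∈ [1, 2, 3, 6, 10, 14, 18], ¬ p ∣ q ^ d - 1 := by
  intro d hd'
  rw [← ZMod.natCast_eq_zero_iff, cast_pow_sub hq]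
  have e := sq_eq hd
  have t := two_ne h2
  set Q := (q : ZMod p)
  simp only [List.mem_cons, List.not_mem_nil, or_false] at hd'
  rcases hd' with rfl | rfl | rfl | rfl | rfl | rfl | rfl <;> intro h1 <;> apply t
  · have h3 : Q = 1 := by linear_combination h1
    rw [h3] at e
    linear_combination e
  · linear_combination e - h1
  · have h3 : Q = -1 := by linear_combination Q * e - h1
    rw [h3] at e
    linear_combination e
  · linear_combination (Q ^ 4 - Q ^ 2 + 1) * e - h1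
  · linear_combination (Q ^ 8 - Q ^ 6 + Q ^ 4 - Q ^ 2 + 1) * e - h1
  · linear_combination (Q ^ 12 - Q ^ 10 + Q ^ 8 - Q ^ 6 + Q ^ 4 - Q ^ 2 + 1) * e - h1
  · linear_combination (Q ^ 16 - Q ^ 14 + Q ^ 12 - Q ^ 10 + Q ^ 8 - Q ^ 6 + Q ^ 4 - Q ^ 2 + 1) * e - h1

theorem not_dvd_prod {l : List ℕ} (hl : ∀ d ∈ l, ¬ p ∣ q ^ d - 1) : ¬ p ∣ pr q l := by
  induction l with
  | nil => rw [pr_nil, Nat.dvd_one]; exact hp.out.one_lt.ne'
  | cons d l ih =>
    rw [pr_cons, hp.out.dvd_mul, not_or]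
    exact ⟨hl d List.mem_cons_self, ih fun e he => hl e (List.mem_cons_of_mem _ he)⟩

include h2 hd in
/-- the index of `P_{D4}` -/
theorem not_dvd_idx (hq2 : 2 ≤ q) {idx : ℕ} (h : idx * pr q [1, 1, 1, 2, 4, 4, 6] = pr q [2, 6, 8, 10, 12, 14, 18]) :
    ¬ p ∣ idx := by
  have hq : 1 ≤ q := by omega
  have pos : ∀ d, 0 < d → 0 < q ^ d - 1 := fun d hd => by
    have h1 : q ^ 1 ≤ q ^ d := Nat.pow_le_pow_right (by omega) hd
    rw [pow_one] at h1
    omega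
  have h8 : q ^ 8 - 1 = (q ^ 4 - 1) * (q ^ 4 + 1) := by
    have h1 : 1 ≤ q ^ 4 := Nat.one_le_pow _ _ hq
    have h3 : 1 ≤ q ^ 8 := Nat.one_le_pow _ _ hq
    zify [h1, h3]
    ring
  have h12 : q ^ 12 - 1 = (q ^ 4 - 1) * (q ^ 8 + q ^ 4 + 1) := by
    have h1 : 1 ≤ q ^ 4 := Nat.one_le_pow _ _ hq
    have h3 : 1 ≤ q ^ 12 := Nat.one_le_pow _ _ hq
    zify [h1, h3]
    ring
  simp only [pr_cons, pr_nil, h8, h12] at h
  have h3 : idx * (q ^ 1 - 1) ^ 3 = (q ^ 4 + 1) * (q ^ 8 + q ^ 4 + 1) * ((q ^ 10 - 1) * (q ^ 14 - 1) * (q ^ 18 - 1)) := by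
    have h4 : 0 < (q ^ 2 - 1) * (q ^ 6 - 1) * (q ^ 4 - 1) ^ 2 :=
      Nat.mul_pos (Nat.mul_pos (pos 2 (by norm_num)) (pos 6 (by norm_num))) (pow_pos (pos 4 (by norm_num)) 2)
    refine Nat.eq_of_mul_eq_mul_right h4 ?_
    calc _ = idx * ((q ^ 1 - 1) * ((q ^ 1 - 1) * ((q ^ 1 - 1) * ((q ^ 2 - 1) * ((q ^ 4 - 1) * ((q ^ 4 - 1) *
            ((q ^ 6 - 1) * 1))))))) := by ring
      _ = _ := by rw [h]; ring
  intro h4
  have h5 : p ∣ (q ^ 4 + 1) * (q ^ 8 + q ^ 4 + 1) * ((q ^ 10 - 1) * (q ^ 14 - 1) * (q ^ 18 - 1)) := by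
    rw [← h3]
    exact h4.mul_right _
  have e := sq_eq hd
  have t := two_ne h2
  have t3 := three_ne hd
  have nd := not_dvd_sub h2 hq hd
  rw [hp.out.dvd_mul, hp.out.dvd_mul, hp.out.dvd_mul, hp.out.dvd_mul] at h5
  rcases h5 with (h5 | h5) | (h5 | h5) | h5
  · rw [← ZMod.natCast_eq_zero_iff] at h5
    push_cast at h5
    apply t
    linear_combination h5 - ((q : ZMod p) ^ 2 - 1) * e
  · rw [← ZMod.natCast_eq_zero_iff] at h5
    push_cast at h5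
    apply t3
    linear_combination h5 - ((q : ZMod p) ^ 6 - (q : ZMod p) ^ 4 + 2 * (q : ZMod p) ^ 2 - 2) * e
  · exact nd 10 (by simp) h5
  · exact nd 14 (by simp) h5
  · exact nd 18 (by simp) h5

end num

/-! ### the instance -/

universe u

variable (K : Type u) [Field K] [Fintype K]

/-- **the count** -/
theorem cnt_E7 {p : ℕ} [hp' : Fact p.Prime] (h2 : p ≠ 2) (hd : p ∣ Fintype.card K ^ 2 + 1) :
    ∃ P : Sylow p (chevE7.group K), ¬ (H145.BR.cnt (P : Subgroup (chevE7.group K)) (chevE7.group K ⧸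
      PJ CoxeterMatrix.E₇.toCoxeterSystem hpE7.isCartan (TT chevE7 K) (XX chevE7 7 K) {j | j ≠ 0}) :) ≡ 1 [MOD p] := by
  obtain ⟨r, f, _, hr, hf, hK⟩ := exists_pow K
  have : Fact r.Prime := ⟨hr⟩
  rw [hK] at hd
  set q := r ^ f with hqdef
  have hq2 : 2 ≤ q := two_le hr hf
  have hq : 1 ≤ q := by omega
  set cs := CoxeterMatrix.E₇.toCoxeterSystem
  have hfin := finite_W hpE7 cs
  have hR := rgd (K := K) hpE7 cs r
  have hc : ∀ i, Nat.card (XX chevE7 7 K (sr i)) = q := fun i => by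
    rw [card_XX hpE7 K cs (isRoot_sr _ _ i), Nat.card_eq_fintype_card, hK]
  have hG := GG_eq_top hpE7 K cs
  have nd := not_dvd_sub h2 hq hd
  have hpr : p ≠ r := by
    rintro rfl
    have h3 : p ∣ q ^ 2 := dvd_pow (dvd_pow_self p hf) two_ne_zero
    exact hp'.out.one_lt.ne' (Nat.dvd_one.1 ((Nat.dvd_add_right h3).1 hd))
  have hnd1 : ¬ p ∣ (q - 1) ^ 7 := by
    intro h3
    have h4 := nd 1 (by simp)
    rw [pow_one] at h4
    exact h4 (hp'.out.dvd_of_dvd_pow h3)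
  -- the torus
  have hg : Nat.gcd 2 (q - 1) ∣ q - 1 := Nat.gcd_dvd_right _ _
  have hTc : Nat.gcd 2 (q - 1) * Nat.card (chevE7.diagonalSubgroup K) = (q - 1) ^ 7 := by
    rw [← hK]
    exact Cfsg.Agent.S1035.result rfl (chevE7, Nat.gcd 2 (Fintype.card K - 1)) (by simp only [_root_.List.mem_cons, _root_.Prod.mk.injEq, _root_.Nat.coprime_two_left, _root_.and_true, _root_.List.not_mem_nil, _root_.or_false, _root_.true_or, _root_.or_true])
  have hT1 : Nat.card (TT chevE7 K) = Nat.card (chevE7.diagonalSubgroup K) :=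
    Nat.card_congr (Subgroup.subgroupOfEquivOfLe
      (Cfsg.Agent.ChevalleyStructure.Elts.diagonal_le_group hpE7.inList K)).toEquiv
  have hpT : ¬ p ∣ Nat.card (TT chevE7 K) := by
    intro h3
    apply hnd1
    rw [← hTc, ← hT1]
    exact h3.mul_left _
  have hpB : ¬ p ∣ Nat.card ↥(RGD.B cs hpE7.isCartan (TT chevE7 K) (XX chevE7 7 K)) := by
    rw [card_B' hR, hp'.out.dvd_mul, not_or]
    refine ⟨fun h3 => ?_, hpT⟩
    obtain ⟨m, hm⟩ := IsPGroup.iff_card.1 hR.isPGroup_Upos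
    rw [hm] at h3
    exact hpr ((Nat.prime_dvd_prime_iff_eq hp'.out hr).1 (hp'.out.dvd_of_dvd_pow h3))
  -- the parabolic subgroups without `p`
  have small : ∀ (J : List (Fin 7)) (D : List ℕ),
      ParOrd cs hpE7.isCartan (TT chevE7 K) (XX chevE7 7 K) q 7 J D → (∀ d ∈ D, ¬ p ∣ q ^ d - 1) →
      ¬ p ∣ Nat.card (PJ cs hpE7.isCartan (TT chevE7 K) (XX chevE7 7 K) {j | j ∈ J}) := by
    rintro J D ⟨N, h3, h4⟩ hD
    rw [h3, hp'.out.dvd_mul, not_or]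
    refine ⟨fun h5 => not_dvd_prod hD ?_, hpB⟩
    rw [← h4]
    exact h5.mul_right _
  have o13 : ParOrd cs hpE7.isCartan (TT chevE7 K) (XX chevE7 7 K) q 7 [1, 3] [1, 1, 1, 1, 1, 2, 3] :=
    ParOrd.path (ParOrd.nil hR) hR hq2 hc (C := [1, 3]) (i0 := 1) (by constructor <;> decide +kernel) (by decide)
  have o23 : ParOrd cs hpE7.isCartan (TT chevE7 K) (XX chevE7 7 K) q 7 [2, 3] [1, 1, 1, 1, 1, 2, 3] :=
    ParOrd.path (ParOrd.nil hR) hR hq2 hc (C := [2, 3]) (i0 := 1) (by constructor <;> decide +kernel) (by decide)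
  have o2 : ParOrd cs hpE7.isCartan (TT chevE7 K) (XX chevE7 7 K) q 7 [2] [1, 1, 1, 1, 1, 1, 2] :=
    ParOrd.path (ParOrd.nil hR) hR hq2 hc (C := [2]) (i0 := 1) (by constructor <;> decide +kernel) (by decide)
  have o12 : ParOrd cs hpE7.isCartan (TT chevE7 K) (XX chevE7 7 K) q 7 [1, 2] [1, 1, 1, 1, 1, 2, 2] :=
    ParOrd.path o2 hR hq2 hc (C := [1]) (i0 := 1) (by constructor <;> decide +kernel) (by decide)
  have nd' : ∀ d ∈ [1, 1, 1, 1, 1, 2, 3], ¬ p ∣ q ^ d - 1 := fun d hd' => nd d (by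
    simp only [List.mem_cons, List.not_mem_nil, or_false] at hd' ⊢; (clear * - hd'; omega))
  have nd'' : ∀ d ∈ [1, 1, 1, 1, 1, 2, 2], ¬ p ∣ q ^ d - 1 := fun d hd' => nd d (by
    simp only [List.mem_cons, List.not_mem_nil, or_false] at hd' ⊢; (clear * - hd'; omega))
  have hKJ : ∀ K' : Set (Fin 7), K' ⊆ {1, 2, 3} → K' ≠ {1, 2, 3} →
      ¬ p ∣ Nat.card (PJ cs hpE7.isCartan (TT chevE7 K) (XX chevE7 7 K) K') := by
    intro K' h3 h4
    have key : ∀ J : List (Fin 7), K' ⊆ {j | j ∈ J} →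
        ¬ p ∣ Nat.card (PJ cs hpE7.isCartan (TT chevE7 K) (XX chevE7 7 K) {j | j ∈ J}) →
        ¬ p ∣ Nat.card (PJ cs hpE7.isCartan (TT chevE7 K) (XX chevE7 7 K) K') := by
      intro J h5 h6 h7
      exact h6 (h7.trans (Subgroup.card_dvd_of_le
        (sup_le ((LJ_mono h5).trans LJ_le_PJ) ((VJ_le_B K').trans B_le_PJ))))
    have h5 : ∃ i ∈ ({1, 2, 3} : Set (Fin 7)), i ∉ K' := by
      by_contra hcon
      push Not at hcon
      exact h4 (Set.Subset.antisymm h3 hcon)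
    obtain ⟨i, hi, hi'⟩ := h5
    simp only [Set.mem_insert_iff, Set.mem_singleton_iff] at hi
    have h6 : ∀ j ∈ K', (j = 1 ∨ j = 2 ∨ j = 3) ∧ j ≠ i := fun j hj =>
      ⟨by simpa using h3 hj, fun e => hi' (e ▸ hj)⟩
    rcases hi with rfl | rfl | rfl
    · refine key [2, 3] (fun j hj => ?_) (small _ _ o23 nd')
      obtain ⟨h7 | h7 | h7, h8⟩ := h6 j hj
      · exact absurd h7 h8
      · simp [h7]
      · simp [h7]
    · refine key [1, 3] (fun j hj => ?_) (small _ _ o13 nd')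
      obtain ⟨h7 | h7 | h7, h8⟩ := h6 j hj
      · simp [h7]
      · exact absurd h7 h8
      · simp [h7]
    · refine key [1, 2] (fun j hj => ?_) (small _ _ o12 nd'')
      obtain ⟨h7 | h7 | h7, h8⟩ := h6 j hj
      · simp [h7]
      · simp [h7]
      · exact absurd h7 h8
  have e123 : ({j | j ∈ ([1, 2, 3] : List (Fin 7))} : Set (Fin 7)) = {1, 2, 3} := by ext j; simp
  have e1234 : ({j | j ∈ ([1, 2, 3, 4] : List (Fin 7))} : Set (Fin 7)) = {1, 2, 3, 4} := by ext j; simp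
  have hdvd : p ∣ Nat.card (PJ cs hpE7.isCartan (TT chevE7 K) (XX chevE7 7 K) {1, 2, 3}) := by
    obtain ⟨N, h3, h4⟩ := oE7_123 hR hq2 hc
    rw [← e123, h3]
    refine Dvd.dvd.mul_right ?_ _
    have h5 : p ∣ N * (q - 1) ^ 7 := by
      rw [h4]
      have h6 : p ∣ q ^ 4 - 1 := by
        rw [← ZMod.natCast_eq_zero_iff, cast_pow_sub hq]
        linear_combination ((q : ZMod p) ^ 2 - 1) * sq_eq hd
      simp only [pr_cons]
      exact h6.mul_right _ |>.mul_left _ |>.mul_left _ |>.mul_left _ |>.mul_left _ |>.mul_left _ |>.mul_left _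
    exact (hp'.out.dvd_mul.1 h5).resolve_right hnd1
  have hidx : ¬ p ∣ (PJ cs hpE7.isCartan (TT chevE7 K) (XX chevE7 7 K) {1, 2, 3, 4}).index := by
    rw [← e1234]
    refine not_dvd_idx h2 hd hq2 (idx_of_parOrd hpE7 K hr hf hK cs hg (by rw [hTc]; rfl)
      (dS := [2, 6, 8, 10, 12, 14, 18]) (by decide) ⟨f * 63, ?_⟩ (oE7_1234 hR hq2 hc))
    have h3 := Cfsg.Agent.S1064.result hK
    rw [pow_mul]
    simp only [pr_cons, pr_nil]
    rw [h3]
    ring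
  obtain ⟨P, x, hP, hxP, hx0, hxp⟩ := exists_sylow_le hR hpr hpT (J0 := {1, 2, 3}) (D := {1, 2, 3, 4})
    (by intro j hj; simp only [Set.mem_insert_iff, Set.mem_singleton_iff] at hj ⊢; (clear * - hj; itauto)) hidx hdvd
  refine ⟨P, ?_⟩
  -- the root groups
  have L : LR hR th7 := by
    refine LR.of_SL hR (sl7 cs) (root_th7 cs) (isRoot_sr cs hpE7.isCartan 0) ?_
    rw [← sl7 cs _ _ (isRoot_sr cs hpE7.isCartan 0) (root_th7 cs), cpr_sr_th7]
    rfl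
  -- the simple roots are conjugate
  have hM : ∀ i : Fin 7, ∃ w ∈ WJ cs ({j | j ≠ 0} : Set (Fin 7)), i ≠ 0 → rep cs hpE7.isCartan w (sr 6) = sr i := by
    have s1 : ∀ i j : Fin 7, i ≠ 0 → j ≠ 0 → cs.simple i * cs.simple j ∈ WJ cs ({j | j ≠ 0} : Set (Fin 7)) :=
      fun i j hi hj => mul_mem (simple_mem_WJ cs hi) (simple_mem_WJ cs hj)
    have step : ∀ i j : Fin 7, i ≠ 0 → j ≠ 0 → CoxeterMatrix.E₇ i j = 3 →
        (∃ w ∈ WJ cs ({j | j ≠ 0} : Set (Fin 7)), rep cs hpE7.isCartan w (sr 6) = sr i) →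
        ∃ w ∈ WJ cs ({j | j ≠ 0} : Set (Fin 7)), rep cs hpE7.isCartan w (sr 6) = sr j := by
      rintro i j hi hj hij ⟨w, hw, e⟩
      exact ⟨_, mul_mem (s1 i j hi hj) hw, by rw [rep_mul_apply, e, sr_step cs hij]⟩
    have t6 : ∃ w ∈ WJ cs ({j | j ≠ 0} : Set (Fin 7)), rep cs hpE7.isCartan w (sr 6) = sr 6 :=
      ⟨1, one_mem _, by rw [map_one]; rfl⟩
    have t5 := step 6 5 (by decide) (by decide) (by decide) t6
    have t4 := step 5 4 (by decide) (by decide) (by decide) t5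
    have t3 := step 4 3 (by decide) (by decide) (by decide) t4
    have t2 := step 3 2 (by decide) (by decide) (by decide) t3
    have t1 := step 3 1 (by decide) (by decide) (by decide) t3
    intro i
    fin_cases i
    · exact ⟨1, one_mem _, fun h => absurd rfl h⟩
    · obtain ⟨w, hw, e⟩ := t1; exact ⟨w, hw, fun _ => e⟩
    · obtain ⟨w, hw, e⟩ := t2; exact ⟨w, hw, fun _ => e⟩
    · obtain ⟨w, hw, e⟩ := t3; exact ⟨w, hw, fun _ => e⟩
    · obtain ⟨w, hw, e⟩ := t4; exact ⟨w, hw, fun _ => e⟩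
    · obtain ⟨w, hw, e⟩ := t5; exact ⟨w, hw, fun _ => e⟩
    · obtain ⟨w, hw, e⟩ := t6; exact ⟨w, hw, fun _ => e⟩
  have h60 : ∃ w, rep cs hpE7.isCartan w (sr 6) = sr 0 := by
    obtain ⟨w, -, e⟩ := hM 2
    exact ⟨(cs.simple 2 * cs.simple 0) * w, by rw [rep_mul_apply, e (by decide), sr_step cs (by decide)]⟩
  have hall : ∀ i : Fin 7, ∃ w, rep cs hpE7.isCartan w (sr 6) = sr i := by
    intro i
    by_cases hi : i = 0
    · subst hi; exact h60
    · obtain ⟨w, -, e⟩ := hM i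
      exact ⟨w, e hi⟩
  obtain ⟨w0, i0, hw0⟩ := root_th7 cs
  obtain ⟨w1, hw1⟩ := hall i0
  have hth : rep cs hpE7.isCartan (w0 * w1) (sr 6) = th7 := by rw [rep_mul_apply, hw1]; exact hw0.symm
  obtain ⟨w5, hw5⟩ := hall 5
  have h6 : rep cs hpE7.isCartan (w0 * w1)⁻¹ th7 = sr 6 := by rw [← hth, rep_inv_apply]
  have h5 : rep cs hpE7.isCartan (w5 * (w0 * w1)⁻¹) th7 = sr 5 := by rw [rep_mul_apply, h6, hw5]
  have hcp : ∀ i j : Fin 7, cpr cs hpE7.isCartan (sr i) (sr j) = cartanOf chevE7 7 j i := by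
    intro i j
    rw [cpr_sr, sr, pairing_single, mul_one]
  have h7 := cnt_ne hR L (dom_th7 cs) hG (sl7 cs) hKJ (J0 := {1, 2, 3}) (D := {1, 2, 3, 4})
    (by intro j hj; simp only [Set.mem_insert_iff, Set.mem_singleton_iff] at hj ⊢; (clear * - hj; itauto))
    (fun i hi => by
      rw [cpr_sr_th7, if_neg]
      rintro rfl
      simp only [Set.mem_insert_iff, Set.mem_singleton_iff] at hi
      revert hi
      decide)
    (fun w hw => h3_th7 cs ((root_th7 cs).act w) hw) P hP hxP hx0 hxp (β := sr 6) (r0 := sr 5) h6 h5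
    (fun i hi => by
      simp only [Set.mem_insert_iff, Set.mem_singleton_iff] at hi
      rw [hcp]
      rcases hi with rfl | rfl | rfl <;> decide +kernel)
    (by rw [hcp]; decide +kernel)
    (fun i hi => by
      simp only [Set.mem_insert_iff, Set.mem_singleton_iff] at hi
      rw [hcp]
      rcases hi with rfl | rfl | rfl | rfl <;> decide +kernel)
    (by
      rw [zero_th7]
      intro z hz
      obtain ⟨w, hw, j, hj, e⟩ := exists_of_mem_RootsJ hz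
      obtain ⟨w', hw', e'⟩ := hM j
      exact ⟨w * w', mul_mem hw hw', by rw [rep_mul_apply, e' hj, e]⟩)
  rw [zero_th7] at h7
  exact h7

end Cfsg.Agent.H422.RatB
end

-- part: H422/RatB/PermAut
section
/-!
# The permutation characters on `S / P_J` are invariant under automorphisms (B0-RAT T9, helper422)

`permC_aut` : if every symmetry of the diagram preserves `J`, the permutation character of `S` on `S / P_J` is invariant
under `Aut S`.
-/

set_option autoImplicit false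
set_option linter.unusedSectionVars false

namespace Cfsg.Agent.H422.RatB

open Cfsg CoxeterSystem Cfsg.Agent.ChevalleyStructure.CoxeterGeom Cfsg.Agent.Tits.Roots Cfsg.Agent.Tits.Core
  Cfsg.Agent.Nodes.BNOf Cfsg.Agent.Nodes.Bruhat Cfsg.Agent.Nodes.LeviDec
  Cfsg.Agent.KFacts.RgdDiag Cfsg.Agent.H554.RG Cfsg.Agent.H116.RatB0

universe u

variable {I W : Type*} {S : Type u} [Fintype I] [DecidableEq I] [Group W] [Group S] {M : CoxeterMatrix I}
  {cs : CoxeterSystem M W} {A : I → I → ℤ} {h : IsCartan M A} {r : ℕ} {T : Subgroup S} {n : I → S}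
  {X : (I → ℤ) → Subgroup S} (R : RGD cs h r T n X)

include R in
/-- the permutation character on `S / P_J` is invariant under the automorphisms of `S` if the symmetries of the diagram
preserve `J` -/
theorem permC_aut [Finite W] [Finite S] [Fact r.Prime] (hG : GG cs h T X = ⊤) {J : Set I}
    (hJ : ∀ σ : Equiv.Perm I, (∀ i j, M (σ i) (σ j) = M i j) → σ '' J = J) (a : MulAut S) (g : S) :
    H145.BR.permC S (S ⧸ PJ cs h T X J) (a g) = H145.BR.permC S (S ⧸ PJ cs h T X J) g := by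
  obtain ⟨s, σ, hσ⟩ := exists_std_conj R hG a
  have h1 := hJ σ fun i j => Diag.matrix (R := R) hσ.diag i j
  have h2 := map_PJ R hG hσ J
  rw [h1] at h2
  have h3 := fix_map (MulAut.conj s * a) (PJ cs h T X J) g
  rw [h2] at h3
  have h4 := fix_map (MulAut.conj s) (PJ cs h T X J) (a g)
  have h5 := fix_conj s (PJ cs h T X J) (MulAut.conj s (a g))
  have h6 : (MulAut.conj s * a) g = MulAut.conj s (a g) := rfl
  rw [h6] at h3
  exact (h4.symm.trans h5).trans h3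

end Cfsg.Agent.H422.RatB
end

-- part: H422/RatB/RowE7
section
/-!
# `E7(q)`, `p ∣ q ^ 2 + 1` : the row (B0-RAT T9, helper422)
-/

set_option autoImplicit false
set_option linter.unusedSectionVars false
set_option maxRecDepth 100000

namespace Cfsg.Agent.H422.RatB

open Cfsg CoxeterSystem Cfsg.Agent.ChevalleyStructure.CoxeterGeom Cfsg.Agent.Tits.Roots Cfsg.Agent.Tits.Core
  Cfsg.Agent.Nodes.BNOf Cfsg.Agent.Nodes.Bruhat Cfsg.Agent.Nodes.LeviDec
  Cfsg.Agent.H35.ExcIdx Cfsg.Agent.ChevalleyStructure.CoxeterGeomTypes Cfsg.Lie Cfsg.Agent.H116.RatB0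
open Cfsg.Agent.Nodes.RGDChev Cfsg.Agent.ChevalleyStructure.NPerm
open Cfsg.Agent.H145.BR (RowZ permC)
open scoped ComplexConjugate

/-- the Coxeter matrix of type `E7` -/
def m7 (i j : Fin 7) : ℕ := (![![1, 2, 3, 2, 2, 2, 2], ![2, 1, 2, 3, 2, 2, 2], ![3, 2, 1, 3, 2, 2, 2],
  ![2, 3, 3, 1, 3, 2, 2], ![2, 2, 2, 3, 1, 3, 2], ![2, 2, 2, 2, 3, 1, 3], ![2, 2, 2, 2, 2, 3, 1]] :
  Fin 7 → Fin 7 → ℕ) i j

theorem m7_eq (i j : Fin 7) : CoxeterMatrix.E₇ i j = m7 i j := by rfl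

/-- a node with three neighbours is the node `3` -/
theorem e7_three : ∀ x a b c : Fin 7, m7 x a = 3 → m7 x b = 3 → m7 x c = 3 → a ≠ b → a ≠ c → b ≠ c → x = 3 := by
  decide +kernel

/-- a leaf at distance two of the node `3` is the node `0` -/
theorem e7_leaf : ∀ x y : Fin 7, m7 y 3 = 3 → m7 x y = 3 → x ≠ 3 → (∀ z : Fin 7, z ≠ x → z ≠ y → m7 x z = 2) →
    x = 0 := by
  decide +kernel

theorem e7_sym {σ : Equiv.Perm (Fin 7)} (hσ : ∀ i j, CoxeterMatrix.E₇ (σ i) (σ j) = CoxeterMatrix.E₇ i j) :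
    σ 0 = 0 := by
  simp only [m7_eq] at hσ
  have h3 : σ 3 = 3 := by
    refine e7_three (σ 3) (σ 1) (σ 2) (σ 4) ?_ ?_ ?_ ?_ ?_ ?_
    · rw [hσ]; decide +kernel
    · rw [hσ]; decide +kernel
    · rw [hσ]; decide +kernel
    · exact fun e => absurd (σ.injective e) (by decide)
    · exact fun e => absurd (σ.injective e) (by decide)
    · exact fun e => absurd (σ.injective e) (by decide)
  refine e7_leaf (σ 0) (σ 2) ?_ ?_ ?_ ?_
  · have h4 := hσ 2 3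
    rw [h3] at h4
    rw [h4]
    decide +kernel
  · rw [hσ]; decide +kernel
  · intro e
    rw [← h3] at e
    exact absurd (σ.injective e) (by decide)
  · intro z hz hz'
    obtain ⟨y, rfl⟩ := σ.surjective z
    rw [hσ]
    have h4 : y ≠ 0 := fun e => hz (by rw [e])
    have h5 : y ≠ 2 := fun e => hz' (by rw [e])
    clear hz hz' h3 hσ
    revert y
    decide +kernel

theorem e7_image {σ : Equiv.Perm (Fin 7)} (hσ : ∀ i j, CoxeterMatrix.E₇ (σ i) (σ j) = CoxeterMatrix.E₇ i j) :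
    σ '' {j | j ≠ 0} = {j | j ≠ 0} := by
  have h0 := e7_sym hσ
  ext i
  constructor
  · rintro ⟨j, hj, rfl⟩
    intro e
    apply hj
    rw [← h0] at e
    exact σ.injective e
  · intro hi
    refine ⟨σ⁻¹ i, ?_, by simp⟩
    intro e
    apply hi
    have h1 : σ (σ⁻¹ i) = σ 0 := by rw [e]
    rw [h0] at h1
    simpa using h1

universe u

variable (K : Type u) [Field K] [Fintype K]

/-- **The row**, from the integrality of the constituents. -/
theorem rowZ_E7_of_int {p : ℕ} [hp' : Fact p.Prime] (h2 : p ≠ 2) (hd : p ∣ Fintype.card K ^ 2 + 1)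
    [Fintype ↥(PJ CoxeterMatrix.E₇.toCoxeterSystem hpE7.isCartan (TT chevE7 K) (XX chevE7 7 K) {j | j ≠ 0})]
    (hint : ∀ χ : ↥(chevE7.group K) → ℂ, IsIrrCharacter ↥(chevE7.group K) χ →
      ∑ g : ↥(PJ CoxeterMatrix.E₇.toCoxeterSystem hpE7.isCartan (TT chevE7 K) (XX chevE7 7 K) {j | j ≠ 0}), χ g ≠ 0 →
      ∀ g, ∃ k : ℤ, χ g = k) : RowZ p ↥(chevE7.group K) := by
  classical
  obtain ⟨r, f, _, hr, hf, hK⟩ := exists_pow K
  have : Fact r.Prime := ⟨hr⟩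
  have hfin := finite_W hpE7 CoxeterMatrix.E₇.toCoxeterSystem
  have hR := rgd (K := K) hpE7 CoxeterMatrix.E₇.toCoxeterSystem r
  have hG := GG_eq_top hpE7 K CoxeterMatrix.E₇.toCoxeterSystem
  have : Fintype ↥(chevE7.group K) := Fintype.ofFinite _
  obtain ⟨P, hP⟩ := cnt_E7 K h2 hd
  refine (H145.BR.rowZ_of_cnt P _ (fun a _ g => permC_aut hR hG (fun σ hσ => e7_image hσ) a g) (fun χ hχ => ?_) hP :)
  refine hint χ χ.2 ?_
  intro h0
  apply hχ
  have h1 := H139.RealB0.Crit.classInner_fixedPointCharacter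
    (PJ CoxeterMatrix.E₇.toCoxeterSystem hpE7.isCartan (TT chevE7 K) (XX chevE7 7 K) {j | j ≠ 0}) χ
  rw [← map_sum, h0, map_zero, mul_zero] at h1
  exact h1

end Cfsg.Agent.H422.RatB
end

private theorem dce_65fd1f92dde9 : _root_.True := by
  try have : _root_.True := by simp only [_root_.Cfsg.Agent.Nodes.Coroot.ell.congr_simp]
  exact _root_.True.intro
end
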